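import Cfsg.Agent.Control.Family
import Cfsg.Agent.Core.PCore
import Cfsg.Agent.Layer.PConstraint
import Cfsg.Agent.Fusion.TransferTools

/-!
# Reduction of control of fusion and of transfer to constrained sections
-/

namespace Cfsg.Agent.Control

open Subgroup
open scoped commutatorElement

set_option linter.unusedSectionVars false

universe u

variable {p : ℕ}

/-! ### sections -/

/-- `Y` is a homomorphic image of a subgroup of `X`. -/
def IsSec (Y X : Type u) [Group Y] [Group X] : Prop :=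
  ∃ (K : Subgroup X) (f : K →* Y), Function.Surjective f

section sec

variable {X Y Z : Type u} [Group X] [Group Y] [Group Z]

theorem IsSec.refl : IsSec X X :=
  ⟨⊤, (⊤ : Subgroup X).subtype, fun x => ⟨⟨x, mem_top x⟩, rfl⟩⟩

theorem isSec_subgroup (H : Subgroup X) : IsSec H X :=
  ⟨H, MonoidHom.id H, fun x => ⟨x, rfl⟩⟩

theorem isSec_of_surjective {f : X →* Y} (hf : Function.Surjective f) : IsSec Y X :=
  ⟨⊤, f.comp (⊤ : Subgroup X).subtype, fun y => by
    obtain ⟨x, rfl⟩ := hf y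
    exact ⟨⟨x, mem_top x⟩, rfl⟩⟩

theorem IsSec.trans (h₁ : IsSec Z Y) (h₂ : IsSec Y X) : IsSec Z X := by
  obtain ⟨L, g, hg⟩ := h₁
  obtain ⟨K, f, hf⟩ := h₂
  let L' : Subgroup K := L.comap f
  let e : L' ≃* L'.map K.subtype := L'.equivMapOfInjective K.subtype K.subtype_injective
  refine ⟨L'.map K.subtype, (g.comp (f.subgroupComap L)).comp e.symm.toMonoidHom, fun z => ?_⟩
  obtain ⟨y, rfl⟩ := hg z
  obtain ⟨x, hx⟩ := hf y
  refine ⟨e ⟨x, show f x ∈ L from hx ▸ y.2⟩, ?_⟩
  simp only [MonoidHom.comp_apply, MulEquiv.coe_toMonoidHom, MulEquiv.symm_apply_apply]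
  exact congrArg g (Subtype.ext hx)

/-- A property invariant under isomorphisms holds for all sections once it holds for the quotients
of subgroups. -/
theorem of_sections (P : ∀ (W : Type u) [Group W], Prop)
    (hP : ∀ (W W' : Type u) [Group W] [Group W'], (W ≃* W') → P W → P W')
    (hX : ∀ (K R : Subgroup X) [(R.subgroupOf K).Normal], P (↥K ⧸ R.subgroupOf K))
    (h : IsSec Y X) : P Y := by
  obtain ⟨K, f, hf⟩ := h
  have hR : (f.ker.map K.subtype).subgroupOf K = f.ker :=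
    comap_map_eq_self_of_injective K.subtype_injective _
  have : ((f.ker.map K.subtype).subgroupOf K).Normal := by rw [hR]; infer_instance
  exact hP _ _ ((QuotientGroup.quotientMulEquivOfEq hR).trans
    (QuotientGroup.quotientKerEquivOfSurjective f hf)) (hX K (f.ker.map K.subtype))

theorem isSec_quotient (K R : Subgroup X) [(R.subgroupOf K).Normal] :
    IsSec (↥K ⧸ R.subgroupOf K) X :=
  ⟨K, QuotientGroup.mk' _, QuotientGroup.mk'_surjective _⟩

end sec

/-! ### induced functors -/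

variable (F : Set (∀ (Q : Type u) [Group Q], Subgroup Q))

/-- The functors induced on `X`. -/
def iF (X : Type u) [Group X] : Set (Subgroup X → Subgroup X) :=
  (fun W => Cfsg.inducedFunctor (G := X) W) '' F

/-- The induced family controls strong fusion in `X`. -/
def GFus (p : ℕ) (X : Type u) [Group X] : Prop :=
  Cfsg.FamilyControlsStrongFusionIn p (iF F X) ⊤

/-- The induced family controls transfer in `X`. -/
def GTr (p : ℕ) (X : Type u) [Group X] : Prop :=
  Cfsg.FamilyControlsTransferIn p (iF F X) ⊤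

variable {F}

section induced

variable {X Y : Type u} [Group X] [Group Y] [Finite X] [Fact p.Prime]
variable {W : ∀ (Q : Type u) [Group Q], Subgroup Q}

theorem inducedFunctor_map (hW : Cfsg.IsCharPFunctor.{u} p W) (f : X →* Y) {P : Subgroup X}
    (hP : IsPGroup p P) (hinj : Set.InjOn f P) :
    Cfsg.inducedFunctor (G := Y) W (P.map f) = (Cfsg.inducedFunctor (G := X) W P).map f := by
  have hbij : Function.Bijective (f.subgroupMap P) :=
    ⟨fun a b h => Subtype.ext (hinj a.2 b.2 (congrArg Subtype.val h)), f.subgroupMap_surjective P⟩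
  let e : P ≃* P.map f := MulEquiv.ofBijective _ hbij
  have h := hW.2 P (P.map f) hP e
  simp only [Cfsg.inducedFunctor]
  rw [← h, map_map, map_map]
  rfl

theorem isConjugacyFunctor_induced (hW : Cfsg.IsCharPFunctor.{u} p W) :
    Cfsg.IsConjugacyFunctor p (Cfsg.inducedFunctor (G := X) W) := by
  intro P hP
  refine ⟨map_subtype_le _, fun hne he => ?_, fun g => ?_⟩
  · have := (nontrivial_iff_ne_bot P).mpr hne
    exact hW.1 P hP this ((map_eq_bot_iff_of_injective _ P.subtype_injective).mp he)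
  · exact inducedFunctor_map hW _ hP ((MulAut.conj g).injective.injOn)

theorem isConjugacyFunctor_iF (hF : ∀ W ∈ F, Cfsg.IsCharPFunctor.{u} p W) :
    ∀ W ∈ iF F X, Cfsg.IsConjugacyFunctor p W := by
  rintro _ ⟨W, hW, rfl⟩
  exact isConjugacyFunctor_induced (hF W hW)

theorem normSet_map_le (hF : ∀ W ∈ F, Cfsg.IsCharPFunctor.{u} p W) (f : X →* Y) {T : Subgroup X}
    (hT : IsPGroup p T) (hinj : Set.InjOn f T) (H : Subgroup X) :
    ∀ N ∈ (fun N : Subgroup X => N.map f) '' normSet (iF F X) H T,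
      ∃ N' ∈ normSet (iF F Y) (H.map f) (T.map f), N ≤ N' := by
  rintro _ ⟨_, ⟨_, ⟨W, hW, rfl⟩, rfl⟩, rfl⟩
  refine ⟨_, ⟨_, ⟨W, hW, rfl⟩, rfl⟩, ?_⟩
  dsimp only
  rw [inducedFunctor_map (hF W hW) f hT hinj]
  exact (map_inf_le _ _ _).trans (inf_le_inf_left _ (le_normalizer_map f))

theorem famFus_map (hF : ∀ W ∈ F, Cfsg.IsCharPFunctor.{u} p W) {f : X →* Y}
    (hf : Function.Injective f) (h : GFus F p X) :
    Cfsg.FamilyControlsStrongFusionIn p (iF F Y) f.range := by
  obtain ⟨T, hT, hfus⟩ := famFus_iff.mp h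
  rw [MonoidHom.range_eq_map]
  refine famFus_iff.mpr ⟨T.map f, hT.map_injective hf, fun A g hg hA hgA => ?_⟩
  obtain ⟨g₀, -, rfl⟩ := hg
  have hA' : A = f '' (f ⁻¹' A) := (Set.image_preimage_eq_of_subset fun a ha => by
    obtain ⟨t, -, rfl⟩ := hA ha
    exact ⟨t, rfl⟩).symm
  rw [hA']
  refine ((hfus (f ⁻¹' A) g₀ (mem_top _) (fun a ha => ?_) (fun a ha => ?_)).map f).weaken
    (normSet_map_le hF f hT.isPGroup hf.injOn ⊤)
  · obtain ⟨t, ht, hte⟩ := hA ha
    exact hf hte ▸ ht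
  · obtain ⟨b, hb, rfl⟩ := ha
    obtain ⟨t, ht, hte⟩ := hgA ⟨f b, hb, rfl⟩
    have : t = g₀ * b * g₀⁻¹ := hf (by simpa using hte)
    change g₀ * b * g₀⁻¹ ∈ T
    exact this ▸ ht

theorem famTr_map (hF : ∀ W ∈ F, Cfsg.IsCharPFunctor.{u} p W) {f : X →* Y}
    (hf : Function.Injective f) (h : GTr F p X) :
    Cfsg.FamilyControlsTransferIn p (iF F Y) f.range := by
  obtain ⟨T, hT, htr⟩ := famTr_iff.mp h
  rw [MonoidHom.range_eq_map]
  refine famTr_iff.mpr ⟨T.map f, hT.map_injective hf, ?_⟩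
  rw [TrCtrl, ← map_commutator, ← map_inf_eq _ _ _ hf]
  exact (map_mono htr).trans ((map_tGen_le f _ _).trans
    (tGen_weaken (normSet_map_le hF f hT.isPGroup hf.injOn ⊤)))

theorem gFus_congr (hF : ∀ W ∈ F, Cfsg.IsCharPFunctor.{u} p W) (e : X ≃* Y) (h : GFus F p X) :
    GFus F p Y := by
  have := famFus_map hF (f := e.toMonoidHom) e.injective h
  rwa [MonoidHom.range_eq_top.mpr e.surjective] at this

theorem gTr_congr (hF : ∀ W ∈ F, Cfsg.IsCharPFunctor.{u} p W) (e : X ≃* Y) (h : GTr F p X) :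
    GTr F p Y := by
  have := famTr_map hF (f := e.toMonoidHom) e.injective h
  rwa [MonoidHom.range_eq_top.mpr e.surjective] at this

theorem fusCtrl_subgroup (hF : ∀ W ∈ F, Cfsg.IsCharPFunctor.{u} p W) (S : Sylow p X)
    {H : Subgroup X} (hSH : (S : Subgroup X) ≤ H) (h : GFus F p H) :
    FusCtrl (normSet (iF F X) ⊤ (S : Subgroup X)) (S : Subgroup X) H := by
  have h1 := famFus_map hF H.subtype_injective h
  rw [range_subtype] at h1
  have h2 := (famFus_iff_forall (isConjugacyFunctor_iF hF) ((sylIn_top S).mono hSH le_top)).mp h1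
  exact fun A g hg hA hgA => (h2 A g hg hA hgA).weaken (normSet_weaken le_top)

theorem trCtrl_subgroup (hF : ∀ W ∈ F, Cfsg.IsCharPFunctor.{u} p W) (S : Sylow p X)
    {H : Subgroup X} (hSH : (S : Subgroup X) ≤ H) (h : GTr F p H) :
    (S : Subgroup X) ⊓ ⁅H, H⁆ ≤ tGen (normSet (iF F X) ⊤ (S : Subgroup X)) (S : Subgroup X) := by
  have h1 := famTr_map hF H.subtype_injective h
  rw [range_subtype] at h1
  exact ((famTr_iff_forall (isConjugacyFunctor_iF hF) ((sylIn_top S).mono hSH le_top)).mp h1).trans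
    (tGen_weaken (normSet_weaken le_top))

end induced

/-! ### group lemmas -/

section lemmas

variable {X Y : Type u} [Group X] [Group Y] [Finite X] [hp : Fact p.Prime]

theorem normalizer_ne_top_of_pCore_eq_bot (hQ : Cfsg.pCore p X = ⊥) {D : Subgroup X}
    (hD : IsPGroup p D) (hne : D ≠ ⊥) : normalizer (D : Set X) ≠ ⊤ := fun he => by
  have := normalizer_eq_top_iff.mp he
  exact hne (le_bot_iff.mp (hQ ▸ Core.le_pCore hD))

theorem le_normalizer_commutator (M : Subgroup X) : M ≤ normalizer (⁅M, M⁆ : Subgroup X) := by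
  intro g hg
  refine mem_normalizer_of_cjSub_eq ?_
  rw [cjSub, map_commutator]
  change ⁅cjSub g M, cjSub g M⁆ = _
  rw [cjSub_eq_of_mem (le_normalizer hg)]

theorem injOn_sylow_of_coprime (S : Subgroup X) (hS : IsPGroup p S) (f : X →* Y)
    (hker : (Nat.card f.ker).Coprime p) : Set.InjOn f S := by
  intro a ha b hb hab
  have hk : a⁻¹ * b ∈ S ⊓ f.ker := mem_inf.mpr
    ⟨mul_mem (inv_mem ha) hb, MonoidHom.mem_ker.mpr (by rw [map_mul, map_inv, hab, inv_mul_cancel])⟩
  rw [Layer.inf_eq_bot_of_isPGroup hS hker, mem_bot] at hk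
  exact inv_mul_eq_one.mp hk

/-- Frattini argument with the product written in the other order. -/
theorem exists_eq_normalizer_mul {U C : Subgroup X} [C.Normal] (hU : SylIn p U C) (g : X) :
    ∃ y ∈ normalizer (U : Set X), ∃ c ∈ C, g = y * c := by
  have hn : normalizer (C : Set X) = ⊤ := normalizer_eq_top_iff.mpr inferInstance
  have h1 : SylIn p (cjSub g U) C := by
    have := hU.cjSub g
    rwa [cjSub_eq_of_mem (g := g) (H := C) (by rw [hn]; exact mem_top g)] at this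
  obtain ⟨c, hc, hce⟩ := hU.exists_conj h1
  rw [cjSub_cjSub] at hce
  refine ⟨c * g, mem_normalizer_of_cjSub_eq hce, (c * g)⁻¹ * c⁻¹ * (c * g), ?_, by group⟩
  have := (‹C.Normal›).conj_mem c⁻¹ (inv_mem hc) (c * g)⁻¹
  simpa using this

theorem sylow_inf_centralizer_sup_ne (hP' : Cfsg.pPrimeCore p X = ⊥)
    (hC : ¬ centralizer (Cfsg.pCore p X : Set X) ≤ Cfsg.pCore p X) (S : Sylow p X) :
    Cfsg.pCore p X < (S : Subgroup X) ⊓ (centralizer (Cfsg.pCore p X : Set X) ⊔ Cfsg.pCore p X) := by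
  set Q := Cfsg.pCore p X with hQ
  refine lt_of_le_of_ne (le_inf (Core.pCore_le_sylow S) le_sup_right) fun he => hC ?_
  have hCn : (centralizer (Q : Set X)).Normal := inferInstance
  set C := centralizer (Q : Set X) with hCdef
  obtain ⟨P, hP⟩ : ∃ P : Sylow p C, (P : Subgroup C) = ((S : Subgroup X) ⊓ C).subgroupOf C := by
    have h := (sylIn_top S).inf_normal (le_top : C ≤ ⊤)
      (by rw [normalizer_eq_top_iff.mpr hCn])
    exact ⟨(h.isPGroup.comap_subtype (K := C)).toSylow h.not_dvd, rfl⟩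
  have hPQ : ∀ x : C, x ∈ P → (x : X) ∈ Q := fun x hx => by
    have hx' : x ∈ ((S : Subgroup X) ⊓ C).subgroupOf C := hP ▸ hx
    rw [he]
    exact ⟨(mem_subgroupOf.mp hx').1, le_sup_left (a := C) x.2⟩
  have hcent : normalizer ((P : Subgroup C) : Set C) ≤ centralizer ((P : Subgroup C) : Set C) :=
    fun c _ => mem_centralizer_iff.mpr fun x hx =>
      Subtype.ext (mem_centralizer_iff.mp c.2 x (hPQ x hx))
  have hcomp := Fusion.hasNormalPComplement_of_normalizer_le_centralizer P hcent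
  have hcop := Fusion.hasNormalPComplement_iff.mp hcomp
  have : (Cfsg.pResidual p C).Characteristic := Fusion.pResidual_characteristic
  have hn : ((Cfsg.pResidual p C).map C.subtype).Normal :=
    ConjAct.normal_of_characteristic_of_normal
  have hbot : (Cfsg.pResidual p C).map C.subtype = ⊥ := le_bot_iff.mp <| hP' ▸
    Core.le_pPrimeCore (by rwa [card_map_of_injective C.subtype_injective])
  rw [map_eq_bot_iff_of_injective _ C.subtype_injective] at hbot
  have hCp : IsPGroup p C := by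
    intro g
    obtain ⟨k, hk⟩ := Fusion.isPGroup_quotient_pResidual (G := C) (p := p) (g : C ⧸ Cfsg.pResidual p C)
    refine ⟨k, ?_⟩
    rw [← QuotientGroup.mk_pow, QuotientGroup.eq_one_iff, hbot, mem_bot] at hk
    exact hk
  exact Core.le_pCore hCp

/-- An element of order prime to `p` that centralises `Q` and the image of `D` modulo `Q`
centralises `D`. -/
theorem conj_eq_self_of_coprime {f : X →* Y} {k d : X} (hk : (orderOf k).Coprime p)
    (hQ : IsPGroup p f.ker) (hkQ : ∀ q ∈ f.ker, k * q * k⁻¹ = q)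
    (hd : f (k * d * k⁻¹) = f d) : k * d * k⁻¹ = d := by
  set q := k * d * k⁻¹ * d⁻¹ with hq
  have hqker : q ∈ f.ker := by
    rw [MonoidHom.mem_ker, hq, map_mul, hd, map_inv, mul_inv_cancel]
  have hpow : ∀ i : ℕ, k ^ i * d * (k ^ i)⁻¹ = q ^ i * d := by
    intro i
    induction i with
    | zero => simp
    | succ i ih =>
      have hc : k * q ^ i * k⁻¹ = q ^ i := hkQ _ (pow_mem hqker i)
      calc k ^ (i + 1) * d * (k ^ (i + 1))⁻¹ = k * (k ^ i * d * (k ^ i)⁻¹) * k⁻¹ := by group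
        _ = k * (q ^ i * d) * k⁻¹ := by rw [ih]
        _ = (k * q ^ i * k⁻¹) * (k * d * k⁻¹ * d⁻¹) * d := by group
        _ = q ^ (i + 1) * d := by rw [hc, ← hq, pow_succ]
  have h1 : q ^ orderOf k = 1 := by
    have := hpow (orderOf k)
    rw [pow_orderOf_eq_one] at this
    simpa using this.symm
  obtain ⟨a, ha⟩ := hQ ⟨q, hqker⟩
  have h2 : q ^ p ^ a = 1 := congrArg Subtype.val ha
  have h3 : orderOf q = 1 := Nat.eq_one_of_dvd_coprimes (Nat.Coprime.pow_right a hk)
    (orderOf_dvd_of_pow_eq_one h1) (orderOf_dvd_of_pow_eq_one h2)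
  exact mul_inv_eq_one.mp (orderOf_eq_one_iff.mp h3)

theorem mem_centralizer_of_sup_eq_top {S : Sylow p X} {C : Subgroup X} [C.Normal]
    (h : (S : Subgroup X) ⊔ C = ⊤) {k : X} (hk : (orderOf k).Coprime p) : k ∈ C := by
  obtain ⟨s, hs, c, hc, rfl⟩ :=
    mem_sup_of_normal_right.mp (h ▸ mem_top k : k ∈ (S : Subgroup X) ⊔ C)
  obtain ⟨a, ha⟩ := S.2 ⟨s, hs⟩
  have hmap : QuotientGroup.mk' C (s * c) = QuotientGroup.mk' C s := by
    rw [map_mul, show QuotientGroup.mk' C c = 1 from (QuotientGroup.eq_one_iff c).mpr hc, mul_one]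
  have h1 : (QuotientGroup.mk' C (s * c)) ^ p ^ a = 1 := by
    rw [hmap, ← map_pow, show s ^ p ^ a = 1 from congrArg Subtype.val ha, map_one]
  have h2 : orderOf (QuotientGroup.mk' C (s * c)) = 1 :=
    Nat.eq_one_of_dvd_coprimes (Nat.Coprime.pow_right a hk) (orderOf_map_dvd _ _)
      (orderOf_dvd_of_pow_eq_one h1)
  exact (QuotientGroup.eq_one_iff (s * c)).mp (orderOf_eq_one_iff.mp h2)

/-- In `X = S C(Q)` an element normalising `D` and acting trivially on `D` modulo `Q` acts on `D` as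
an element of `S`. -/
theorem exists_sylow_act (S : Sylow p X) {f : X →* Y} (hQ : IsPGroup p f.ker)
    (hsup : (S : Subgroup X) ⊔ centralizer (f.ker : Set X) = ⊤) {D : Subgroup X}
    (hD : SylIn p ((S : Subgroup X) ⊓ normalizer (D : Set X)) (normalizer (D : Set X)))
    {k : X} (hk : k ∈ normalizer (D : Set X)) (hkD : ∀ d ∈ D, f (k * d * k⁻¹) = f d) :
    ∃ s ∈ (S : Subgroup X), s ∈ normalizer (D : Set X) ∧
      ∀ d ∈ D, k * d * k⁻¹ = s * d * s⁻¹ := by
  set K := normalizer (D : Set X) ⊓ (centralizer (D.map f : Set Y)).comap f with hK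
  have hmem : ∀ x, x ∈ K ↔ x ∈ normalizer (D : Set X) ∧ ∀ d ∈ D, f (x * d * x⁻¹) = f d := by
    intro x
    rw [hK, mem_inf, mem_comap, mem_centralizer_iff]
    refine and_congr_right fun _ => ⟨fun h d hd => ?_, ?_⟩
    · rw [map_mul, map_mul, map_inv, ← h (f d) ⟨d, hd, rfl⟩, mul_inv_cancel_right]
    · rintro h _ ⟨d, hd, rfl⟩
      have := h d hd
      rw [map_mul, map_mul, map_inv, mul_inv_eq_iff_eq_mul] at this
      exact this.symm
  have hKN : normalizer (D : Set X) ≤ normalizer (K : Set X) := by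
    intro g hg
    refine mem_normalizer_of_cjSub_eq (eq_of_le_of_card_ge ?_ (card_cjSub g K).ge)
    rintro _ ⟨x, hx, rfl⟩
    obtain ⟨hx1, hx2⟩ := (hmem x).mp hx
    refine (hmem _).mpr ⟨mul_mem (mul_mem hg hx1) (inv_mem hg), fun d hd => ?_⟩
    have hd' : g⁻¹ * d * g ∈ D := by
      simpa using (mem_normalizer_iff.mp (inv_mem hg) d).mp hd
    have := hx2 _ hd'
    calc f ((MulAut.conj g) x * d * ((MulAut.conj g) x)⁻¹)
        = f g * f (x * (g⁻¹ * d * g) * x⁻¹) * f g⁻¹ := by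
          rw [← map_mul, ← map_mul]; simp [mul_assoc]
      _ = f d := by rw [this, ← map_mul, ← map_mul]; simp [mul_assoc]
  have hR := hD.inf_normal (inf_le_left : K ≤ _) hKN
  set P : Sylow p K := (hR.isPGroup.comap_subtype (K := K)).toSylow hR.not_dvd
  let N : Subgroup K := (centralizer (D : Set X)).subgroupOf K
  have hCn : (centralizer (D : Set X)).subgroupOf (normalizer (D : Set X)) |>.Normal := inferInstance
  have : N.Normal := ⟨fun x hx g => by
    have hg := ((hmem g).mp g.2).1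
    have := hCn.conj_mem ⟨x, ((hmem x).mp x.2).1⟩ hx ⟨g, hg⟩
    exact this⟩
  have hq : IsPGroup p (↥K ⧸ N) := by
    intro z
    obtain ⟨x, rfl⟩ := QuotientGroup.mk_surjective z
    obtain ⟨a, m, hm, hord⟩ := Nat.exists_eq_pow_mul_and_not_dvd (orderOf_pos (x : X)).ne' p
      hp.out.ne_one
    refine ⟨a, ?_⟩
    rw [← QuotientGroup.mk_pow, QuotientGroup.eq_one_iff]
    change ((x ^ p ^ a : K) : X) ∈ centralizer (D : Set X)
    rw [SubmonoidClass.coe_pow]
    have hcop : (orderOf ((x : X) ^ p ^ a)).Coprime p := by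
      rw [orderOf_pow_of_dvd (pow_ne_zero _ hp.out.ne_zero) ⟨m, hord⟩, hord,
        Nat.mul_div_cancel_left _ (pow_pos hp.out.pos a)]
      exact (Nat.coprime_comm.mp (hp.out.coprime_iff_not_dvd.mpr hm))
    have hy := (hmem ((x : X) ^ p ^ a)).mp (pow_mem x.2 _)
    refine mem_centralizer_iff.mpr fun d hd => ?_
    have := conj_eq_self_of_coprime hcop hQ (fun q hq => by
      rw [mul_inv_eq_iff_eq_mul]
      exact (mem_centralizer_iff.mp (mem_centralizer_of_sup_eq_top hsup hcop) q hq).symm)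
      (hy.2 d hd)
    exact (mul_inv_eq_iff_eq_mul.mp this).symm
  have htop := Fusion.sylow_sup_eq_top_of_isPGroup_quotient P N hq
  obtain ⟨s, hs, c, hc, hsc⟩ := mem_sup_of_normal_right.mp
    (htop ▸ mem_top (⟨k, (hmem k).mpr ⟨hk, hkD⟩⟩ : K) : _ ∈ (P : Subgroup K) ⊔ N)
  have hs' : (s : X) ∈ (S : Subgroup X) ⊓ normalizer (D : Set X) :=
    (show (s : X) ∈ _ ⊓ K from hs).1
  refine ⟨s, hs'.1, hs'.2, fun d hd => ?_⟩
  have hk' : k = s * c := (congrArg Subtype.val hsc).symm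
  have hcd := mem_centralizer_iff.mp (show (c : X) ∈ centralizer (D : Set X) from hc) d hd
  rw [hk']
  calc (s : X) * c * d * ((s : X) * c)⁻¹ = s * (c * d) * (c : X)⁻¹ * (s : X)⁻¹ := by group
    _ = s * d * (s : X)⁻¹ := by rw [← hcd]; group

theorem mem_commutator_of_sup_eq_top (S : Sylow p X) {Q : Subgroup X}
    (hQS : Q ≤ (S : Subgroup X)) [(centralizer (Q : Set X)).Normal]
    (hsup : (S : Subgroup X) ⊔ centralizer (Q : Set X) = ⊤) {q : X} (hq : q ∈ Q)
    (hq' : q ∈ commutator X) : q ∈ ⁅(S : Subgroup X), (S : Subgroup X)⁆ := by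
  let φ : (S : Subgroup X) →* Abelianization (S : Subgroup X) := Abelianization.of
  have key := Fusion.transfer_apply_eq_pow φ ⟨q, hQS hq⟩ (fun k a hk => by
    obtain ⟨s, hs, c, hc, rfl⟩ :=
      mem_sup_of_normal_right.mp (hsup ▸ mem_top a : a ∈ (S : Subgroup X) ⊔ centralizer (Q : Set X))
    have hcq : c * q ^ k = q ^ k * c := (mem_centralizer_iff.mp hc _ (pow_mem hq k)).symm
    have he : (⟨s * c * q ^ k * (s * c)⁻¹, hk⟩ : (S : Subgroup X)) =
        ⟨s, hs⟩ * ⟨q, hQS hq⟩ ^ k * ⟨s, hs⟩⁻¹ := by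
      apply Subtype.ext
      simp only [Subgroup.coe_mul, SubmonoidClass.coe_pow, InvMemClass.coe_inv]
      calc s * c * q ^ k * (s * c)⁻¹ = s * (c * q ^ k) * c⁻¹ * s⁻¹ := by group
        _ = s * q ^ k * s⁻¹ := by rw [hcq]; group
    rw [he, map_mul, map_mul, map_inv, mul_right_comm, mul_inv_cancel, one_mul, map_pow])
  have h1 : MonoidHom.transfer φ q = 1 :=
    Abelianization.commutator_subset_ker (MonoidHom.transfer φ) hq'
  rw [h1] at key
  obtain ⟨a, ha⟩ := S.2 ⟨q, hQS hq⟩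
  have h2 : φ ⟨q, hQS hq⟩ ^ p ^ a = 1 := by rw [← map_pow, ha, map_one]
  have h3 : orderOf (φ ⟨q, hQS hq⟩) = 1 := Nat.eq_one_of_dvd_coprimes
    (Nat.Coprime.pow_right a (Nat.coprime_comm.mp (hp.out.coprime_iff_not_dvd.mpr S.not_dvd_index)))
    (orderOf_dvd_of_pow_eq_one key.symm) (orderOf_dvd_of_pow_eq_one h2)
  have h4 : (⟨q, hQS hq⟩ : (S : Subgroup X)) ∈ commutator (S : Subgroup X) := by
    rw [← Abelianization.ker_of, MonoidHom.mem_ker]
    exact orderOf_eq_one_iff.mp h3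
  rw [← map_subtype_commutator]
  exact ⟨_, h4, rfl⟩

end lemmas

/-! ### the induction steps -/

section steps

variable {X : Type u} [Group X] [Finite X] [hp : Fact p.Prime]

theorem lift_pPrime {Y : Type u} [Group Y] {f : X →* Y} (S : Sylow p X) {𝒩 : Set (Subgroup X)}
    (hS𝒩 : ∀ N ∈ 𝒩, (S : Subgroup X) ≤ N) {A : Set X} (hA : A ⊆ ((S : Subgroup X) : Set X)) {c : Y}
    (h : Reach ((fun N : Subgroup X => N.map f) '' 𝒩) ((S : Subgroup X).map f) (f '' A) c) :
    ∃ x, Reach 𝒩 (S : Subgroup X) A x ∧ f x = c := by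
  induction h with
  | one => exact ⟨1, .one, map_one f⟩
  | @step c y _ _ hN hy hyA ih =>
    obtain ⟨M, hM, rfl⟩ := hN
    obtain ⟨x₀, hx₀, rfl⟩ := hy
    obtain ⟨w, hw, rfl⟩ := ih
    set L := ((S : Subgroup X).map f).comap f ⊓ M with hL
    have hSL : SylIn p (S : Subgroup X) L :=
      (sylIn_top S).mono (le_inf (le_comap_map _ _) (hS𝒩 M hM)) le_top
    have hBS : closure (cj w A) ≤ (S : Subgroup X) := (closure_le _).mpr (hw.subset hA)
    have hBL : cjSub x₀ (closure (cj w A)) ≤ L := by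
      refine le_inf ?_ ((map_mono (hBS.trans (hS𝒩 M hM))).trans
        (cjSub_eq_of_mem (le_normalizer hx₀)).le)
      rw [map_le_iff_le_comap, closure_le]
      rintro _ ⟨a, ha, rfl⟩
      change f (x₀ * (w * a * w⁻¹) * x₀⁻¹) ∈ (S : Subgroup X).map f
      refine hyA ⟨f a, ⟨a, ha, rfl⟩, ?_⟩
      simp [mul_assoc]
    obtain ⟨d, hd, hdB⟩ := hSL.exists_cjSub_le (isPGroup_cjSub (S.2.to_le hBS)) hBL
    obtain ⟨s, hs, hsd⟩ := hd.1
    refine ⟨s⁻¹ * d * x₀ * w, .step hw hM
      (mul_mem (mul_mem (inv_mem (hS𝒩 M hM hs)) hd.2) hx₀) ?_, ?_⟩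
    · rw [show s⁻¹ * d * x₀ * w = s⁻¹ * (d * (x₀ * w)) by group, cj_mul, cj_mul]
      rintro _ ⟨b, ⟨b', hb', rfl⟩, rfl⟩
      refine mul_mem (mul_mem (inv_mem hs) ?_) (inv_mem (inv_mem hs))
      rw [cj_mul] at hb'
      obtain ⟨b'', hb'', rfl⟩ := hb'
      exact hdB ⟨_, ⟨b'', subset_closure hb'', rfl⟩, rfl⟩
    · simp only [map_mul, map_inv]
      rw [hsd]; group

theorem normSet_pPrime_le {F : Set (∀ (Q : Type u) [Group Q], Subgroup Q)}
    (hF : ∀ W ∈ F, Cfsg.IsCharPFunctor.{u} p W) {Y : Type u} [Group Y] {f : X →* Y}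
    (hf : Function.Surjective f) (hker : (Nat.card f.ker).Coprime p) (S : Sylow p X) :
    normSet (iF F Y) ⊤ ((S : Subgroup X).map f) =
      (fun N : Subgroup X => N.map f) '' normSet (iF F X) ⊤ (S : Subgroup X) := by
  simp only [normSet, iF, Set.image_image]
  refine Set.image_congr fun W hW => ?_
  rw [top_inf_eq, top_inf_eq, inducedFunctor_map (hF W hW) f S.2
    (injOn_sylow_of_coprime _ S.2 f hker), Layer.map_normalizer_of_coprime hf hker
    (P := Cfsg.inducedFunctor W (S : Subgroup X)) (S.2.to_le (map_subtype_le _))]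

variable {F : Set (∀ (Q : Type u) [Group Q], Subgroup Q)}

theorem self_le_normSet (hF : ∀ W ∈ F, Cfsg.IsCharPFunctor.{u} p W) (S : Sylow p X) :
    ∀ N ∈ normSet (iF F X) ⊤ (S : Subgroup X), (S : Subgroup X) ≤ N := by
  rintro _ ⟨W, hW, rfl⟩
  exact le_inf le_top (self_le_normalizer_functor (isConjugacyFunctor_iF hF W hW) S.2)

theorem mk'_pPrimeCore_coprime :
    (Nat.card (QuotientGroup.mk' (Cfsg.pPrimeCore p X)).ker).Coprime p := by
  rw [QuotientGroup.ker_mk']
  exact Core.coprime_card_pPrimeCore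

theorem gFus_pPrime (hF : ∀ W ∈ F, Cfsg.IsCharPFunctor.{u} p W) {Y : Type u} [Group Y] [Finite Y]
    {f : X →* Y} (hf : Function.Surjective f) (hker : (Nat.card f.ker).Coprime p)
    (h : GFus F p Y) : GFus F p X := by
  obtain ⟨S⟩ := (inferInstance : Nonempty (Sylow p X))
  have hS' : SylIn p ((S : Subgroup X).map f) ⊤ := by
    have := (sylIn_top S).map f
    rwa [map_top_of_surjective f hf] at this
  have h' := (famFus_iff_forall (isConjugacyFunctor_iF hF) hS').mp h
  refine famFus_iff.mpr ⟨_, sylIn_top S, fun A g _ hA hgA => ?_⟩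
  obtain ⟨c, hc, hce⟩ := h' (f '' A) (f g) (mem_top _) (Set.image_mono hA) (by
    rintro _ ⟨_, ⟨a, ha, rfl⟩, rfl⟩
    exact ⟨g * a * g⁻¹, hgA ⟨a, ha, rfl⟩, by simp⟩)
  rw [normSet_pPrime_le hF hf hker S] at hc
  obtain ⟨x, hx, rfl⟩ := lift_pPrime S (self_le_normSet hF S) hA hc
  refine ⟨x, hx, fun a ha => injOn_sylow_of_coprime _ S.2 f hker (hx.subset hA ⟨a, ha, rfl⟩)
    (hgA ⟨a, ha, rfl⟩) ?_⟩
  simpa using hce (f a) ⟨a, ha, rfl⟩

theorem gTr_pPrime (hF : ∀ W ∈ F, Cfsg.IsCharPFunctor.{u} p W) {Y : Type u} [Group Y] [Finite Y]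
    {f : X →* Y} (hf : Function.Surjective f) (hker : (Nat.card f.ker).Coprime p)
    (h : GTr F p Y) : GTr F p X := by
  obtain ⟨S⟩ := (inferInstance : Nonempty (Sylow p X))
  have hS' : SylIn p ((S : Subgroup X).map f) ⊤ := by
    have := (sylIn_top S).map f
    rwa [map_top_of_surjective f hf] at this
  have h' := (famTr_iff_forall (isConjugacyFunctor_iF hF) hS').mp h
  refine famTr_iff.mpr ⟨_, sylIn_top S, ?_⟩
  rw [TrCtrl, normSet_pPrime_le hF hf hker S] at h'
  have h2 : tGen ((fun N : Subgroup X => N.map f) '' normSet (iF F X) ⊤ (S : Subgroup X))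
      ((S : Subgroup X).map f) ≤
        (tGen (normSet (iF F X) ⊤ (S : Subgroup X)) (S : Subgroup X)).map f := by
    refine iSup₂_le ?_
    rintro _ ⟨M, hM, rfl⟩
    refine le_trans (le_of_eq ?_) (map_mono (inf_commutator_le_tGen hM _))
    rw [← map_commutator]
    exact ((((sylIn_top S).mono (self_le_normSet hF S M hM) le_top).inf_normal
      (commutator_le_self M) (le_normalizer_commutator M)).map f).eq_of_le
        ((S.2.map f).to_inf_left) inf_le_right (map_inf_le _ _ _)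
  intro s hs
  obtain ⟨t, ht, hte⟩ := h2 (h' ⟨mem_map_of_mem f hs.1, by
    rw [← map_top_of_surjective f hf, ← map_commutator]
    exact mem_map_of_mem f hs.2⟩)
  exact injOn_sylow_of_coprime _ S.2 f hker (tGen_le_self _ _ ht) hs.1 hte ▸ ht

theorem gFus_of_pCore_eq_bot (hF : ∀ W ∈ F, Cfsg.IsCharPFunctor.{u} p W)
    (hQ : Cfsg.pCore p X = ⊥) (IH : ∀ H : Subgroup X, H ≠ ⊤ → GFus F p H) : GFus F p X := by
  obtain ⟨S⟩ := (inferInstance : Nonempty (Sylow p X))
  refine famFus_iff.mpr ⟨_, sylIn_top S, fusCtrl_of_local S (isConjugacyFunctor_iF hF)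
    (allFull_fullSet S) (movers_fullSet S) fun D hD hne => ?_⟩
  have := famFus_map hF (normalizer (D : Set X)).subtype_injective
    (IH _ (normalizer_ne_top_of_pCore_eq_bot hQ (S.2.to_le hD.1) hne))
  rwa [range_subtype] at this

theorem gTr_of_pCore_eq_bot (hF : ∀ W ∈ F, Cfsg.IsCharPFunctor.{u} p W)
    (hQ : Cfsg.pCore p X = ⊥) (IH : ∀ H : Subgroup X, H ≠ ⊤ → GTr F p H) : GTr F p X := by
  obtain ⟨S⟩ := (inferInstance : Nonempty (Sylow p X))
  refine famTr_iff.mpr ⟨_, sylIn_top S, trCtrl_of_local S (isConjugacyFunctor_iF hF)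
    (allFull_fullSet S) (movers_fullSet S) fun D hD hne => ?_⟩
  have := famTr_map hF (normalizer (D : Set X)).subtype_injective
    (IH _ (normalizer_ne_top_of_pCore_eq_bot hQ (S.2.to_le hD.1) hne))
  rwa [range_subtype] at this

/-- The data of the case `C(Q) ≰ Q`. -/
theorem exists_frattini_split (hP' : Cfsg.pPrimeCore p X = ⊥)
    (hC : ¬ centralizer (Cfsg.pCore p X : Set X) ≤ Cfsg.pCore p X) (S : Sylow p X) :
    ∃ N C : Subgroup X, N ≠ ⊤ ∧ (S : Subgroup X) ≤ N ∧ C.Normal ∧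
      Cfsg.pCore p X < (S : Subgroup X) ∧
      C = centralizer (Cfsg.pCore p X : Set X) ⊔ Cfsg.pCore p X ∧
      (∀ g : X, ∀ A : Set X, A ⊆ ((S : Subgroup X) : Set X) →
        cj g A ⊆ ((S : Subgroup X) : Set X) →
        ∃ h₁ ∈ (S : Subgroup X) ⊔ C, ∃ h₂ ∈ N,
          cj h₁ A ⊆ ((S : Subgroup X) : Set X) ∧ g = h₂ * h₁) := by
  set Q := Cfsg.pCore p X with hQdef
  set C := centralizer (Q : Set X) ⊔ Q with hCdef
  have hCn : C.Normal := sup_normal _ _
  set U := (S : Subgroup X) ⊓ C with hUdef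
  have hU : SylIn p U C := (sylIn_top S).inf_normal le_top
    (by rw [normalizer_eq_top_iff.mpr hCn])
  have hQU : Q < U := sylow_inf_centralizer_sup_ne hP' hC S
  have hSN : (S : Subgroup X) ≤ normalizer (U : Set X) := fun s hs => by
    refine mem_normalizer_of_cjSub_eq ?_
    rw [hUdef, cjSub, map_inf_eq _ _ _ (MulAut.conj s).injective]
    change cjSub s _ ⊓ cjSub s C = _
    rw [cjSub_eq_of_mem (le_normalizer hs),
      cjSub_eq_of_mem ((normalizer_eq_top_iff.mpr hCn).symm ▸ mem_top s)]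
  refine ⟨normalizer (U : Set X), C, ?_, hSN, hCn, hQU.trans_le inf_le_left, rfl, ?_⟩
  · intro he
    have := normalizer_eq_top_iff.mp he
    exact hQU.not_ge (Core.le_pCore S.2.to_inf_left)
  intro g A hA hgA
  obtain ⟨y, hy, c, hc, rfl⟩ := exists_eq_normalizer_mul hU g
  set L := normalizer (U : Set X) ⊓ ((S : Subgroup X) ⊔ C) with hL
  have hcM : c ∈ (S : Subgroup X) ⊔ C := mem_sup_right hc
  have hB : cjSub c (closure A) ≤ L := by
    refine le_inf ?_ ((map_mono (((closure_le _).mpr hA).trans le_sup_left)).trans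
      (cjSub_eq_of_mem (le_normalizer hcM)).le)
    rw [map_le_iff_le_comap, closure_le]
    intro a ha
    have h1 : y * c * a * (y * c)⁻¹ ∈ normalizer (U : Set X) := hSN (hgA ⟨a, ha, rfl⟩)
    have h2 := mul_mem (mul_mem (inv_mem hy) h1) hy
    change c * a * c⁻¹ ∈ normalizer (U : Set X)
    rwa [show y⁻¹ * (y * c * a * (y * c)⁻¹) * y = c * a * c⁻¹ by group] at h2
  obtain ⟨d, hd, hdB⟩ := ((sylIn_top S).mono (le_inf hSN le_sup_left) le_top : SylIn p _ L).exists_cjSub_le
    (isPGroup_cjSub (S.2.to_le ((closure_le _).mpr hA))) hB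
  refine ⟨d * c, mul_mem hd.2 hcM, y * d⁻¹, mul_mem hy (inv_mem hd.1), ?_, by group⟩
  rintro _ ⟨a, ha, rfl⟩
  change d * c * a * (d * c)⁻¹ ∈ _
  rw [show d * c * a * (d * c)⁻¹ = d * (c * a * c⁻¹) * d⁻¹ by group]
  exact hdB ⟨_, ⟨a, subset_closure ha, rfl⟩, rfl⟩

/-- Preimages of the members of `normSet` in the quotient by `pCore`. -/
theorem comap_normSet_ne_top (hF : ∀ W ∈ F, Cfsg.IsCharPFunctor.{u} p W) (S : Sylow p X)
    (hlt : Cfsg.pCore p X < (S : Subgroup X)) {N : Subgroup (X ⧸ Cfsg.pCore p X)}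
    (hN : N ∈ normSet (iF F (X ⧸ Cfsg.pCore p X)) ⊤
      ((S : Subgroup X).map (QuotientGroup.mk' (Cfsg.pCore p X)))) :
    N.comap (QuotientGroup.mk' (Cfsg.pCore p X)) ≠ ⊤ ∧
      (S : Subgroup X) ≤ N.comap (QuotientGroup.mk' (Cfsg.pCore p X)) := by
  obtain ⟨W, hW, rfl⟩ := hN
  set f := QuotientGroup.mk' (Cfsg.pCore p X) with hf
  have hTp : IsPGroup p ((S : Subgroup X).map f) := S.2.map f
  have hWf := isConjugacyFunctor_iF hF W hW _ hTp
  refine ⟨fun he => ?_, map_le_iff_le_comap.mp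
    (le_inf le_top (self_le_normalizer_functor (isConjugacyFunctor_iF hF W hW) hTp))⟩
  have hTne : (S : Subgroup X).map f ≠ ⊥ := fun hb => by
    rw [Subgroup.map_eq_bot_iff, hf, QuotientGroup.ker_mk'] at hb
    exact hlt.not_ge hb
  refine normalizer_ne_top_of_pCore_eq_bot Core.pCore_quotient_eq_bot (hTp.to_le hWf.1)
    (hWf.2.1 hTne) ?_
  rw [← comap_top f] at he
  have := comap_injective (QuotientGroup.mk'_surjective _) he
  dsimp only at this
  rwa [top_inf_eq] at this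

/-- Transfer in the quotient by `pCore` reduces `S ⊓ X'` to the proper preimages and `Q ⊓ X'`. -/
theorem exists_mul_pCore (hF : ∀ W ∈ F, Cfsg.IsCharPFunctor.{u} p W) (S : Sylow p X)
    (hlt : Cfsg.pCore p X < (S : Subgroup X)) {M : Subgroup X}
    (hsub : ∀ H : Subgroup X, H ≠ ⊤ → (S : Subgroup X) ≤ H → (S : Subgroup X) ⊓ ⁅H, H⁆ ≤ M)
    (IHq : GTr F p (X ⧸ Cfsg.pCore p X)) {s : X}
    (hs : s ∈ (S : Subgroup X) ⊓ ⁅(⊤ : Subgroup X), ⊤⁆) :
    ∃ t ∈ M, t⁻¹ * s ∈ Cfsg.pCore p X ∧ t⁻¹ * s ∈ commutator X := by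
  set Q := Cfsg.pCore p X
  set f := QuotientGroup.mk' Q with hf
  have hker : f.ker = Q := QuotientGroup.ker_mk' Q
  have hsurj : Function.Surjective f := QuotientGroup.mk'_surjective Q
  have hS' : SylIn p ((S : Subgroup X).map f) ⊤ := by
    have := (sylIn_top S).map f
    rwa [map_top_of_surjective f hsurj] at this
  have hq := (famTr_iff_forall (isConjugacyFunctor_iF hF) hS').mp IHq
  have himg : tGen (normSet (iF F (X ⧸ Q)) ⊤ ((S : Subgroup X).map f)) ((S : Subgroup X).map f)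
      ≤ (M ⊓ ⁅(⊤ : Subgroup X), ⊤⁆).map f := by
    refine iSup₂_le fun L hL => ?_
    obtain ⟨hne, hSH⟩ := comap_normSet_ne_top hF S hlt hL
    rw [← map_comap_eq_self_of_surjective hsurj L, ← map_commutator]
    rintro _ ⟨hyS, x, hx, rfl⟩
    have hxS : x ∈ (S : Subgroup X) := by
      have : x ∈ ((S : Subgroup X).map f).comap f := hyS
      rwa [comap_map_eq, hker, sup_eq_left.mpr (Core.pCore_le_sylow S)] at this
    exact ⟨x, ⟨hsub _ hne hSH ⟨hxS, hx⟩, commutator_mono le_top le_top hx⟩, rfl⟩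
  obtain ⟨t, ht, hte⟩ := himg (hq ⟨mem_map_of_mem f hs.1, by
    rw [← map_top_of_surjective f hsurj, ← map_commutator]
    exact mem_map_of_mem f hs.2⟩)
  refine ⟨t, ht.1, ?_, ?_⟩
  · rw [← hker, MonoidHom.mem_ker, map_mul, map_inv, hte, inv_mul_cancel]
  · rw [commutator_def]; exact mul_mem (inv_mem ht.2) hs.2

theorem sup_centralizer_eq_top {S : Sylow p X}
    (h : (S : Subgroup X) ⊔ (centralizer (Cfsg.pCore p X : Set X) ⊔ Cfsg.pCore p X) = ⊤) :
    (S : Subgroup X) ⊔ centralizer (Cfsg.pCore p X : Set X) = ⊤ := by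
  rw [← h, sup_comm (centralizer _) (Cfsg.pCore p X), ← sup_assoc,
    sup_eq_left.mpr (Core.pCore_le_sylow S)]

theorem gFus_of_not_selfCentral (hF : ∀ W ∈ F, Cfsg.IsCharPFunctor.{u} p W)
    (hP' : Cfsg.pPrimeCore p X = ⊥)
    (hC : ¬ centralizer (Cfsg.pCore p X : Set X) ≤ Cfsg.pCore p X)
    (IH : ∀ H : Subgroup X, H ≠ ⊤ → GFus F p H) (IHq : GFus F p (X ⧸ Cfsg.pCore p X)) :
    GFus F p X := by
  obtain ⟨S⟩ := (inferInstance : Nonempty (Sylow p X))
  obtain ⟨N, C, hN, hSN, hCn, hlt, hCdef, hsplit⟩ := exists_frattini_split hP' hC S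
  have hsub : ∀ H : Subgroup X, H ≠ ⊤ → (S : Subgroup X) ≤ H →
      FusCtrl (normSet (iF F X) ⊤ (S : Subgroup X)) (S : Subgroup X) H :=
    fun H hH hSH => fusCtrl_subgroup hF S hSH (IH H hH)
  refine famFus_iff.mpr ⟨_, sylIn_top S, fun A g _ hA hgA => ?_⟩
  by_cases hM : (S : Subgroup X) ⊔ C = ⊤
  · -- `X = S C(Q)`
    subst hCdef
    set Q := Cfsg.pCore p X
    set f := QuotientGroup.mk' Q with hf
    have hker : f.ker = Q := QuotientGroup.ker_mk' Q
    have hS' : SylIn p ((S : Subgroup X).map f) ⊤ := by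
      have := (sylIn_top S).map f
      rwa [map_top_of_surjective f (QuotientGroup.mk'_surjective Q)] at this
    have hq := (famFus_iff_forall (isConjugacyFunctor_iF hF) hS').mp IHq
    have step : ∀ D : Subgroup X, Q ≤ D → D ≤ (S : Subgroup X) →
        SylIn p ((S : Subgroup X) ⊓ normalizer (D : Set X)) (normalizer (D : Set X)) →
        ∀ n ∈ normalizer (D : Set X), ∀ B : Set X, B ⊆ D →
          Ctrl (normSet (iF F X) ⊤ (S : Subgroup X)) (S : Subgroup X) B n := by
      intro D hQD hDS hD n hn B hB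
      refine Ctrl.mono ?_ hB
      have hback : ∀ y : X, f y ∈ (S : Subgroup X).map f → y ∈ (S : Subgroup X) := fun y hy => by
        have : y ∈ ((S : Subgroup X).map f).comap f := hy
        rwa [comap_map_eq, hker, sup_eq_left.mpr (Core.pCore_le_sylow S)] at this
      obtain ⟨c, hc, hce⟩ := hq (f '' D) (f n) (mem_top _) (Set.image_mono hDS) (by
        rintro _ ⟨_, ⟨d, hd, rfl⟩, rfl⟩
        exact ⟨n * d * n⁻¹, hDS ((mem_normalizer_iff.mp hn d).mp hd), by simp⟩)
      have hlift : ∃ y, f y = c ∧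
          Ctrl (normSet (iF F X) ⊤ (S : Subgroup X)) (S : Subgroup X) (D : Set X) y := by
        clear hce
        induction hc with
        | one => exact ⟨1, map_one f, Ctrl.one⟩
        | @step c x M _ hM' hx hxA ih =>
          obtain ⟨y, rfl, hy⟩ := ih
          obtain ⟨x', rfl⟩ := QuotientGroup.mk'_surjective Q x
          obtain ⟨hne, hSH⟩ := comap_normSet_ne_top hF S hlt hM'
          refine ⟨x' * y, map_mul f _ _, hy.trans (hsub _ hne hSH _ x' hx (hy.subset hDS) ?_)⟩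
          rw [← cj_mul]
          rintro _ ⟨d, hd, rfl⟩
          refine hback _ (hxA ⟨f d, ⟨d, hd, rfl⟩, ?_⟩)
          simp [hf]
      obtain ⟨y, rfl, hy⟩ := hlift
      have hfy : ∀ d ∈ D, f (y * d * y⁻¹) = f (n * d * n⁻¹) := fun d hd => by
        simpa using hce (f d) ⟨d, hd, rfl⟩
      have hyN : y ∈ normalizer (D : Set X) := by
        refine mem_normalizer_of_cjSub_eq (eq_of_le_of_card_ge ?_ (card_cjSub y D).ge)
        rintro _ ⟨d, hd, rfl⟩
        have : y * d * y⁻¹ ∈ (D.map f).comap f :=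
          ⟨n * d * n⁻¹, (mem_normalizer_iff.mp hn d).mp hd, (hfy d hd).symm⟩
        rw [comap_map_eq, hker, sup_eq_left.mpr hQD] at this
        simpa using this
      obtain ⟨s, hs, hsN, hse⟩ := exists_sylow_act S (f := f)
        (by rw [hker]; exact Core.pCore_isPGroup)
        (by rw [hker]; exact sup_centralizer_eq_top hM) hD
        (k := y⁻¹ * n) (mul_mem (inv_mem hyN) hn) (fun d hd => by
          calc f (y⁻¹ * n * d * (y⁻¹ * n)⁻¹) = (f y)⁻¹ * f (n * d * n⁻¹) * f y := by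
                simp [mul_assoc]
            _ = (f y)⁻¹ * f (y * d * y⁻¹) * f y := by rw [hfy d hd]
            _ = f d := by simp [mul_assoc])
      have hs1 : Ctrl (normSet (iF F X) ⊤ (S : Subgroup X)) (S : Subgroup X) (D : Set X) s :=
        hsub N hN hSN _ s (hSN hs) hDS (by
          rw [← coe_cjSub, cjSub_eq_of_mem hsN]; exact hDS)
      have hs2 := hs1.trans (h := y) (by rwa [← coe_cjSub, cjSub_eq_of_mem hsN])
      refine hs2.of_eqOn fun d hd => ?_
      calc y * s * d * (y * s)⁻¹ = y * (s * d * s⁻¹) * y⁻¹ := by group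
        _ = y * (y⁻¹ * n * d * (y⁻¹ * n)⁻¹) * y⁻¹ := by rw [hse d hd]
        _ = n * d * n⁻¹ := by group
    have hch := Fusion.alperinChain_of_subset S (g := g⁻¹) hA (by rwa [conjSet_eq_cj, inv_inv])
    rw [← inv_inv g]
    clear hgA hA
    generalize g⁻¹ = g' at hch ⊢
    induction hch with
    | nil B => simpa using Ctrl.one
    | cons x R hB hx hR _ ih =>
      rw [mul_inv_rev]
      refine (step _ (le_inf (Core.pCore_le_sylow S) (Core.pCore_le_sylow R)) inf_le_left
        (sylIn_full S hR.1) x⁻¹ (inv_mem hx) _ hB).trans ?_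
      rwa [← conjSet_eq_cj]
  · obtain ⟨h₁, hh₁, h₂, hh₂, hsub₁, rfl⟩ := hsplit g A hA hgA
    refine (hsub _ hM le_sup_left A h₁ hh₁ hA hsub₁).trans (hsub N hN hSN _ h₂ hh₂ hsub₁ ?_)
    rwa [← cj_mul]

theorem gTr_of_not_selfCentral (hF : ∀ W ∈ F, Cfsg.IsCharPFunctor.{u} p W)
    (hP' : Cfsg.pPrimeCore p X = ⊥)
    (hC : ¬ centralizer (Cfsg.pCore p X : Set X) ≤ Cfsg.pCore p X)
    (IH : ∀ H : Subgroup X, H ≠ ⊤ → GTr F p H) (IHq : GTr F p (X ⧸ Cfsg.pCore p X)) :
    GTr F p X := by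
  obtain ⟨S⟩ := (inferInstance : Nonempty (Sylow p X))
  obtain ⟨N, C, hN, hSN, hCn, hlt, hCdef, hsplit⟩ := exists_frattini_split hP' hC S
  refine famTr_iff.mpr ⟨_, sylIn_top S, ?_⟩
  set M := tGen (normSet (iF F X) ⊤ (S : Subgroup X)) (S : Subgroup X) with hMdef
  have hsub : ∀ H : Subgroup X, H ≠ ⊤ → (S : Subgroup X) ≤ H →
      (S : Subgroup X) ⊓ ⁅H, H⁆ ≤ M := fun H hH hSH => trCtrl_subgroup hF S hSH (IH H hH)
  by_cases hSC : (S : Subgroup X) ⊔ C = ⊤
  · subst hCdef
    set Q := Cfsg.pCore p X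
    intro s hs
    obtain ⟨t, ht, hqQ, hq'⟩ := exists_mul_pCore hF S hlt hsub IHq hs
    have := mem_commutator_of_sup_eq_top S (Core.pCore_le_sylow S) (sup_centralizer_eq_top hSC)
      hqQ hq'
    have h2 : t⁻¹ * s ∈ M := hsub N hN hSN
      ⟨Core.pCore_le_sylow S hqQ, commutator_mono hSN hSN this⟩
    simpa using mul_mem ht h2
  · refine inf_commutator_le_of_focal S M fun u hu g hgu => ?_
    obtain ⟨h₁, hh₁, h₂, hh₂, hsub₁, rfl⟩ := hsplit g {u} (Set.singleton_subset_iff.mpr hu)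
      (by rw [cj, Set.image_singleton]; exact Set.singleton_subset_iff.mpr hgu)
    have hu₁ : h₁ * u * h₁⁻¹ ∈ (S : Subgroup X) := hsub₁ ⟨u, rfl, rfl⟩
    have h1 : u⁻¹ * (h₁ * u * h₁⁻¹) ∈ M := hsub _ hSC le_sup_left
      (commutatorPart_mem hu (mem_sup_left hu) hh₁ hu₁)
    have h2 : (h₁ * u * h₁⁻¹)⁻¹ * (h₂ * (h₁ * u * h₁⁻¹) * h₂⁻¹) ∈ M := hsub N hN hSN
      (commutatorPart_mem hu₁ (hSN hu₁) hh₂ (by
        rwa [show h₂ * (h₁ * u * h₁⁻¹) * h₂⁻¹ = h₂ * h₁ * u * (h₂ * h₁)⁻¹ by group]))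
    have := mul_mem h1 h2
    rwa [show u⁻¹ * (h₁ * u * h₁⁻¹) * ((h₁ * u * h₁⁻¹)⁻¹ * (h₂ * (h₁ * u * h₁⁻¹) * h₂⁻¹)) =
      u⁻¹ * (h₂ * h₁ * u * (h₂ * h₁)⁻¹) by group] at this

end steps

/-! ### the reduction theorems -/

/-- Control of strong fusion holds once it holds in the sections with self-centralising `O_p`. -/
theorem gFus_of_sections {F : Set (∀ (Q : Type u) [Group Q], Subgroup Q)} [Fact p.Prime]
    (hF : ∀ W ∈ F, Cfsg.IsCharPFunctor.{u} p W) {X : Type u} [Group X] [Finite X]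
    (hloc : ∀ (Y : Type u) [Group Y] [Finite Y], IsSec Y X →
      centralizer (Cfsg.pCore p Y : Set Y) ≤ Cfsg.pCore p Y → GFus F p Y) :
    GFus F p X := by
  induction hn : Nat.card X using Nat.strong_induction_on generalizing X with
  | _ n IH =>
  subst hn
  have IH' : ∀ (Z : Type u) [Group Z] [Finite Z], IsSec Z X → Nat.card Z < Nat.card X → GFus F p Z :=
    fun Z _ _ hZ hlt => IH _ hlt (fun Y _ _ hY => hloc Y (hY.trans hZ)) rfl
  have IHs : ∀ H : Subgroup X, H ≠ ⊤ → GFus F p H := fun H hH =>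
    IH' H (isSec_subgroup H) (Core.card_lt_of_ne_top hH)
  by_cases hP' : Cfsg.pPrimeCore p X = ⊥
  · by_cases hQ : Cfsg.pCore p X = ⊥
    · exact gFus_of_pCore_eq_bot hF hQ IHs
    · by_cases hC : centralizer (Cfsg.pCore p X : Set X) ≤ Cfsg.pCore p X
      · exact hloc X IsSec.refl hC
      · exact gFus_of_not_selfCentral hF hP' hC IHs
          (IH' _ (isSec_of_surjective (QuotientGroup.mk'_surjective _)) (Core.card_quotient_lt hQ))
  · exact gFus_pPrime hF (QuotientGroup.mk'_surjective _) mk'_pPrimeCore_coprime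
      (IH' _ (isSec_of_surjective (QuotientGroup.mk'_surjective _)) (Core.card_quotient_lt hP'))

/-- Control of transfer holds once it holds, inductively, in the sections with self-centralising
`O_p`. -/
theorem gTr_of_sections {F : Set (∀ (Q : Type u) [Group Q], Subgroup Q)} [Fact p.Prime]
    (hF : ∀ W ∈ F, Cfsg.IsCharPFunctor.{u} p W) {X : Type u} [Group X] [Finite X]
    (hloc : ∀ (Y : Type u) [Group Y] [Finite Y], IsSec Y X →
      centralizer (Cfsg.pCore p Y : Set Y) ≤ Cfsg.pCore p Y →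
      (∀ (Z : Type u) [Group Z] [Finite Z], IsSec Z Y → Nat.card Z < Nat.card Y → GTr F p Z) →
      GTr F p Y) :
    GTr F p X := by
  induction hn : Nat.card X using Nat.strong_induction_on generalizing X with
  | _ n IH =>
  subst hn
  have IH' : ∀ (Z : Type u) [Group Z] [Finite Z], IsSec Z X → Nat.card Z < Nat.card X → GTr F p Z :=
    fun Z _ _ hZ hlt => IH _ hlt (fun Y _ _ hY => hloc Y (hY.trans hZ)) rfl
  have IHs : ∀ H : Subgroup X, H ≠ ⊤ → GTr F p H := fun H hH =>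
    IH' H (isSec_subgroup H) (Core.card_lt_of_ne_top hH)
  by_cases hP' : Cfsg.pPrimeCore p X = ⊥
  · by_cases hQ : Cfsg.pCore p X = ⊥
    · exact gTr_of_pCore_eq_bot hF hQ IHs
    · by_cases hC : centralizer (Cfsg.pCore p X : Set X) ≤ Cfsg.pCore p X
      · exact hloc X IsSec.refl hC IH'
      · exact gTr_of_not_selfCentral hF hP' hC IHs
          (IH' _ (isSec_of_surjective (QuotientGroup.mk'_surjective _)) (Core.card_quotient_lt hQ))
  · exact gTr_pPrime hF (QuotientGroup.mk'_surjective _) mk'_pPrimeCore_coprime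
      (IH' _ (isSec_of_surjective (QuotientGroup.mk'_surjective _)) (Core.card_quotient_lt hP'))

theorem eq_pCore_of_le_pCore {X : Type u} [Group X] [Finite X] [Fact p.Prime] (S : Sylow p X)
    (h : ¬ Cfsg.pCore p X < (S : Subgroup X)) : (S : Subgroup X) = Cfsg.pCore p X :=
  ((Core.pCore_le_sylow S).eq_or_lt.resolve_right h).symm

/-- The constrained case when `O_p ⊓ X'` is known to lie in the derived subgroup of `N(W S)`. -/
theorem trCtrl_selfCentral [Fact p.Prime] {W : ∀ (Q : Type u) [Group Q], Subgroup Q}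
    (hW : Cfsg.IsCharPFunctor.{u} p W) {X : Type u} [Group X] [Finite X] (S : Sylow p X)
    (heq : Cfsg.pCore p X ⊓ commutator X = Cfsg.pCore p X ⊓
      ⁅normalizer ((Cfsg.inducedFunctor (G := X) W (S : Subgroup X) : Subgroup X) : Set X),
       normalizer ((Cfsg.inducedFunctor (G := X) W (S : Subgroup X) : Subgroup X) : Set X)⁆)
    (IH : ∀ (Z : Type u) [Group Z] [Finite Z], IsSec Z X → Nat.card Z < Nat.card X → GTr {W} p Z) :
    TrCtrl (normSet (iF {W} X) ⊤ (S : Subgroup X)) (S : Subgroup X) ⊤ := by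
  have hF : ∀ V ∈ ({W} : Set (∀ (Q : Type u) [Group Q], Subgroup Q)), Cfsg.IsCharPFunctor.{u} p V :=
    fun V hV => hV ▸ hW
  have hmem : ⊤ ⊓ normalizer ((Cfsg.inducedFunctor (G := X) W (S : Subgroup X) : Subgroup X) : Set X)
      ∈ normSet (iF {W} X) ⊤ (S : Subgroup X) := ⟨_, ⟨W, rfl, rfl⟩, rfl⟩
  by_cases hlt : Cfsg.pCore p X < (S : Subgroup X)
  · intro s hs
    have hQne : Cfsg.pCore p X = ⊥ ∨ Nat.card (X ⧸ Cfsg.pCore p X) < Nat.card X :=
      or_iff_not_imp_left.mpr Core.card_quotient_lt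
    have hsub : ∀ H : Subgroup X, H ≠ ⊤ → (S : Subgroup X) ≤ H → (S : Subgroup X) ⊓ ⁅H, H⁆ ≤
        tGen (normSet (iF {W} X) ⊤ (S : Subgroup X)) (S : Subgroup X) := fun H hH hSH =>
      trCtrl_subgroup hF S hSH (IH H (isSec_subgroup H) (Core.card_lt_of_ne_top hH))
    rcases hQne with hQ0 | hq
    · have := gTr_of_pCore_eq_bot hF hQ0 fun H hH =>
        IH H (isSec_subgroup H) (Core.card_lt_of_ne_top hH)
      exact (famTr_iff_forall (isConjugacyFunctor_iF hF) (sylIn_top S)).mp this hs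
    obtain ⟨t, ht, hqQ, hq'⟩ := exists_mul_pCore hF S hlt hsub
      (IH _ (isSec_of_surjective (QuotientGroup.mk'_surjective _)) hq) hs
    have h2 : t⁻¹ * s ∈ Cfsg.pCore p X ⊓ commutator X := ⟨hqQ, hq'⟩
    rw [heq] at h2
    have h3 := inf_commutator_le_tGen hmem (S : Subgroup X)
      ⟨Core.pCore_le_sylow S h2.1, by rw [top_inf_eq]; exact h2.2⟩
    simpa using mul_mem ht h3
  · have hSn : (S : Subgroup X).Normal := by
      rw [eq_pCore_of_le_pCore S hlt]; infer_instance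
    have hN : normalizer ((Cfsg.inducedFunctor (G := X) W (S : Subgroup X) : Subgroup X) : Set X)
        = ⊤ := top_le_iff.mp
      ((normalizer_eq_top_iff.mpr hSn).ge.trans
        (le_normalizer_functor (isConjugacyFunctor_induced hW) S.2))
    have := inf_commutator_le_tGen hmem (S : Subgroup X)
    rwa [hN, top_inf_eq] at this

/-! ### drivers in the form of the statements -/

theorem selfCentral_congr {X Y : Type u} [Group X] [Group Y] [Finite X] [Fact p.Prime] (e : X ≃* Y)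
    (h : centralizer (Cfsg.pCore p Y : Set Y) ≤ Cfsg.pCore p Y) :
    centralizer (Cfsg.pCore p X : Set X) ≤ Cfsg.pCore p X :=
  have : Finite Y := Finite.of_equiv X e.toEquiv
  Layer.pCoreSelfCentral_congr e.symm h

theorem gFus_of_quotients {F : Set (∀ (Q : Type u) [Group Q], Subgroup Q)} [Fact p.Prime]
    (hF : ∀ W ∈ F, Cfsg.IsCharPFunctor.{u} p W) {X : Type u} [Group X] [Finite X]
    (hloc : ∀ (K R : Subgroup X) [(R.subgroupOf K).Normal],
      centralizer (Cfsg.pCore p (↥K ⧸ R.subgroupOf K) : Set (↥K ⧸ R.subgroupOf K)) ≤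
        Cfsg.pCore p (↥K ⧸ R.subgroupOf K) → GFus F p (↥K ⧸ R.subgroupOf K))
    {Y : Type u} [Group Y] [Finite Y] (hY : IsSec Y X) : GFus F p Y := by
  refine gFus_of_sections hF fun Z _ _ hZ hZc => ?_
  refine of_sections (P := fun W _ => Finite W →
    centralizer (Cfsg.pCore p W : Set W) ≤ Cfsg.pCore p W → GFus F p W) ?_ ?_ (hZ.trans hY)
    inferInstance hZc
  · intro W W' _ _ e h hfin hc
    have : Finite W := Finite.of_equiv W' e.symm.toEquiv
    exact gFus_congr hF e (h inferInstance (selfCentral_congr e hc))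
  · exact fun K R _ _ hc => hloc K R hc

theorem gTr_of_quotients {F : Set (∀ (Q : Type u) [Group Q], Subgroup Q)} [Fact p.Prime]
    (hF : ∀ W ∈ F, Cfsg.IsCharPFunctor.{u} p W) {X : Type u} [Group X] [Finite X]
    (hloc : ∀ (K R : Subgroup X) [(R.subgroupOf K).Normal],
      centralizer (Cfsg.pCore p (↥K ⧸ R.subgroupOf K) : Set (↥K ⧸ R.subgroupOf K)) ≤
        Cfsg.pCore p (↥K ⧸ R.subgroupOf K) →
      (∀ (Z : Type u) [Group Z] [Finite Z], IsSec Z (↥K ⧸ R.subgroupOf K) →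
        Nat.card Z < Nat.card (↥K ⧸ R.subgroupOf K) → GTr F p Z) →
      GTr F p (↥K ⧸ R.subgroupOf K))
    {Y : Type u} [Group Y] [Finite Y] (hY : IsSec Y X) : GTr F p Y := by
  refine gTr_of_sections hF fun Z _ _ hZ hZc hIH => ?_
  refine of_sections (P := fun W _ => Finite W →
    centralizer (Cfsg.pCore p W : Set W) ≤ Cfsg.pCore p W →
    (∀ (V : Type u) [Group V] [Finite V], IsSec V W → Nat.card V < Nat.card W → GTr F p V) →
    GTr F p W) ?_ ?_ (hZ.trans hY) inferInstance hZc hIH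
  · intro W W' _ _ e h hfin hc hI
    have : Finite W := Finite.of_equiv W' e.symm.toEquiv
    exact gTr_congr hF e (h inferInstance (selfCentral_congr e hc) fun V _ _ hV hlt =>
      hI V (hV.trans (isSec_of_surjective (f := e.symm.toMonoidHom) e.symm.surjective))
        (hlt.trans_eq (Nat.card_congr e.toEquiv)))
  · exact fun K R _ _ hc hI => hloc K R hc hI

end Cfsg.Agent.Control
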