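import Cfsg.Agent.Control.Sections

/-!
# Normal subgroups of index `p` from control of transfer in all sections
-/

namespace Cfsg.Agent.Control

open Subgroup
open scoped commutatorElement

set_option linter.unusedSectionVars false

universe u

variable {p : ℕ} [hp : Fact p.Prime]

theorem mem_sylow_of_normal {X : Type u} [Group X] [Finite X] (S : Sylow p X)
    [(S : Subgroup X).Normal] {a : X} (ha : ∃ k, orderOf a ∣ p ^ k) : a ∈ (S : Subgroup X) := by
  obtain ⟨k, hk⟩ := ha
  have hP : IsPGroup p (zpowers a) := by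
    obtain ⟨i, -, hi⟩ := (Nat.dvd_prime_pow hp.out).mp hk
    exact IsPGroup.of_card (n := i) (by rw [Nat.card_zpowers, hi])
  obtain ⟨d, -, hd⟩ := (sylIn_top S).exists_cjSub_le hP le_top
  have h1 := hd ⟨a, mem_zpowers a, rfl⟩
  have h2 := (‹(S : Subgroup X).Normal›).conj_mem _ h1 d⁻¹
  simpa [mul_assoc] using h2

theorem exists_index_eq_prime_of_not_le {X : Type u} [Group X] [Finite X] (S : Sylow p X)
    (h : ¬ (S : Subgroup X) ≤ commutator X) : ∃ N : Subgroup X, N.Normal ∧ N.index = p := by
  obtain ⟨M, h1, h2, -⟩ := Fusion.exists_normal_index_eq_of_pResidual_ne_top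
    (Fusion.pResidual_ne_top_of_not_le_commutator S h)
  exact ⟨M, h1, h2⟩

theorem not_le_commutator_of_index_eq {X : Type u} [Group X] [Finite X] (S : Sylow p X)
    {M : Subgroup X} [M.Normal] (hM : M.index = p) : ¬ (S : Subgroup X) ≤ commutator X := by
  intro h
  have hc : commutator X ≤ M := by
    have hcard : Nat.card (X ⧸ M) = p := by rw [← index_eq_card]; exact hM
    have hcyc : IsCyclic (X ⧸ M) := isCyclic_of_prime_card hcard
    letI := hcyc.commGroup
    have := Abelianization.commutator_subset_ker (QuotientGroup.mk' M)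
    rwa [QuotientGroup.ker_mk'] at this
  have hd := index_dvd_of_le (h.trans hc)
  rw [hM] at hd
  exact S.not_dvd_index hd

theorem exists_index_eq_prime {W : ∀ (Q : Type u) [Group Q], Subgroup Q}
    (hW : Cfsg.IsCharPFunctor.{u} p W) {G : Type u} [Group G] [Finite G]
    (hctl : ∀ (Y : Type u) [Group Y] [Finite Y], IsSec Y G → GTr {W} p Y) (S : Sylow p G)
    (hS : (S : Subgroup G) ≠ ⊥)
    (hN : ∀ g ∈ normalizer ((S : Subgroup G) : Set G), (orderOf g).Coprime p →
      g ∈ centralizer ((S : Subgroup G) : Set G)) :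
    ∃ N : Subgroup G, N.Normal ∧ N.index = p := by
  induction hn : Nat.card G using Nat.strong_induction_on generalizing G with
  | _ n IH =>
  subst hn
  have hF : ∀ V ∈ ({W} : Set (∀ (Q : Type u) [Group Q], Subgroup Q)), Cfsg.IsCharPFunctor.{u} p V :=
    fun V hV => hV ▸ hW
  have hWS := isConjugacyFunctor_induced (X := G) hW (S : Subgroup G) S.2
  set V := Cfsg.inducedFunctor (G := G) W (S : Subgroup G) with hV
  set N := normalizer (V : Set G) with hNdef
  have hSN : (S : Subgroup G) ≤ N := self_le_normalizer_functor (isConjugacyFunctor_induced hW) S.2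
  by_cases hNtop : N = ⊤
  · have hVn : V.Normal := normalizer_eq_top_iff.mp hNtop
    rcases hWS.1.eq_or_lt with hVS | hlt
    · have hSn : (S : Subgroup G).Normal := hVS ▸ hVn
      refine exists_index_eq_prime_of_not_le S fun hle => ?_
      refine (Fusion.isPGroup_commutator_lt S.2 hS).not_ge ?_
      refine le_trans (le_inf le_rfl (by rwa [← _root_.commutator_def]) :
        (S : Subgroup G) ≤ (S : Subgroup G) ⊓ ⁅(⊤ : Subgroup G), ⊤⁆) ?_
      refine inf_commutator_le_of_focal S _ fun u hu g hgu => ?_
      obtain ⟨a, b, rfl, -, -, -, ha, hb⟩ := Fusion.exists_pPart_mul (p := p) g (isOfFinOrder_of_finite g)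
      have haS := mem_sylow_of_normal S ha
      have hbC := mem_centralizer_iff.mp
        (hN b (by rw [normalizer_eq_top_iff.mpr hSn]; exact mem_top b) hb) u hu
      have he : a * b * u * (a * b)⁻¹ = a * u * a⁻¹ := by
        calc a * b * u * (a * b)⁻¹ = a * (b * u) * b⁻¹ * a⁻¹ := by group
          _ = a * u * a⁻¹ := by rw [← hbC]; group
      rw [he] at hgu ⊢
      exact (commutatorPart_mem hu hu haS hgu).2
    · have hVne : V ≠ ⊥ := hWS.2.1 hS
      set f := QuotientGroup.mk' V with hf
      have hsurj : Function.Surjective f := QuotientGroup.mk'_surjective V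
      obtain ⟨S', hS'⟩ := (show SylIn p ((S : Subgroup G).map f) ⊤ by
        have := (sylIn_top S).map f
        rwa [map_top_of_surjective f hsurj] at this).exists_sylow
      have hcomap : ((S : Subgroup G).map f).comap f = (S : Subgroup G) := by
        rw [comap_map_eq, QuotientGroup.ker_mk', sup_eq_left.mpr hlt.le]
      obtain ⟨M, hMn, hMi⟩ := IH (Nat.card (G ⧸ V)) (Core.card_quotient_lt hVne)
        (fun Y _ _ hY => hctl Y (hY.trans (isSec_of_surjective hsurj))) S'
        (by
          rw [hS', Ne, Subgroup.map_eq_bot_iff, QuotientGroup.ker_mk']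
          exact hlt.not_ge)
        (by
          intro x hx hxo
          obtain ⟨g, rfl⟩ := hsurj x
          have hgN : g ∈ normalizer ((S : Subgroup G) : Set G) := by
            refine mem_normalizer_of_cjSub_eq (eq_of_le_of_card_ge ?_ (card_cjSub g _).ge)
            rintro _ ⟨s, hs, rfl⟩
            rw [← hcomap]
            change f (g * s * g⁻¹) ∈ (S : Subgroup G).map f
            rw [map_mul, map_mul, map_inv]
            rw [hS'] at hx
            have h2 := (mem_normalizer_iff.mp hx (f s)).mp (show f s ∈ (S : Subgroup G).map f from ⟨s, hs, rfl⟩)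
            exact h2
          obtain ⟨a, b, rfl, -, hag, hbg, ⟨k, ha⟩, hb⟩ :=
            Fusion.exists_pPart_mul (p := p) g (isOfFinOrder_of_finite g)
          have hfa : f a = 1 := by
            obtain ⟨i, hi⟩ := mem_zpowers_iff.mp hag
            have h1 : orderOf (f a) ∣ orderOf (f (a * b)) :=
              orderOf_dvd_of_mem_zpowers (mem_zpowers_iff.mpr ⟨i, by rw [← map_zpow, hi]⟩)
            exact orderOf_eq_one_iff.mp (Nat.eq_one_of_dvd_coprimes (hxo.pow_right k) h1
              ((orderOf_map_dvd f a).trans ha))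
          have hbC := hN b ((zpowers_le.mpr hgN) hbg) hb
          rw [map_mul, hfa, one_mul, hS']
          refine mem_centralizer_iff.mpr ?_
          rintro _ ⟨s, hs, rfl⟩
          rw [← map_mul, ← map_mul, mem_centralizer_iff.mp hbC s hs])
        rfl
      exact ⟨M.comap f, hMn.comap f, by rw [index_comap_of_surjective M hsurj, hMi]⟩
  · obtain ⟨S', hS'⟩ : ∃ S' : Sylow p N, (S' : Subgroup N) = (S : Subgroup G).subgroupOf N :=
      ⟨(S.2.comap_subtype (K := N)).toSylow ((sylIn_top S).mono hSN le_top).not_dvd, rfl⟩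
    obtain ⟨M, hMn, hMi⟩ := IH (Nat.card N) (Core.card_lt_of_ne_top hNtop)
      (fun Y _ _ hY => hctl Y (hY.trans (isSec_subgroup N))) S'
      (by
        rw [hS', Ne, subgroupOf_eq_bot, disjoint_iff, inf_eq_left.mpr hSN]
        exact hS)
      (by
        intro x hx hxo
        rw [hS'] at hx ⊢
        have hxN : (x : G) ∈ normalizer ((S : Subgroup G) : Set G) := by
          refine mem_normalizer_of_cjSub_eq (eq_of_le_of_card_ge ?_ (card_cjSub (x : G) _).ge)
          rintro _ ⟨s, hs, rfl⟩
          exact (mem_normalizer_iff.mp hx ⟨s, hSN hs⟩).mp hs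
        have := hN _ hxN (by rwa [orderOf_coe])
        refine mem_centralizer_iff.mpr fun y hy => Subtype.ext ?_
        exact mem_centralizer_iff.mp this (y : G) hy)
      rfl
    refine exists_index_eq_prime_of_not_le S fun hle => ?_
    refine not_le_commutator_of_index_eq S' (M := M) hMi ?_
    have htr := (famTr_iff_forall (isConjugacyFunctor_iF hF) (sylIn_top S)).mp (hctl G IsSec.refl)
    have hle2 : (S : Subgroup G) ≤ ⁅N, N⁆ := by
      refine ((le_inf le_rfl (by rwa [← _root_.commutator_def]) :
        (S : Subgroup G) ≤ (S : Subgroup G) ⊓ ⁅(⊤ : Subgroup G), ⊤⁆).trans (htr.trans ?_))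
      refine iSup₂_le ?_
      rintro _ ⟨_, ⟨U, hU, rfl⟩, rfl⟩
      rw [Set.mem_singleton_iff.mp hU]
      exact inf_le_right.trans (commutator_mono inf_le_right inf_le_right)
    intro x hx
    rw [hS'] at hx
    have := hle2 (mem_subgroupOf.mp hx)
    rw [← map_subtype_commutator] at this
    obtain ⟨y, hy, hyx⟩ := this
    exact Subtype.ext hyx ▸ hy

end Cfsg.Agent.Control
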