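import Cfsg.Prelude.Def_ConjugacyFunctors
import Cfsg.Agent.Fusion.Alperin
import Cfsg.Agent.Fusion.Transfer

/-!
# Control of fusion and of transfer by sets of subgroups

Working vocabulary for conjugacy functors: Sylow subgroups of subgroups, chains of conjugations, and the
translation to the predicates of `Def_ConjugacyFunctors`.
-/

namespace Cfsg.Agent.Control

open Subgroup
open scoped commutatorElement

set_option linter.unusedSectionVars false

variable {G G' : Type*} [Group G] [Group G'] {p : ℕ}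

/-! ### left conjugation -/

/-- `g A g⁻¹` -/
def cj (g : G) (A : Set G) : Set G := (fun a => g * a * g⁻¹) '' A

/-- `g H g⁻¹` -/
abbrev cjSub (g : G) (H : Subgroup G) : Subgroup G := H.map (MulAut.conj g).toMonoidHom

theorem mem_cj {g : G} {A : Set G} {x : G} : x ∈ cj g A ↔ g⁻¹ * x * g ∈ A := by
  constructor
  · rintro ⟨a, ha, rfl⟩; simpa [mul_assoc] using ha
  · intro h; exact ⟨_, h, by simp [mul_assoc]⟩

theorem cj_subset {g : G} {A B : Set G} : cj g A ⊆ B ↔ ∀ a ∈ A, g * a * g⁻¹ ∈ B :=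
  Set.image_subset_iff

theorem cj_one (A : Set G) : cj 1 A = A := by ext; simp [mem_cj]

theorem cj_mul (g h : G) (A : Set G) : cj (g * h) A = cj g (cj h A) := by
  ext; simp [mem_cj, mul_assoc]

theorem cj_mono {g : G} {A B : Set G} (h : A ⊆ B) : cj g A ⊆ cj g B := Set.image_mono h

theorem cj_inv_cj (g : G) (A : Set G) : cj g⁻¹ (cj g A) = A := by
  rw [← cj_mul, inv_mul_cancel, cj_one]

theorem conjSet_eq_cj (g : G) (A : Set G) : Fusion.conjSet g A = cj g⁻¹ A := by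
  ext; simp [Fusion.mem_conjSet, mem_cj]

theorem mem_cjSub {g : G} {H : Subgroup G} {x : G} : x ∈ cjSub g H ↔ g⁻¹ * x * g ∈ H := by
  rw [cjSub, mem_map_equiv]; simp [mul_assoc]

theorem coe_cjSub (g : G) (H : Subgroup G) : (cjSub g H : Set G) = cj g (H : Set G) := by
  ext x; rw [SetLike.mem_coe, mem_cjSub, mem_cj, SetLike.mem_coe]

theorem cjSub_cjSub (g h : G) (H : Subgroup G) : cjSub g (cjSub h H) = cjSub (g * h) H := by
  ext x; rw [mem_cjSub, mem_cjSub, mem_cjSub]; simp [mul_assoc]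

theorem cjSub_one (H : Subgroup G) : cjSub 1 H = H := by ext x; rw [mem_cjSub]; simp

theorem conjSub_eq_cjSub (g : G) (H : Subgroup G) : Fusion.conjSub g H = cjSub g⁻¹ H := rfl

theorem cjSub_eq_conjSub (g : G) (H : Subgroup G) : cjSub g H = Fusion.conjSub g⁻¹ H := by
  rw [Fusion.conjSub, inv_inv]

theorem cjSub_eq_of_mem {g : G} {H : Subgroup G} (hg : g ∈ normalizer (H : Set G)) :
    cjSub g H = H := by
  rw [cjSub_eq_conjSub, Fusion.conjSub_eq_of_mem_normalizer (inv_mem hg)]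

theorem mem_normalizer_of_cjSub_eq {g : G} {H : Subgroup G} (h : cjSub g H = H) :
    g ∈ normalizer (H : Set G) := by
  rw [cjSub_eq_conjSub] at h
  simpa using inv_mem (Fusion.mem_normalizer_of_conjSub_eq h)

theorem cjSub_normalizer (g : G) (H : Subgroup G) :
    cjSub g (normalizer (H : Set G)) = normalizer (cjSub g H : Set G) :=
  map_equiv_normalizer_eq H (MulAut.conj g)

theorem card_cjSub (g : G) (H : Subgroup G) : Nat.card (cjSub g H) = Nat.card H :=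
  card_map_of_injective (MulAut.conj g).injective

theorem cjSub_ne_bot {g : G} {H : Subgroup G} (h : H ≠ ⊥) : cjSub g H ≠ ⊥ := fun e =>
  h ((map_eq_bot_iff_of_injective _ (MulAut.conj g).injective).mp e)

theorem isPGroup_cjSub {g : G} {H : Subgroup G} (h : IsPGroup p H) : IsPGroup p (cjSub g H) :=
  h.map _

theorem closure_subset_of_cj {g : G} {A : Set G} {T : Subgroup G} (h : cj g A ⊆ T) :
    cjSub g (closure A) ≤ T := by
  rw [map_le_iff_le_comap, closure_le]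
  exact fun a ha => h ⟨a, ha, rfl⟩

/-! ### Sylow subgroups of subgroups -/

/-- `T` is a `p`-subgroup of `H` of index prime to `p`. -/
structure SylIn (p : ℕ) (T H : Subgroup G) : Prop where
  le : T ≤ H
  isPGroup : IsPGroup p T
  not_dvd : ¬ p ∣ T.relIndex H

theorem SylIn.mono {T H K : Subgroup G} (h : SylIn p T H) (hTK : T ≤ K) (hKH : K ≤ H) :
    SylIn p T K :=
  ⟨hTK, h.isPGroup, fun hd => h.not_dvd (hd.trans ⟨_, (relIndex_mul_relIndex T K H hTK hKH).symm⟩)⟩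

theorem sylIn_top (S : Sylow p G) [Finite G] [Fact p.Prime] : SylIn p (S : Subgroup G) ⊤ :=
  ⟨le_top, S.2, by rw [relIndex_top_right]; exact S.not_dvd_index⟩

theorem SylIn.cjSub {T H : Subgroup G} (h : SylIn p T H) (g : G) :
    SylIn p (Control.cjSub g T) (Control.cjSub g H) :=
  ⟨map_mono h.le, h.isPGroup.map _,
    by rw [relIndex_map_map_of_injective _ _ (MulAut.conj g).injective]; exact h.not_dvd⟩

theorem SylIn.map_injective {T H : Subgroup G} (h : SylIn p T H) {f : G →* G'}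
    (hf : Function.Injective f) : SylIn p (T.map f) (H.map f) :=
  ⟨map_mono h.le, h.isPGroup.map _, by rw [relIndex_map_map_of_injective _ _ hf]; exact h.not_dvd⟩

theorem relIndex_map_dvd (f : G →* G') {T H : Subgroup G} (hTH : T ≤ H) :
    (T.map f).relIndex (H.map f) ∣ T.relIndex H := by
  have hsurj : Function.Surjective (f.subgroupMap H) := f.subgroupMap_surjective H
  have h := index_map_dvd (H := T.subgroupOf H) hsurj
  have e : (T.subgroupOf H).map (f.subgroupMap H) = (T.map f).subgroupOf (H.map f) := by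
    ext ⟨y, hy⟩
    simp only [mem_map, mem_subgroupOf]
    constructor
    · rintro ⟨⟨x, hxH⟩, hx, hxy⟩
      exact ⟨x, hx, congrArg Subtype.val hxy⟩
    · rintro ⟨x, hx, hxy⟩
      exact ⟨⟨x, hTH hx⟩, hx, Subtype.ext hxy⟩
  rw [e] at h
  exact h

theorem SylIn.map {T H : Subgroup G} (h : SylIn p T H) (f : G →* G') :
    SylIn p (T.map f) (H.map f) :=
  ⟨map_mono h.le, h.isPGroup.map _, fun hd => h.not_dvd (hd.trans (relIndex_map_dvd f h.le))⟩

section sylow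

variable [Finite G] [hp : Fact p.Prime]

theorem SylIn.exists_ge {P H : Subgroup G} (hP : IsPGroup p P) (hPH : P ≤ H) :
    ∃ T, SylIn p T H ∧ P ≤ T := by
  obtain ⟨S, hS⟩ := (hP.comap_subtype (K := H)).exists_le_sylow
  refine ⟨(S : Subgroup H).map H.subtype, ⟨map_subtype_le _, S.2.map _, ?_⟩, ?_⟩
  · rw [relIndex, subgroupOf, comap_map_eq_self_of_injective H.subtype_injective]
    exact S.not_dvd_index
  · exact fun x hx => ⟨⟨x, hPH hx⟩, hS hx, rfl⟩

theorem SylIn.exists (H : Subgroup G) : ∃ T, SylIn p T H := by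
  obtain ⟨T, hT, -⟩ := SylIn.exists_ge (p := p) (H := H) (IsPGroup.of_bot (p := p) (G := G)) bot_le
  exact ⟨T, hT⟩

theorem SylIn.eq_of_le {T P H : Subgroup G} (h : SylIn p T H) (hP : IsPGroup p P) (hPH : P ≤ H)
    (hTP : T ≤ P) : P = T :=
  Fusion.eq_of_isPGroup_of_not_dvd_relIndex h.le h.isPGroup h.not_dvd hPH hP hTP

theorem SylIn.exists_cjSub_le {T P H : Subgroup G} (h : SylIn p T H) (hP : IsPGroup p P)
    (hPH : P ≤ H) : ∃ d ∈ H, Control.cjSub d P ≤ T := by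
  obtain ⟨m, hm, hle⟩ :=
    Fusion.exists_conjSub_le_of_not_dvd_relIndex h.le h.isPGroup h.not_dvd hPH hP
  exact ⟨m⁻¹, inv_mem hm, hle⟩

theorem SylIn.card_eq {T T' H : Subgroup G} (h : SylIn p T H) (h' : SylIn p T' H) :
    Nat.card T' = Nat.card T := by
  obtain ⟨d, -, hle⟩ := h.exists_cjSub_le h'.isPGroup h'.le
  obtain ⟨e, -, hle'⟩ := h'.exists_cjSub_le h.isPGroup h.le
  refine le_antisymm ?_ ?_
  · rw [← card_cjSub d T']; exact card_le_of_le hle
  · rw [← card_cjSub e T]; exact card_le_of_le hle'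

theorem SylIn.exists_conj {T T' H : Subgroup G} (h : SylIn p T H) (h' : SylIn p T' H) :
    ∃ d ∈ H, Control.cjSub d T' = T := by
  obtain ⟨d, hd, hle⟩ := h.exists_cjSub_le h'.isPGroup h'.le
  exact ⟨d, hd, eq_of_le_of_card_ge hle (by rw [card_cjSub, h.card_eq h'])⟩

theorem SylIn.exists_sylow {T : Subgroup G} (h : SylIn p T ⊤) :
    ∃ S : Sylow p G, (S : Subgroup G) = T :=
  ⟨h.isPGroup.toSylow (by have := h.not_dvd; rwa [relIndex_top_right] at this), rfl⟩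

theorem SylIn.inf_normal {T N H : Subgroup G} (h : SylIn p T H) (hNH : N ≤ H)
    (hN : H ≤ normalizer (N : Set G)) : SylIn p (T ⊓ N) N := by
  refine ⟨inf_le_right, h.isPGroup.to_inf_left, fun hd => ?_⟩
  obtain ⟨P, hP, hle⟩ := SylIn.exists_ge (p := p) (H := N) h.isPGroup.to_inf_left inf_le_right
  obtain ⟨d, hd', hdP⟩ := h.exists_cjSub_le hP.isPGroup (hP.le.trans hNH)
  have hdN : Control.cjSub d P ≤ T ⊓ N :=
    le_inf hdP ((map_mono hP.le).trans (cjSub_eq_of_mem (hN hd')).le)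
  have : T ⊓ N = P := eq_of_le_of_card_ge hle ((card_cjSub d P).ge.trans (card_le_of_le hdN))
  exact hP.not_dvd (this ▸ hd)

end sylow

/-! ### chains of conjugations -/

/-- `c` is reached from `1` by steps in members of `𝒩`, all stages conjugating `A` into `T`. -/
inductive Reach (𝒩 : Set (Subgroup G)) (T : Subgroup G) (A : Set G) : G → Prop
  | one : Reach 𝒩 T A 1
  | step {c x : G} {N : Subgroup G} (hc : Reach 𝒩 T A c) (hN : N ∈ 𝒩) (hx : x ∈ N)
      (hA : cj (x * c) A ⊆ T) : Reach 𝒩 T A (x * c)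

/-- The map induced by `h` on `A` is induced by a chain. -/
def Ctrl (𝒩 : Set (Subgroup G)) (T : Subgroup G) (A : Set G) (h : G) : Prop :=
  ∃ c, Reach 𝒩 T A c ∧ ∀ a ∈ A, c * a * c⁻¹ = h * a * h⁻¹

theorem Reach.subset {𝒩 : Set (Subgroup G)} {T : Subgroup G} {A : Set G} {c : G}
    (h : Reach 𝒩 T A c) (hA : A ⊆ T) : cj c A ⊆ T := by
  cases h with
  | one => rwa [cj_one]
  | step _ _ _ h' => exact h'

theorem Reach.mem {𝒩 : Set (Subgroup G)} {T : Subgroup G} {A : Set G} {c : G} {M : Subgroup G}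
    (h : Reach 𝒩 T A c) (hM : ∀ N ∈ 𝒩, N ≤ M) : c ∈ M := by
  induction h with
  | one => exact one_mem _
  | step _ hN hx _ ih => exact mul_mem (hM _ hN hx) ih

theorem Reach.trans {𝒩 : Set (Subgroup G)} {T : Subgroup G} {A : Set G} {c d : G}
    (hc : Reach 𝒩 T A c) (hd : Reach 𝒩 T (cj c A) d) : Reach 𝒩 T A (d * c) := by
  induction hd with
  | one => simpa using hc
  | @step c' x N _ hN hx hA ih =>
    rw [mul_assoc]
    refine .step ih hN hx ?_
    rwa [← cj_mul, mul_assoc] at hA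

theorem Reach.inv {𝒩 : Set (Subgroup G)} {T : Subgroup G} {A : Set G} {c : G}
    (hc : Reach 𝒩 T A c) (hA : A ⊆ T) : Reach 𝒩 T (cj c A) c⁻¹ := by
  induction hc with
  | one => simpa using Reach.one
  | @step c x N hc hN hx _ ih =>
    have h1 : Reach 𝒩 T (cj (x * c) A) (x⁻¹ * 1) := by
      refine .step .one hN (inv_mem hx) ?_
      rw [mul_one, cj_mul x c, cj_inv_cj]
      exact hc.subset hA
    rw [mul_one] at h1
    rw [mul_inv_rev]
    refine h1.trans ?_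
    rwa [cj_mul x c, cj_inv_cj]

theorem Reach.weaken {𝒩 𝒩' : Set (Subgroup G)} {T : Subgroup G} {A : Set G} {c : G}
    (h : Reach 𝒩 T A c) (h𝒩 : ∀ N ∈ 𝒩, ∃ N' ∈ 𝒩', N ≤ N') : Reach 𝒩' T A c := by
  induction h with
  | one => exact .one
  | step _ hN hx hA ih =>
    obtain ⟨N', hN', hle⟩ := h𝒩 _ hN
    exact .step ih hN' (hle hx) hA

theorem Reach.map {𝒩 : Set (Subgroup G)} {T : Subgroup G} {A : Set G} {c : G}
    (h : Reach 𝒩 T A c) (f : G →* G') :
    Reach ((fun N : Subgroup G => N.map f) '' 𝒩) (T.map f) (f '' A) (f c) := by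
  induction h with
  | one => simpa using Reach.one
  | @step c x N _ hN hx hA ih =>
    rw [map_mul]
    refine .step ih ⟨N, hN, rfl⟩ (mem_map_of_mem f hx) ?_
    rintro _ ⟨_, ⟨a, ha, rfl⟩, rfl⟩
    exact ⟨_, hA ⟨a, ha, rfl⟩, by simp⟩

theorem Reach.mono {𝒩 : Set (Subgroup G)} {T : Subgroup G} {A B : Set G} {c : G}
    (h : Reach 𝒩 T A c) (hB : B ⊆ A) : Reach 𝒩 T B c := by
  induction h with
  | one => exact .one
  | step _ hN hx hA ih => exact .step ih hN hx ((cj_mono hB).trans hA)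

namespace Ctrl

variable {𝒩 : Set (Subgroup G)} {T : Subgroup G} {A B : Set G} {g h : G}

theorem one : Ctrl 𝒩 T A 1 := ⟨1, .one, fun _ _ => rfl⟩

theorem of_eqOn (hg : Ctrl 𝒩 T A g) (heq : ∀ a ∈ A, g * a * g⁻¹ = h * a * h⁻¹) :
    Ctrl 𝒩 T A h := by
  obtain ⟨c, hc, hce⟩ := hg
  exact ⟨c, hc, fun a ha => (hce a ha).trans (heq a ha)⟩

theorem mono (hg : Ctrl 𝒩 T A g) (hB : B ⊆ A) : Ctrl 𝒩 T B g := by
  obtain ⟨c, hc, hce⟩ := hg
  exact ⟨c, hc.mono hB, fun a ha => hce a (hB ha)⟩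

theorem weaken {𝒩' : Set (Subgroup G)} (hg : Ctrl 𝒩 T A g)
    (h𝒩 : ∀ N ∈ 𝒩, ∃ N' ∈ 𝒩', N ≤ N') : Ctrl 𝒩' T A g := by
  obtain ⟨c, hc, hce⟩ := hg
  exact ⟨c, hc.weaken h𝒩, hce⟩

theorem of_mem {N : Subgroup G} (hN : N ∈ 𝒩) (hg : g ∈ N) (hA : cj g A ⊆ T) :
    Ctrl 𝒩 T A g :=
  ⟨g * 1, .step .one hN hg (by rwa [mul_one]), fun a _ => by rw [mul_one]⟩

theorem cj_eq {c : G} (hce : ∀ a ∈ A, c * a * c⁻¹ = h * a * h⁻¹) : cj c A = cj h A :=
  Set.image_congr hce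

theorem subset (hg : Ctrl 𝒩 T A g) (hA : A ⊆ T) : cj g A ⊆ T := by
  obtain ⟨c, hc, hce⟩ := hg
  rw [← cj_eq hce]
  exact hc.subset hA

theorem trans (hg : Ctrl 𝒩 T A g) (hh : Ctrl 𝒩 T (cj g A) h) : Ctrl 𝒩 T A (h * g) := by
  obtain ⟨c, hc, hce⟩ := hg
  obtain ⟨d, hd, hde⟩ := hh
  refine ⟨d * c, hc.trans (by rwa [cj_eq hce]), fun a ha => ?_⟩
  have h1 := hde _ ⟨a, ha, rfl⟩
  calc d * c * a * (d * c)⁻¹ = d * (c * a * c⁻¹) * d⁻¹ := by group
    _ = d * (g * a * g⁻¹) * d⁻¹ := by rw [hce a ha]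
    _ = h * (g * a * g⁻¹) * h⁻¹ := h1
    _ = h * g * a * (h * g)⁻¹ := by group

theorem inv (hg : Ctrl 𝒩 T A g) (hA : A ⊆ T) : Ctrl 𝒩 T (cj g A) g⁻¹ := by
  obtain ⟨c, hc, hce⟩ := hg
  refine ⟨c⁻¹, ?_, ?_⟩
  · rw [← cj_eq hce]; exact hc.inv hA
  · rintro _ ⟨a, ha, rfl⟩
    calc c⁻¹ * (g * a * g⁻¹) * c⁻¹⁻¹ = c⁻¹ * (c * a * c⁻¹) * c⁻¹⁻¹ := by rw [hce a ha]
      _ = g⁻¹ * (g * a * g⁻¹) * g⁻¹⁻¹ := by group

theorem of_subset_bot (hA : A ⊆ ((⊥ : Subgroup G) : Set G)) : Ctrl 𝒩 T A g :=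
  ⟨1, .one, fun a ha => by simp [mem_bot.mp (hA ha)]⟩

theorem map (hg : Ctrl 𝒩 T A g) (f : G →* G') :
    Ctrl ((fun N : Subgroup G => N.map f) '' 𝒩) (T.map f) (f '' A) (f g) := by
  obtain ⟨c, hc, hce⟩ := hg
  refine ⟨f c, hc.map f, ?_⟩
  rintro _ ⟨a, ha, rfl⟩
  simpa using congrArg f (hce a ha)

end Ctrl

/-- The subgroups in `𝒩` control the fusion in `H` of subsets of `T`. -/
def FusCtrl (𝒩 : Set (Subgroup G)) (T H : Subgroup G) : Prop :=
  ∀ (A : Set G) (h : G), h ∈ H → A ⊆ T → cj h A ⊆ T → Ctrl 𝒩 T A h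

/-- The subgroup generated by the intersections of `T` with the derived subgroups of members. -/
def tGen (𝒩 : Set (Subgroup G)) (T : Subgroup G) : Subgroup G := ⨆ N ∈ 𝒩, T ⊓ ⁅N, N⁆

/-- The subgroups in `𝒩` control transfer in `H`. -/
def TrCtrl (𝒩 : Set (Subgroup G)) (T H : Subgroup G) : Prop := T ⊓ ⁅H, H⁆ ≤ tGen 𝒩 T

theorem inf_commutator_le_tGen {𝒩 : Set (Subgroup G)} {N : Subgroup G} (hN : N ∈ 𝒩)
    (T : Subgroup G) : T ⊓ ⁅N, N⁆ ≤ tGen 𝒩 T :=
  le_biSup (fun N => T ⊓ ⁅N, N⁆) hN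

theorem tGen_le_self (𝒩 : Set (Subgroup G)) (T : Subgroup G) : tGen 𝒩 T ≤ T :=
  iSup₂_le fun _ _ => inf_le_left

theorem tGen_weaken {𝒩 𝒩' : Set (Subgroup G)} {T : Subgroup G}
    (h : ∀ N ∈ 𝒩, ∃ N' ∈ 𝒩', N ≤ N') : tGen 𝒩 T ≤ tGen 𝒩' T := by
  refine iSup₂_le fun N hN => ?_
  obtain ⟨N', hN', hle⟩ := h N hN
  exact (inf_le_inf_left _ (commutator_mono hle hle)).trans (inf_commutator_le_tGen hN' T)

theorem map_tGen_le (f : G →* G') (𝒩 : Set (Subgroup G)) (T : Subgroup G) :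
    (tGen 𝒩 T).map f ≤ tGen ((fun N : Subgroup G => N.map f) '' 𝒩) (T.map f) := by
  simp only [tGen, Subgroup.map_iSup]
  change _ ≤ tGen ((fun N : Subgroup G => N.map f) '' 𝒩) (T.map f)
  refine iSup₂_le fun N hN => ?_
  refine le_trans ?_ (inf_commutator_le_tGen (Set.mem_image_of_mem (fun N : Subgroup G => N.map f) hN) _)
  exact (map_inf_le _ _ _).trans (le_of_eq (by rw [map_commutator]))

/-- The subgroups `N_H(W T)`, `W ∈ 𝓕`. -/
def normSet (𝓕 : Set (Subgroup G → Subgroup G)) (H T : Subgroup G) : Set (Subgroup G) :=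
  (fun W => H ⊓ normalizer ((W T : Subgroup G) : Set G)) '' 𝓕

theorem normSet_weaken {𝓕 : Set (Subgroup G → Subgroup G)} {H K T : Subgroup G} (h : H ≤ K) :
    ∀ N ∈ normSet 𝓕 H T, ∃ N' ∈ normSet 𝓕 K T, N ≤ N' := by
  rintro _ ⟨W, hW, rfl⟩
  exact ⟨_, ⟨W, hW, rfl⟩, inf_le_inf_right _ h⟩

theorem normSet_le {𝓕 : Set (Subgroup G → Subgroup G)} {H T : Subgroup G} :
    ∀ N ∈ normSet 𝓕 H T, N ≤ H := by
  rintro _ ⟨W, -, rfl⟩; exact inf_le_left

theorem normSet_singleton (W : Subgroup G → Subgroup G) (H T : Subgroup G) :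
    normSet {W} H T = {H ⊓ normalizer ((W T : Subgroup G) : Set G)} :=
  Set.image_singleton

theorem tGen_singleton (N T : Subgroup G) : tGen {N} T = T ⊓ ⁅N, N⁆ := by simp [tGen]

theorem exists_chain_of_reach {𝒩 : Set (Subgroup G)} {T : Subgroup G} {A : Set G} {c : G}
    (h : Reach 𝒩 T A c) (hA : A ⊆ T) :
    ∃ (n : ℕ) (d : Fin (n + 1) → G), d 0 = 1 ∧
      (∀ i : Fin n, ∃ N ∈ 𝒩, d i.succ * (d i.castSucc)⁻¹ ∈ N) ∧
      (∀ i : Fin (n + 1), cj (d i) A ⊆ T) ∧ d (Fin.last n) = c := by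
  induction h with
  | one => exact ⟨0, fun _ => 1, rfl, fun i => i.elim0, fun _ => by rwa [cj_one], rfl⟩
  | @step c x N _ hN hx hxA ih =>
    obtain ⟨n, d, h0, hstep, hsub, hlast⟩ := ih
    refine ⟨n + 1, Fin.snoc d (x * c), ?_, ?_, ?_, by simp⟩
    · rw [← Fin.castSucc_zero, Fin.snoc_castSucc, h0]
    · intro i
      induction i using Fin.lastCases with
      | last => exact ⟨N, hN, by simp [hlast, hx]⟩
      | cast i =>
        rw [Fin.succ_castSucc, Fin.snoc_castSucc, Fin.snoc_castSucc]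
        exact hstep i
    · intro i
      induction i using Fin.lastCases with
      | last => simpa using hxA
      | cast i => simpa using hsub i

theorem reach_of_chain {𝒩 : Set (Subgroup G)} {T : Subgroup G} {A : Set G} {n : ℕ}
    (d : Fin (n + 1) → G) (h0 : d 0 = 1)
    (hstep : ∀ i : Fin n, ∃ N ∈ 𝒩, d i.succ * (d i.castSucc)⁻¹ ∈ N)
    (hsub : ∀ i : Fin (n + 1), cj (d i) A ⊆ T) (i : Fin (n + 1)) : Reach 𝒩 T A (d i) := by
  induction i using Fin.induction with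
  | zero => rw [h0]; exact .one
  | succ i ih =>
    obtain ⟨N, hN, hx⟩ := hstep i
    have := Reach.step ih hN hx (by simpa using hsub i.succ)
    simpa using this

theorem famFus_iff {𝓕 : Set (Subgroup G → Subgroup G)} {H : Subgroup G} :
    Cfsg.FamilyControlsStrongFusionIn p 𝓕 H ↔
      ∃ T, SylIn p T H ∧ FusCtrl (normSet 𝓕 H T) T H := by
  constructor
  · rintro ⟨T, hTH, hTp, hTi, hfus⟩
    refine ⟨T, ⟨hTH, hTp, hTi⟩, fun A h hh hA hhA => ?_⟩
    obtain ⟨n, c, h0, hstep, hsub, heq⟩ := hfus A h hh hA hhA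
    refine ⟨c (Fin.last n), reach_of_chain c h0 (fun i => ?_) hsub _, heq⟩
    obtain ⟨W, hW, hmem⟩ := hstep i
    exact ⟨_, ⟨W, hW, rfl⟩, hmem⟩
  · rintro ⟨T, hT, hfus⟩
    refine ⟨T, hT.le, hT.isPGroup, hT.not_dvd, fun A h hh hA hhA => ?_⟩
    obtain ⟨c, hc, hce⟩ := hfus A h hh hA hhA
    obtain ⟨n, d, h0, hstep, hsub, hlast⟩ := exists_chain_of_reach hc hA
    refine ⟨n, d, h0, fun i => ?_, hsub, by rw [hlast]; exact hce⟩
    obtain ⟨_, ⟨W, hW, rfl⟩, hmem⟩ := hstep i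
    exact ⟨W, hW, hmem⟩

theorem fus_iff_family {W : Subgroup G → Subgroup G} {H : Subgroup G} :
    Cfsg.ControlsStrongFusionIn p W H ↔ Cfsg.FamilyControlsStrongFusionIn p {W} H := by
  rw [famFus_iff]
  constructor
  · rintro ⟨T, hTH, hTp, hTi, hfus⟩
    refine ⟨T, ⟨hTH, hTp, hTi⟩, fun A h hh hA hhA => ?_⟩
    obtain ⟨x, hx, hxe⟩ := hfus A h hh hA hhA
    exact (Ctrl.of_mem (normSet_singleton W H T ▸ rfl) hx
      (by rw [Ctrl.cj_eq hxe]; exact hhA)).of_eqOn hxe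
  · rintro ⟨T, hT, hfus⟩
    refine ⟨T, hT.le, hT.isPGroup, hT.not_dvd, fun A h hh hA hhA => ?_⟩
    obtain ⟨c, hc, hce⟩ := hfus A h hh hA hhA
    refine ⟨c, hc.mem fun N hN => ?_, hce⟩
    rw [normSet_singleton] at hN
    exact le_of_eq hN

theorem famTr_iff {𝓕 : Set (Subgroup G → Subgroup G)} {H : Subgroup G} :
    Cfsg.FamilyControlsTransferIn p 𝓕 H ↔
      ∃ T, SylIn p T H ∧ TrCtrl (normSet 𝓕 H T) T H := by
  have key : ∀ T : Subgroup G, (⨆ W ∈ 𝓕, T ⊓ ⁅H ⊓ normalizer ((W T : Subgroup G) : Set G),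
      H ⊓ normalizer ((W T : Subgroup G) : Set G)⁆) = tGen (normSet 𝓕 H T) T := by
    intro T; rw [tGen, normSet, iSup_image]
  constructor
  · rintro ⟨T, hTH, hTp, hTi, h⟩
    exact ⟨T, ⟨hTH, hTp, hTi⟩, by rw [TrCtrl, h, key]⟩
  · rintro ⟨T, hT, h⟩
    refine ⟨T, hT.le, hT.isPGroup, hT.not_dvd, ?_⟩
    rw [key]
    refine le_antisymm h (iSup₂_le fun N hN => ?_)
    exact inf_le_inf_left _ (commutator_mono (normSet_le N hN) (normSet_le N hN))

theorem tr_iff_family {W : Subgroup G → Subgroup G} {H : Subgroup G} :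
    Cfsg.ControlsTransferIn p W H ↔ Cfsg.FamilyControlsTransferIn p {W} H := by
  simp only [Cfsg.ControlsTransferIn, Cfsg.FamilyControlsTransferIn, iSup_singleton]

/-! ### independence of the Sylow subgroup -/

variable [Finite G] [hp : Fact p.Prime]

theorem functor_cjSub {W : Subgroup G → Subgroup G} (hW : Cfsg.IsConjugacyFunctor p W)
    {P : Subgroup G} (hP : IsPGroup p P) (g : G) : W (cjSub g P) = cjSub g (W P) :=
  (hW P hP).2.2 g

theorem le_normalizer_functor {W : Subgroup G → Subgroup G} (hW : Cfsg.IsConjugacyFunctor p W)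
    {P : Subgroup G} (hP : IsPGroup p P) :
    normalizer (P : Set G) ≤ normalizer ((W P : Subgroup G) : Set G) := fun g hg =>
  mem_normalizer_of_cjSub_eq (by rw [← functor_cjSub hW hP, cjSub_eq_of_mem hg])

theorem self_le_normalizer_functor {W : Subgroup G → Subgroup G}
    (hW : Cfsg.IsConjugacyFunctor p W) {P : Subgroup G} (hP : IsPGroup p P) :
    P ≤ normalizer ((W P : Subgroup G) : Set G) :=
  le_normalizer.trans (le_normalizer_functor hW hP)

theorem normSet_cjSub {𝓕 : Set (Subgroup G → Subgroup G)}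
    (h𝓕 : ∀ W ∈ 𝓕, Cfsg.IsConjugacyFunctor p W) {H T : Subgroup G} (hT : IsPGroup p T) {d : G}
    (hd : d ∈ H) : (fun N : Subgroup G => N.map (MulAut.conj d).toMonoidHom) '' normSet 𝓕 H T =
      normSet 𝓕 H (cjSub d T) := by
  rw [normSet, normSet, Set.image_image]
  refine Set.image_congr fun W hW => ?_
  rw [map_inf_eq _ _ _ (MulAut.conj d).injective, functor_cjSub (h𝓕 W hW) hT, ← cjSub_normalizer]
  exact congrArg (· ⊓ _) (cjSub_eq_of_mem (le_normalizer hd))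

theorem fusCtrl_transfer_sylow {𝓕 : Set (Subgroup G → Subgroup G)}
    (h𝓕 : ∀ W ∈ 𝓕, Cfsg.IsConjugacyFunctor p W) {H T T' : Subgroup G} (hT : SylIn p T H)
    (hT' : SylIn p T' H) (h : FusCtrl (normSet 𝓕 H T) T H) :
    FusCtrl (normSet 𝓕 H T') T' H := by
  obtain ⟨d, hd, rfl⟩ := hT'.exists_conj hT
  intro A g hg hA hgA
  have h1 : cj d⁻¹ A ⊆ T := fun x hx => by
    have := mem_cjSub.mp (hA (mem_cj.mp hx))
    simpa [mul_assoc] using this
  have h2 : cj (d⁻¹ * g * d) (cj d⁻¹ A) ⊆ T := by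
    rw [← cj_mul, mul_assoc, mul_assoc, mul_inv_cancel, mul_one, cj_mul]
    intro x hx
    have := mem_cjSub.mp (hgA (mem_cj.mp hx))
    simpa [mul_assoc] using this
  have h3 := (h _ _ (mul_mem (mul_mem (inv_mem hd) hg) hd) h1 h2).map (MulAut.conj d).toMonoidHom
  rw [normSet_cjSub h𝓕 hT.isPGroup hd] at h3
  convert h3 using 1
  · change A = cj d (cj d⁻¹ A)
    rw [← cj_mul, mul_inv_cancel, cj_one]
  · simp [mul_assoc]

theorem trCtrl_transfer_sylow {𝓕 : Set (Subgroup G → Subgroup G)}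
    (h𝓕 : ∀ W ∈ 𝓕, Cfsg.IsConjugacyFunctor p W) {H T T' : Subgroup G} (hT : SylIn p T H)
    (hT' : SylIn p T' H) (h : TrCtrl (normSet 𝓕 H T) T H) :
    TrCtrl (normSet 𝓕 H T') T' H := by
  obtain ⟨d, hd, rfl⟩ := hT'.exists_conj hT
  have h3 := (map_mono (f := (MulAut.conj d).toMonoidHom) h).trans (map_tGen_le _ _ _)
  rw [normSet_cjSub h𝓕 hT.isPGroup hd, map_inf_eq _ _ _ (MulAut.conj d).injective,
    map_commutator] at h3
  change cjSub d T ⊓ ⁅cjSub d H, cjSub d H⁆ ≤ _ at h3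
  rwa [cjSub_eq_of_mem (le_normalizer hd)] at h3

theorem famFus_iff_forall {𝓕 : Set (Subgroup G → Subgroup G)}
    (h𝓕 : ∀ W ∈ 𝓕, Cfsg.IsConjugacyFunctor p W) {H T : Subgroup G} (hT : SylIn p T H) :
    Cfsg.FamilyControlsStrongFusionIn p 𝓕 H ↔ FusCtrl (normSet 𝓕 H T) T H :=
  ⟨fun h => by
    obtain ⟨T₀, hT₀, h₀⟩ := famFus_iff.mp h
    exact fusCtrl_transfer_sylow h𝓕 hT₀ hT h₀,
  fun h => famFus_iff.mpr ⟨T, hT, h⟩⟩

theorem famTr_iff_forall {𝓕 : Set (Subgroup G → Subgroup G)}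
    (h𝓕 : ∀ W ∈ 𝓕, Cfsg.IsConjugacyFunctor p W) {H T : Subgroup G} (hT : SylIn p T H) :
    Cfsg.FamilyControlsTransferIn p 𝓕 H ↔ TrCtrl (normSet 𝓕 H T) T H :=
  ⟨fun h => by
    obtain ⟨T₀, hT₀, h₀⟩ := famTr_iff.mp h
    exact trCtrl_transfer_sylow h𝓕 hT₀ hT h₀,
  fun h => famTr_iff.mpr ⟨T, hT, h⟩⟩

theorem commutatorPart_mem {M T : Subgroup G} {u h : G} (hu : u ∈ T) (huM : u ∈ M) (hh : h ∈ M)
    (hhu : h * u * h⁻¹ ∈ T) : u⁻¹ * (h * u * h⁻¹) ∈ T ⊓ ⁅M, M⁆ := by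
  refine mem_inf.mpr ⟨mul_mem (inv_mem hu) hhu, ?_⟩
  rw [show u⁻¹ * (h * u * h⁻¹) = ⁅u⁻¹, h⁆ by rw [commutatorElement_def]; group]
  exact commutator_mem_commutator (inv_mem huM) hh

theorem inf_commutator_le_of_focal (S : Sylow p G) (D : Subgroup G)
    (h : ∀ u ∈ (S : Subgroup G), ∀ g : G, g * u * g⁻¹ ∈ (S : Subgroup G) →
      u⁻¹ * (g * u * g⁻¹) ∈ D) :
    (S : Subgroup G) ⊓ ⁅(⊤ : Subgroup G), ⊤⁆ ≤ D := by
  rw [inf_comm, ← commutator_def, commutator_inf_eq_focalSubgroup S, focalSubgroup_def, closure_le]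
  rintro _ ⟨hgS, x, hx, u, rfl⟩
  have hz : u * x⁻¹ * u⁻¹ ∈ (S : Subgroup G) := by
    rw [show u * x⁻¹ * u⁻¹ = x⁻¹ * ⁅x, u⁆ by rw [commutatorElement_def]; group]
    exact mul_mem (inv_mem hx) hgS
  have := h x⁻¹ (inv_mem hx) u hz
  rwa [inv_inv, show x * (u * x⁻¹ * u⁻¹) = ⁅x, u⁆ by rw [commutatorElement_def]; group] at this

end Cfsg.Agent.Control
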