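import Mathlib.GroupTheory.Sylow
import Mathlib.GroupTheory.Nilpotent
import Mathlib.GroupTheory.IndexNormal
import Mathlib.GroupTheory.SpecificGroups.Cyclic
import Mathlib.Algebra.Polynomial.AlgebraMap
import Mathlib.Algebra.CharP.Lemmas
import Mathlib.RingTheory.Polynomial.Basic
import Mathlib.FieldTheory.Finite.Basic

/-!
# Products over orbits of `p`-groups that cancel

If `∏ i < p, φ (s^i • r) = 1` for all points `r` and all `s` in a set closed under conjugation by the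
`p`-group `T`, then orbits of `T` moved by such an element do not contribute to `∏ r, φ r`.
-/

namespace Cfsg.Agent.Control

open Subgroup Finset

set_option linter.unusedSectionVars false

variable {G : Type*} [Group G] {p : ℕ}

theorem exists_normal_index_p_ge [hp : Fact p.Prime] {P : Type*} [Group P] [Finite P]
    (hP : IsPGroup p P) {St : Subgroup P} (hSt : St ≠ ⊤) :
    ∃ K : Subgroup P, St ≤ K ∧ K.Normal ∧ K.index = p := by
  obtain ⟨n, hn⟩ := IsPGroup.iff_card.mp hP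
  obtain ⟨a, ha⟩ := IsPGroup.iff_card.mp (hP.to_subgroup St)
  have hlt : Nat.card St < Nat.card P := by
    refine lt_of_le_of_ne (Nat.le_of_dvd Nat.card_pos (card_subgroup_dvd_card St)) fun he => hSt ?_
    exact eq_top_of_card_eq St he
  rw [hn, ha] at hlt
  have han : a < n := (Nat.pow_lt_pow_iff_right hp.out.one_lt).mp hlt
  obtain ⟨m, rfl⟩ : ∃ m, n = m + 1 := ⟨n - 1, by omega⟩
  obtain ⟨K, hK, hle⟩ := Sylow.exists_subgroup_card_pow_prime_le p (G := P) (n := a) (m := m)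
    (hn ▸ pow_dvd_pow p m.le_succ) St ha (by omega)
  have hKi : K.index = p := by
    have := K.card_mul_index
    rw [hK, hn, pow_succ] at this
    exact Nat.eq_of_mul_eq_mul_left (pow_pos hp.out.pos m) this
  exact ⟨K, hle, normal_of_index_eq_minFac_card (by
    rw [hKi, hn, Nat.Prime.pow_minFac hp.out m.succ_ne_zero]), hKi⟩

variable {Ω : Type*} [MulAction G Ω] {B : Type*} [CommMonoid B]

open Classical in
/-- The orbit of `q` under the subgroup `P`, as a finset. -/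
noncomputable def orb [Fintype Ω] (P : Subgroup G) (q : Ω) : Finset Ω :=
  univ.filter fun r => ∃ u ∈ P, u • q = r

theorem mem_orb [Fintype Ω] {P : Subgroup G} {q r : Ω} : r ∈ orb P q ↔ ∃ u ∈ P, u • q = r := by
  simp [orb]

variable [Fintype Ω] [Finite G] [hp : Fact p.Prime] {φ : Ω → B} {T : Subgroup G} {𝒮 : Set G}

theorem orb_prod_eq_one (hT : IsPGroup p T) (hconj : ∀ u ∈ T, ∀ s ∈ 𝒮, u * s * u⁻¹ ∈ 𝒮)
    (hprod : ∀ s ∈ 𝒮, ∀ r, ∏ i ∈ range p, φ (s ^ i • r) = 1) (P : Subgroup G) (hPT : P ≤ T)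
    (q : Ω) (hq : ∃ s ∈ 𝒮, s ∈ P ∧ s • q ≠ q) : ∏ r ∈ orb P q, φ r = 1 := by
  classical
  induction hn : Nat.card P using Nat.strong_induction_on generalizing P q with
  | _ n IH =>
  subst hn
  obtain ⟨s, hs, hsP, hsq⟩ := hq
  have hP : IsPGroup p P := hT.to_le hPT
  let St : Subgroup P := (MulAction.stabilizer G q).subgroupOf P
  have hSt : St ≠ ⊤ := fun h => hsq (subgroupOf_eq_top.mp h hsP)
  obtain ⟨K, hStK, hKn, hKi⟩ := exists_normal_index_p_ge hP hSt
  set P₁ := K.map P.subtype with hP₁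
  have hP₁P : P₁ ≤ P := map_subtype_le K
  have hcard : Nat.card P₁ < Nat.card P := by
    rw [hP₁, card_map_of_injective P.subtype_injective]
    have := K.card_mul_index
    rw [hKi] at this
    have h2 := hp.out.two_le
    have h0 : 0 < Nat.card K := Nat.card_pos
    nlinarith
  have hquot : Nat.card (↥P ⧸ K) = p := by rw [← index_eq_card, hKi]
  -- an element outside `K`, equal to `s` when possible
  obtain ⟨u, hu, hus⟩ : ∃ u : P, u ∉ K ∧ ((s ∈ P₁) ∨ (u : G) = s) := by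
    by_cases h : s ∈ P₁
    · obtain ⟨u, -, hu⟩ := SetLike.exists_of_lt (lt_top_iff_ne_top.mpr
        (show K ≠ ⊤ from fun e => hp.out.ne_one (by rw [← hKi, e, index_top])))
      exact ⟨u, hu, Or.inl h⟩
    · exact ⟨⟨s, hsP⟩, fun hk => h ⟨⟨s, hsP⟩, hk, rfl⟩, Or.inr rfl⟩
  have hu1 : (u : ↥P ⧸ K) ≠ 1 := fun h => hu ((QuotientGroup.eq_one_iff u).mp h)
  have hord : orderOf (u : ↥P ⧸ K) = p := by
    rcases (Nat.dvd_prime hp.out).mp (hquot ▸ orderOf_dvd_natCard (u : ↥P ⧸ K)) with h | h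
    · exact absurd (orderOf_eq_one_iff.mp h) hu1
    · exact h
  have hdec : ∀ x : P, ∃ i < p, (u ^ i)⁻¹ * x ∈ K := by
    intro x
    obtain ⟨i, hi⟩ := mem_powers_of_prime_card (g' := (x : ↥P ⧸ K)) hquot hu1
    refine ⟨i % p, Nat.mod_lt _ hp.out.pos, ?_⟩
    rw [← QuotientGroup.eq, QuotientGroup.mk_pow]
    have h2 := pow_mod_orderOf (u : ↥P ⧸ K) i
    rw [hord] at h2
    rw [h2]
    exact hi
  have horb : orb P q = (range p ×ˢ orb P₁ q).image (fun ir => (u : G) ^ ir.1 • ir.2) := by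
    ext r
    simp only [Finset.mem_image, Finset.mem_product, Finset.mem_range, mem_orb, Prod.exists]
    constructor
    · rintro ⟨x, hx, rfl⟩
      obtain ⟨i, hi, hxi⟩ := hdec ⟨x, hx⟩
      refine ⟨i, ((u : G) ^ i)⁻¹ • x • q, ⟨hi, ((u : G) ^ i)⁻¹ * x, ⟨_, hxi, by simp⟩,
        mul_smul _ _ _⟩, smul_inv_smul _ _⟩
    · rintro ⟨i, r₁, ⟨hi, w, hw, rfl⟩, rfl⟩
      exact ⟨(u : G) ^ i * w, mul_mem (pow_mem u.2 i) (hP₁P hw), mul_smul _ _ _⟩
  have hinj : Set.InjOn (fun ir : ℕ × Ω => (u : G) ^ ir.1 • ir.2)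
      ((range p ×ˢ orb P₁ q : Finset (ℕ × Ω)) : Set (ℕ × Ω)) := by
    rintro ⟨i, r₁⟩ h1 ⟨j, r₂⟩ h2 he
    simp only [Finset.coe_product, Set.mem_prod, Finset.coe_range, Set.mem_Iio, Finset.mem_coe,
      mem_orb] at h1 h2
    obtain ⟨hi, _, ⟨w₁, hw₁, rfl⟩, rfl⟩ := h1
    obtain ⟨hj, _, ⟨w₂, hw₂, rfl⟩, rfl⟩ := h2
    have hmem : ((u ^ j * w₂)⁻¹ * (u ^ i * w₁) : P) ∈ St := by
      refine mem_subgroupOf.mpr ?_
      change ((((u ^ j * w₂)⁻¹ * (u ^ i * w₁) : P)) : G) • q = q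
      push_cast
      rw [mul_smul, mul_smul, inv_smul_eq_iff, mul_smul]
      exact he
    have hK2 := hStK hmem
    have hij : (u : ↥P ⧸ K) ^ j = (u : ↥P ⧸ K) ^ i := by
      have := (QuotientGroup.eq_one_iff _).mpr hK2
      simp only [QuotientGroup.mk_mul, QuotientGroup.mk_inv, QuotientGroup.mk_pow,
        (QuotientGroup.eq_one_iff w₁).mpr hw₁, (QuotientGroup.eq_one_iff w₂).mpr hw₂,
        mul_one] at this
      exact inv_mul_eq_one.mp this
    have : j = i := pow_injOn_Iio_orderOf (by rw [Set.mem_Iio, hord]; exact hj)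
      (by rw [Set.mem_Iio, hord]; exact hi) hij
    subst this
    exact Prod.ext rfl (smul_left_cancel _ he)
  rw [horb, Finset.prod_image hinj, Finset.prod_product]
  by_cases hs1 : s ∈ P₁
  · refine Finset.prod_eq_one fun i _ => ?_
    have himg : orb P₁ ((u : G) ^ i • q) = (orb P₁ q).image (fun r => (u : G) ^ i • r) := by
      have hnorm : ∀ (v : P) (w : G), w ∈ P₁ → (v : G) * w * (v : G)⁻¹ ∈ P₁ := by
        rintro v _ ⟨w, hw, rfl⟩
        exact ⟨v * w * v⁻¹, hKn.conj_mem w hw v, by simp⟩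
      ext r
      simp only [mem_orb, Finset.mem_image]
      constructor
      · rintro ⟨w, hw, rfl⟩
        refine ⟨((u : G) ^ i)⁻¹ • w • (u : G) ^ i • q,
          ⟨((u : G) ^ i)⁻¹ * w * (u : G) ^ i, ?_, by simp [mul_smul]⟩, smul_inv_smul _ _⟩
        simpa using hnorm (u ^ i)⁻¹ w hw
      · rintro ⟨_, ⟨w, hw, rfl⟩, rfl⟩
        refine ⟨(u : G) ^ i * w * ((u : G) ^ i)⁻¹, ?_, by simp [mul_smul]⟩
        simpa using hnorm (u ^ i) w hw
    have h1 := IH _ hcard P₁ (hP₁P.trans hPT) ((u : G) ^ i • q) ⟨(u : G) ^ i * s * ((u : G) ^ i)⁻¹,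
      hconj _ (hPT (pow_mem u.2 i)) s hs, ?_, ?_⟩ rfl
    · rw [himg, Finset.prod_image (MulAction.injective _).injOn] at h1
      exact h1
    · obtain ⟨w, hw, hws⟩ := hs1
      exact ⟨u ^ i * w * (u ^ i)⁻¹, hKn.conj_mem w hw _, by rw [← hws]; simp⟩
    · rw [mul_smul, inv_smul_smul, mul_smul]
      exact fun h => hsq (smul_left_cancel _ h)
  · rw [Finset.prod_comm]
    refine Finset.prod_eq_one fun r _ => ?_
    simpa [hus.resolve_left hs1] using hprod s hs r

/-- If every point but `q₀` is moved by an element of `𝒮`, then `∏ φ = φ q₀`. -/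
theorem prod_eq_of_moved (hT : IsPGroup p T) (hST : ∀ s ∈ 𝒮, s ∈ T)
    (hconj : ∀ u ∈ T, ∀ s ∈ 𝒮, u * s * u⁻¹ ∈ 𝒮)
    (hprod : ∀ s ∈ 𝒮, ∀ r, ∏ i ∈ range p, φ (s ^ i • r) = 1) {q₀ : Ω}
    (hq₀ : ∀ u ∈ T, u • q₀ = q₀) (hmoved : ∀ r, r ≠ q₀ → ∃ s ∈ 𝒮, s • r ≠ r) :
    ∏ r, φ r = φ q₀ := by
  classical
  suffices h : ∀ X : Finset Ω, q₀ ∉ X → (∀ r ∈ X, ∀ u ∈ T, u • r ∈ X) → ∏ r ∈ X, φ r = 1 by
    rw [← Finset.mul_prod_erase univ φ (mem_univ q₀), h _ (Finset.notMem_erase _ _) ?_, mul_one]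
    intro r hr u hu
    refine Finset.mem_erase.mpr ⟨fun e => Finset.ne_of_mem_erase hr ?_, mem_univ _⟩
    rw [← inv_smul_smul u r, e, hq₀ _ (inv_mem hu)]
  intro X
  induction hX : X.card using Nat.strong_induction_on generalizing X with
  | _ n IH =>
  subst hX
  intro hq hinv
  rcases X.eq_empty_or_nonempty with rfl | ⟨r, hr⟩
  · simp
  obtain ⟨s, hs, hsr⟩ := hmoved r (fun e => hq (e ▸ hr))
  have hsub : orb T r ⊆ X := fun x hx => by
    obtain ⟨u, hu, rfl⟩ := mem_orb.mp hx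
    exact hinv r hr u hu
  have hrorb : r ∈ orb T r := mem_orb.mpr ⟨1, one_mem T, one_smul _ r⟩
  rw [← Finset.prod_sdiff hsub,
    orb_prod_eq_one hT hconj hprod T le_rfl r ⟨s, hs, hST s hs, hsr⟩, mul_one]
  refine IH _ (Finset.card_lt_card (Finset.sdiff_ssubset hsub ⟨r, hrorb⟩)) _ rfl
    (fun h => hq (Finset.mem_sdiff.mp h).1) fun x hx u hu => ?_
  obtain ⟨hxX, hxo⟩ := Finset.mem_sdiff.mp hx
  refine Finset.mem_sdiff.mpr ⟨hinv x hxX u hu, fun h => hxo ?_⟩
  obtain ⟨v, hv, hvx⟩ := mem_orb.mp h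
  exact mem_orb.mpr ⟨u⁻¹ * v, mul_mem (inv_mem hu) hv, by rw [mul_smul, hvx, inv_smul_smul]⟩

/-! ### the norm identity in characteristic `p` -/

omit [Fintype Ω] [Finite G] in
theorem sub_one_pow_eq_geom (p : ℕ) [hp : Fact p.Prime] :
    ∃ R : Polynomial ℤ, (Polynomial.X - 1) ^ (p - 1) =
      (∑ i ∈ range p, (Polynomial.X : Polynomial ℤ) ^ i) + Polynomial.C (p : ℤ) * R := by
  have h0 : ((Polynomial.X - 1) ^ (p - 1) - ∑ i ∈ range p, (Polynomial.X : Polynomial ℤ) ^ i).map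
      (Int.castRingHom (ZMod p)) = 0 := by
    simp only [Polynomial.map_sub, Polynomial.map_pow, Polynomial.map_X, Polynomial.map_one,
      Polynomial.map_sum]
    rw [sub_eq_zero]
    refine mul_left_cancel₀ (Polynomial.X_sub_C_ne_zero (1 : ZMod p)) ?_
    rw [map_one, ← pow_succ', Nat.sub_add_cancel hp.out.one_le, mul_geom_sum, sub_pow_char,
      one_pow]
  obtain ⟨R, hR⟩ := (Polynomial.C_dvd_iff_dvd_coeff (p : ℤ) _).mpr fun i =>
    (ZMod.intCast_zmod_eq_zero_iff_dvd _ p).mp (by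
      have := congrArg (fun f => Polynomial.coeff f i) h0
      simpa only [Polynomial.coeff_map, Polynomial.coeff_zero, eq_intCast] using this)
  exact ⟨R, by rw [← hR]; ring⟩

omit [Fintype Ω] [Finite G] in
/-- In a group of exponent `p`, `(f - 1)^(p-1) b = 0` forces the norm of `b` under `f` to vanish. -/
theorem prod_iterate_eq_one {p : ℕ} [Fact p.Prime] {A : Type*} [CommGroup A]
    (hexp : ∀ a : A, a ^ p = 1) (f : A →* A) {b : A}
    (hb : (fun a => f a * a⁻¹)^[p - 1] b = 1) : ∏ i ∈ range p, f^[i] b = 1 := by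
  obtain ⟨R, hR⟩ := sub_one_pow_eq_geom p
  let e : AddMonoid.End (Additive A) := MonoidHom.toAdditive f
  have hpow : ∀ (i : ℕ) (a : A), (e ^ i) (Additive.ofMul a) = Additive.ofMul (f^[i] a) := by
    intro i
    induction i with
    | zero => intro a; rfl
    | succ i ih =>
      intro a
      rw [pow_succ', Function.iterate_succ_apply']
      change e ((e ^ i) (Additive.ofMul a)) = _
      rw [ih]; rfl
  have hsub : ∀ (k : ℕ) (a : A), ((e - 1) ^ k) (Additive.ofMul a) =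
      Additive.ofMul ((fun a => f a * a⁻¹)^[k] a) := by
    intro k
    induction k with
    | zero => intro a; rfl
    | succ k ih =>
      intro a
      rw [pow_succ', Function.iterate_succ_apply']
      change (e - 1) (((e - 1) ^ k) (Additive.ofMul a)) = _
      rw [ih, sub_eq_add_neg]
      rfl
  have h1 := congrArg (fun P => (Polynomial.aeval e P) (Additive.ofMul b)) hR
  simp only [map_pow, map_sub, Polynomial.aeval_X, map_one, map_add, map_sum, map_mul,
    Polynomial.aeval_C] at h1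
  rw [hsub, hb, ofMul_one] at h1
  have h2 : (algebraMap ℤ (AddMonoid.End (Additive A)) (p : ℤ) * Polynomial.aeval e R)
      (Additive.ofMul b) = 0 := by
    rw [eq_intCast, Int.cast_natCast]
    change (p : AddMonoid.End (Additive A)) ((Polynomial.aeval e R) (Additive.ofMul b)) = 0
    rw [AddMonoid.End.natCast_apply]
    exact hexp (Additive.toMul ((Polynomial.aeval e R) (Additive.ofMul b)))
  have h3 : (∑ i ∈ range p, e ^ i) (Additive.ofMul b) =
      ∑ i ∈ range p, (e ^ i) (Additive.ofMul b) := AddMonoidHom.finsetSum_apply _ _ _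
  have h4 : (0 : Additive A) = ∑ i ∈ range p, Additive.ofMul (f^[i] b) := by
    have h5 : (0 : Additive A) = (∑ i ∈ range p, e ^ i) (Additive.ofMul b) +
        (algebraMap ℤ (AddMonoid.End (Additive A)) (p : ℤ) * Polynomial.aeval e R)
          (Additive.ofMul b) := h1
    rw [h2, add_zero, h3] at h5
    simpa only [hpow] using h5
  rw [← ofMul_prod] at h4
  exact Additive.ofMul.injective h4.symm

end Cfsg.Agent.Control
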