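import Mathlib.GroupTheory.Transfer
import Mathlib.GroupTheory.Abelianization.Defs
import Cfsg.Prelude.Def_PLocal
import Cfsg.Prelude.Def_LocalEven
import Cfsg.Agent.Core.MinimalNormal
import Cfsg.Agent.Core.PCore
import Cfsg.Agent.Control.Basic
import Cfsg.Agent.Control.Orbit

/-!
# Elements of a Sylow subgroup acting with `(g - 1)^(p-1) = 0` on chief factors

If a unique maximal subgroup `M` contains the Sylow subgroup `S` and some `g ∈ S` outside `O_p` kills,
in `p - 1` steps, the chief factors inside a normal `A ≤ O_p`, then the fixed points of `M` on abelian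
`A` are central, and homomorphisms of `M` into abelian groups kill `A ⊓ X'`.
-/

namespace Cfsg.Agent.Control

open Subgroup
open scoped commutatorElement

set_option linter.unusedSectionVars false

universe u

variable {X : Type u} [Group X] {p : ℕ}

/-- `g` kills in `p - 1` steps every chief factor inside `A`. -/
def GoodOn (p : ℕ) (A : Subgroup X) (g : X) : Prop :=
  ∀ U V : Subgroup X, Cfsg.IsChiefFactor U V → U ≤ A →
    Cfsg.iterCommutator U (zpowers g) (p - 1) ≤ V

theorem GoodOn.mono {A B : Subgroup X} {g : X} (h : GoodOn p A g) (hBA : B ≤ A) : GoodOn p B g :=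
  fun U V hUV hU => h U V hUV (hU.trans hBA)

theorem GoodOn.inv {A : Subgroup X} {g : X} (h : GoodOn p A g) : GoodOn p A g⁻¹ := by
  unfold GoodOn at h ⊢
  rw [zpowers_inv]
  exact h

theorem map_iterCommutator {Y : Type*} [Group Y] (f : X →* Y) (N H : Subgroup X) (n : ℕ) :
    (Cfsg.iterCommutator N H n).map f = Cfsg.iterCommutator (N.map f) (H.map f) n := by
  induction n with
  | zero => rfl
  | succ n ih =>
    change (⁅Cfsg.iterCommutator N H n, H⁆).map f = ⁅_, H.map f⁆
    rw [map_commutator, ih]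

theorem GoodOn.conj {A : Subgroup X} {g : X} (h : GoodOn p A g) (c : X) :
    GoodOn p A (c * g * c⁻¹) := by
  intro U V hUV hU
  have hz : (zpowers g).map (MulAut.conj c).toMonoidHom = zpowers (c * g * c⁻¹) := by
    rw [MonoidHom.map_zpowers]; rfl
  have hn : ∀ N : Subgroup X, N.Normal → cjSub c N = N := fun N hN =>
    cjSub_eq_of_mem (by rw [normalizer_eq_top_iff.mpr hN]; exact mem_top c)
  have := map_mono (f := (MulAut.conj c).toMonoidHom) (h U V hUV hU)
  rw [map_iterCommutator, hz] at this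
  rwa [show U.map (MulAut.conj c).toMonoidHom = U from hn U hUV.2.1,
    show V.map (MulAut.conj c).toMonoidHom = V from hn V hUV.2.2.1] at this

/-- The elements of `S` good on `A`. -/
def goodSet (p : ℕ) (S A : Subgroup X) : Set X := {t | t ∈ S ∧ GoodOn p A t}

/-- `M` is the unique maximal subgroup of `X` containing `S`. -/
structure UniqueMaxOver (S M : Subgroup X) : Prop where
  le : S ≤ M
  ne_top : M ≠ ⊤
  max : ∀ K : Subgroup X, S ≤ K → K ≠ ⊤ → K ≤ M

variable [Finite X] [hp : Fact p.Prime]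

theorem exists_good_moving (S : Sylow p X) {M A : Subgroup X} (hM : UniqueMaxOver (S : Subgroup X) M)
    {g : X} (hgS : g ∈ (S : Subgroup X)) (hgQ : g ∉ Cfsg.pCore p X) (hg : GoodOn p A g)
    {r : X ⧸ M} (hr : r ≠ ((1 : X) : X ⧸ M)) :
    ∃ t ∈ goodSet p (S : Subgroup X) A, t • r ≠ r := by
  by_contra hcon
  push Not at hcon
  obtain ⟨a, rfl⟩ := QuotientGroup.mk_surjective r
  set L := Subgroup.closure (goodSet p (S : Subgroup X) A) with hL
  have hLS : L ≤ (S : Subgroup X) := (closure_le _).mpr fun t ht => ht.1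
  have hLM : cjSub a⁻¹ L ≤ M := by
    rw [map_le_iff_le_comap, hL, closure_le]
    intro t ht
    have := hcon t ht
    rw [MulAction.Quotient.smul_coe, smul_eq_mul, QuotientGroup.eq] at this
    change a⁻¹ * t * a⁻¹⁻¹ ∈ M
    have h2 := inv_mem this
    rw [inv_inv]
    rwa [show ((t * a)⁻¹ * a)⁻¹ = a⁻¹ * t * a by group] at h2
  obtain ⟨d, hd, hdL⟩ := ((sylIn_top S).mono hM.le le_top).exists_cjSub_le
    (isPGroup_cjSub (S.2.to_le hLS)) hLM
  rw [cjSub_cjSub] at hdL
  have hN : d * a⁻¹ ∈ normalizer (L : Set X) := by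
    refine mem_normalizer_of_cjSub_eq (eq_of_le_of_card_ge ?_ (card_cjSub _ L).ge)
    rw [map_le_iff_le_comap, hL, closure_le]
    intro t ht
    exact subset_closure ⟨hdL ⟨t, subset_closure ht, rfl⟩, ht.2.conj _⟩
  have hSN : (S : Subgroup X) ≤ normalizer (L : Set X) := fun s hs => by
    refine mem_normalizer_of_cjSub_eq (eq_of_le_of_card_ge ?_ (card_cjSub _ L).ge)
    rw [map_le_iff_le_comap, hL, closure_le]
    intro t ht
    exact subset_closure ⟨mul_mem (mul_mem hs ht.1) (inv_mem hs), ht.2.conj _⟩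
  have hne : normalizer (L : Set X) ≠ ⊤ := fun he => by
    have := normalizer_eq_top_iff.mp he
    exact hgQ (Core.le_pCore (S.2.to_le hLS) (subset_closure ⟨hgS, hg⟩))
  have h1 := mul_mem (inv_mem hd) (hM.max _ hSN hne hN)
  refine hr (QuotientGroup.eq.mpr ?_)
  rw [inv_mul_cancel_left] at h1
  simpa using h1

theorem smul_base {S M : Subgroup X} (hSM : S ≤ M) {u : X} (hu : u ∈ S) :
    u • ((1 : X) : X ⧸ M) = ((1 : X) : X ⧸ M) := by
  rw [MulAction.Quotient.smul_coe, smul_eq_mul, mul_one, QuotientGroup.eq]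
  simpa using hSM hu

/-- The product of `φ` over `X ⧸ M` is its value at the base point. -/
theorem prod_eq_base (S : Sylow p X) {M A : Subgroup X} (hM : UniqueMaxOver (S : Subgroup X) M)
    {g : X} (hgS : g ∈ (S : Subgroup X)) (hgQ : g ∉ Cfsg.pCore p X) (hg : GoodOn p A g)
    {B : Type*} [CommMonoid B] [Fintype (X ⧸ M)] (φ : X ⧸ M → B)
    (hprod : ∀ s ∈ goodSet p (S : Subgroup X) A, ∀ r, ∏ i ∈ Finset.range p, φ (s ^ i • r) = 1) :
    ∏ r, φ r = φ ((1 : X) : X ⧸ M) :=
  prod_eq_of_moved (φ := φ) (T := (S : Subgroup X)) (𝒮 := goodSet p (S : Subgroup X) A) S.2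
    (fun _ hs => hs.1)
    (fun u hu _ hs => ⟨mul_mem (mul_mem hu hs.1) (inv_mem hu), hs.2.conj u⟩) hprod
    (fun _ hu => smul_base hM.le hu) (fun _ hr => exists_good_moving S hM hgS hgQ hg hr)

/-! ### chief factors -/

theorem exists_chief_below {A : Subgroup X} [A.Normal] (hA : A ≠ ⊥) :
    ∃ A₀ : Subgroup X, A₀.Normal ∧ A₀ < A ∧ Cfsg.IsChiefFactor A A₀ := by
  obtain ⟨A₀, hA₀, hmax⟩ := Set.exists_max_image {N : Subgroup X | N.Normal ∧ N < A}
    (fun N => Nat.card N) (Set.toFinite _) ⟨⊥, inferInstance, bot_lt_iff_ne_bot.mpr hA⟩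
  refine ⟨A₀, hA₀.1, hA₀.2, hA₀.2, inferInstance, hA₀.1, fun N hN h1 h2 => ?_⟩
  rcases h2.eq_or_lt with rfl | hlt
  · exact Or.inr rfl
  · exact Or.inl (eq_of_le_of_card_ge h1 (hmax N ⟨hN, hlt⟩)).symm

theorem isMinNormal_image {A A₀ : Subgroup X} [A₀.Normal] (h : Cfsg.IsChiefFactor A A₀) :
    Core.IsMinNormal (A.map (QuotientGroup.mk' A₀)) := by
  obtain ⟨hlt, hAn, -, hch⟩ := h
  set f := QuotientGroup.mk' A₀ with hf
  have hsurj : Function.Surjective f := QuotientGroup.mk'_surjective A₀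
  refine ⟨hAn.map f hsurj, fun he => ?_, fun N hN hNle => ?_⟩
  · rw [Subgroup.map_eq_bot_iff, QuotientGroup.ker_mk'] at he
    exact hlt.not_ge he
  · have h1 : A₀ ≤ N.comap f := fun x hx => by
      change f x ∈ N
      rw [(QuotientGroup.eq_one_iff x).mpr hx |> fun e => show f x = 1 from e]
      exact one_mem N
    have h2 : N.comap f ≤ A := by
      refine (comap_mono hNle).trans ?_
      rw [comap_map_eq, QuotientGroup.ker_mk', sup_eq_left.mpr hlt.le]
    rcases hch _ (hN.comap f) h1 h2 with he | he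
    · refine Or.inl ?_
      rw [← map_comap_eq_self_of_surjective hsurj N, he, QuotientGroup.map_mk'_self]
    · exact Or.inr (by rw [← map_comap_eq_self_of_surjective hsurj N, he])

/-- The facts used about the chief factor `A / A₀` inside `O_p`. -/
theorem image_facts {A A₀ : Subgroup X} [A₀.Normal] (h : Cfsg.IsChiefFactor A A₀)
    (hA : IsPGroup p A) :
    IsMulCommutative (A.map (QuotientGroup.mk' A₀)) ∧
      ∀ x ∈ A.map (QuotientGroup.mk' A₀), x ^ p = 1 := by
  have hmin := isMinNormal_image h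
  have hN : IsPGroup p (A.map (QuotientGroup.mk' A₀)) := hA.map _
  have := hN.isNilpotent
  have hcomm := hmin.isMulCommutative
  obtain ⟨q, hq, hqe⟩ := hmin.exists_prime_pow_eq_one
  obtain ⟨x, hx, hx1⟩ := (A.map (QuotientGroup.mk' A₀)).bot_or_exists_ne_one.resolve_left hmin.ne_bot
  have hox : orderOf x = q := by
    rcases (Nat.dvd_prime hq).mp (orderOf_dvd_of_pow_eq_one (hqe x hx)) with h' | h'
    · exact absurd (orderOf_eq_one_iff.mp h') hx1
    · exact h'
  obtain ⟨k, hk⟩ := hN ⟨x, hx⟩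
  have hd : q ∣ p ^ k := hox ▸ orderOf_dvd_of_pow_eq_one (congrArg Subtype.val hk)
  exact ⟨hcomm, ((Nat.prime_dvd_prime_iff_eq hq hp.out).mp (hq.dvd_of_dvd_pow hd)) ▸ hqe⟩

open scoped IsMulCommutative in
theorem prod_conj_eq_one_aux {Y : Type*} [Group Y] (N : Subgroup Y) [N.Normal] [IsMulCommutative N]
    (hexp : ∀ x ∈ N, x ^ p = 1) (y : Y)
    (hit : Cfsg.iterCommutator N (zpowers y) (p - 1) = ⊥) (u : N) :
    ∏ i ∈ Finset.range p, MulAut.conjNormal (H := N) (y ^ i) u = 1 := by
  set σ : N →* N := (MulAut.conjNormal (H := N) y).toMonoidHom with hσ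
  have hmem : ∀ k : ℕ, (((fun a : N => σ a * a⁻¹)^[k] u : N) : Y) ∈
      Cfsg.iterCommutator N (zpowers y) k := by
    intro k
    induction k with
    | zero => exact u.2
    | succ k ih =>
      rw [Function.iterate_succ_apply']
      set a := (fun a : N => σ a * a⁻¹)^[k] u
      have he : ((σ a * a⁻¹ : N) : Y) = ⁅y, (a : Y)⁆ := by
        rw [commutatorElement_def, hσ]
        simp [MulAut.conjNormal_apply]
      rw [he]
      change _ ∈ ⁅Cfsg.iterCommutator N (zpowers y) k, zpowers y⁆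
      rw [Subgroup.commutator_comm]
      exact commutator_mem_commutator (mem_zpowers _) ih
  have hk := hmem (p - 1)
  rw [hit, mem_bot] at hk
  have h0 := prod_iterate_eq_one (A := N) (fun a => Subtype.ext (by simpa using hexp a a.2)) σ
    (Subtype.ext hk)
  have hiter : ∀ (i : ℕ) (a : N), σ^[i] a = MulAut.conjNormal (H := N) (y ^ i) a := by
    intro i
    induction i with
    | zero => intro a; simp
    | succ i ih =>
      intro a
      rw [Function.iterate_succ_apply', ih, pow_succ', map_mul]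
      rfl
  simpa only [hiter] using h0

open scoped IsMulCommutative in
theorem prod_conj_eq_one {A A₀ : Subgroup X} [A₀.Normal]
    [(A.map (QuotientGroup.mk' A₀)).Normal] [IsMulCommutative (A.map (QuotientGroup.mk' A₀))]
    (hexp : ∀ x ∈ A.map (QuotientGroup.mk' A₀), x ^ p = 1) (h : Cfsg.IsChiefFactor A A₀)
    {g : X} (hg : GoodOn p A g) (u : A.map (QuotientGroup.mk' A₀)) :
    ∏ i ∈ Finset.range p, MulAut.conjNormal (H := A.map (QuotientGroup.mk' A₀))
      (QuotientGroup.mk' A₀ g ^ i) u = 1 := by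
  refine prod_conj_eq_one_aux _ hexp _ ?_ u
  rw [← MonoidHom.map_zpowers, ← map_iterCommutator, Subgroup.map_eq_bot_iff,
    QuotientGroup.ker_mk']
  exact hg A A₀ h le_rfl

/-! ### fixed points -/

open scoped IsMulCommutative in
theorem mem_center_of_good (S : Sylow p X) {M : Subgroup X}
    (hM : UniqueMaxOver (S : Subgroup X) M) {g : X} (hgS : g ∈ (S : Subgroup X))
    (hgQ : g ∉ Cfsg.pCore p X) {A : Subgroup X} (hAn : A.Normal) (hA : A ≤ Cfsg.pCore p X)
    (hcomm : IsMulCommutative A) (hg : GoodOn p A g) {x : X} (hx : x ∈ A)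
    (hfix : ∀ m ∈ M, m * x = x * m) : x ∈ center X := by
  classical
  induction hn : Nat.card A using Nat.strong_induction_on generalizing A x with
  | _ n IH =>
  subst hn
  by_cases hA0 : A = ⊥
  · rw [hA0, mem_bot] at hx
    rw [hx]
    exact one_mem _
  obtain ⟨A₀, hA₀n, hlt, hch⟩ := exists_chief_below hA0
  set f := QuotientGroup.mk' A₀ with hf
  have hAp : IsPGroup p A := Core.pCore_isPGroup.to_le hA
  obtain ⟨hcommN, hexp⟩ := image_facts hch hAp
  have hNn : (A.map f).Normal := hAn.map f (QuotientGroup.mk'_surjective A₀)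
  let : Fintype (X ⧸ M) := Fintype.ofFinite _
  let xb : A.map f := ⟨f x, x, hx, rfl⟩
  let ψ : X → A.map f := fun a => MulAut.conjNormal (H := A.map f) (f a) xb
  have hψ : ∀ a m : X, m ∈ M → ψ (a * m) = ψ a := by
    intro a m hm
    have he : MulAut.conjNormal (H := A.map f) (f m) xb = xb := by
      apply Subtype.ext
      rw [MulAut.conjNormal_apply]
      change f m * f x * (f m)⁻¹ = f x
      rw [← map_mul, hfix m hm, map_mul, mul_inv_cancel_right]
    change MulAut.conjNormal (H := A.map f) (f (a * m)) xb = _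
    rw [map_mul, map_mul, MulAut.mul_apply, he]
  let φ : X ⧸ M → A.map f := fun r => Quotient.liftOn' r ψ fun a b hab => by
    have hm : a⁻¹ * b ∈ M := QuotientGroup.leftRel_apply.mp hab
    rw [← hψ a _ hm, mul_inv_cancel_left]
  have hsmul : ∀ (h : X) (r : X ⧸ M), φ (h • r) = MulAut.conjNormal (H := A.map f) (f h) (φ r) := by
    intro h r
    obtain ⟨a, rfl⟩ := QuotientGroup.mk_surjective r
    change MulAut.conjNormal (H := A.map f) (f (h * a)) xb = _
    rw [map_mul, map_mul, MulAut.mul_apply]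
    rfl
  have hprod : ∀ s ∈ goodSet p (S : Subgroup X) A, ∀ r,
      ∏ i ∈ Finset.range p, φ (s ^ i • r) = 1 := by
    intro s hs r
    simp only [hsmul, map_pow]
    simpa only [map_pow] using prod_conj_eq_one hexp hch hs.2 (φ r)
  have htot : ∏ r, φ r = xb := by
    rw [prod_eq_base S hM hgS hgQ hg φ hprod]
    change MulAut.conjNormal (H := A.map f) (f 1) xb = xb
    rw [map_one, map_one, MulAut.one_apply]
  have hfixed : ∀ h : X, h * x * h⁻¹ * x⁻¹ ∈ A₀ := by
    intro h
    have h1 : MulAut.conjNormal (H := A.map f) (f h) xb = xb := by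
      rw [← htot, map_prod]
      simp only [← hsmul]
      exact Equiv.prod_comp (MulAction.toPerm h) φ
    have h2 : f h * f x * (f h)⁻¹ = f x := by
      have := congrArg Subtype.val h1
      rwa [MulAut.conjNormal_apply] at this
    have h3 : f (h * x * h⁻¹ * x⁻¹) = 1 := by simp [map_mul, h2]
    exact (QuotientGroup.eq_one_iff _).mp h3
  have hAn' : A.Normal := hAn
  let xa : A := ⟨x, hx⟩
  let ψ' : X → A := fun a => MulAut.conjNormal (H := A) a xa
  let φ' : X ⧸ M → A := fun r => Quotient.liftOn' r ψ' fun a b hab => by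
    have hm : a⁻¹ * b ∈ M := QuotientGroup.leftRel_apply.mp hab
    have he : MulAut.conjNormal (H := A) (a⁻¹ * b) xa = xa := by
      apply Subtype.ext
      rw [MulAut.conjNormal_apply]
      change (a⁻¹ * b) * x * (a⁻¹ * b)⁻¹ = x
      rw [hfix _ hm, mul_inv_cancel_right]
    change MulAut.conjNormal (H := A) a xa = MulAut.conjNormal (H := A) b xa
    conv_rhs => rw [← mul_inv_cancel_left a b, map_mul, MulAut.mul_apply, he]
  have hsmul' : ∀ (h : X) (r : X ⧸ M), φ' (h • r) = MulAut.conjNormal (H := A) h (φ' r) := by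
    intro h r
    obtain ⟨a, rfl⟩ := QuotientGroup.mk_surjective r
    change MulAut.conjNormal (H := A) (h * a) xa = _
    rw [map_mul, MulAut.mul_apply]
    rfl
  set z : A := ∏ r, φ' r with hz
  have hzc : (z : X) ∈ center X := by
    refine mem_center_iff.mpr fun h => ?_
    have h1 : MulAut.conjNormal (H := A) h z = z := by
      rw [hz, map_prod]
      simp only [← hsmul']
      exact Equiv.prod_comp (MulAction.toPerm h) φ'
    have h2 := congrArg Subtype.val h1
    rw [MulAut.conjNormal_apply] at h2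
    exact mul_inv_eq_iff_eq_mul.mp h2
  set w : A := z * (xa⁻¹) ^ Fintype.card (X ⧸ M) with hw
  have hwA₀ : (w : X) ∈ A₀ := by
    have hw' : w = ∏ r, φ' r * xa⁻¹ := by
      rw [Finset.prod_mul_distrib, Finset.prod_const, Finset.card_univ]
    have hmem : w ∈ A₀.subgroupOf A := by
      rw [hw']
      refine prod_mem fun r _ => ?_
      obtain ⟨a, rfl⟩ := QuotientGroup.mk_surjective r
      change ((MulAut.conjNormal (H := A) a xa * xa⁻¹ : A) : X) ∈ A₀
      simpa [MulAut.conjNormal_apply, xa] using hfixed a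
    exact hmem
  have hcommA₀ : IsMulCommutative A₀ := ⟨⟨fun a b => by
    have h := congrArg (fun z : A => (z : X)) (mul_comm (⟨a, hlt.le a.2⟩ : A) ⟨b, hlt.le b.2⟩)
    exact Subtype.ext (by simpa using h)⟩⟩
  have hfixw : ∀ m ∈ M, m * (w : X) = (w : X) * m := by
    intro m hm
    have h1 := mem_center_iff.mp hzc m
    have h2 : Commute m (x⁻¹ ^ Fintype.card (X ⧸ M)) :=
      ((show Commute m x from hfix m hm).inv_right).pow_right _
    have hwv : (w : X) = (z : X) * x⁻¹ ^ Fintype.card (X ⧸ M) := by simp [hw, xa]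
    rw [hwv]
    exact ((show Commute m (z : X) from h1).mul_right h2)
  have hwc := IH (Nat.card A₀) (Core.card_lt_of_lt hlt) hA₀n (hlt.le.trans hA) hcommA₀
    (hg.mono hlt.le) hwA₀ hfixw rfl
  have hpow : x ^ Fintype.card (X ⧸ M) ∈ center X := by
    have hwv : (w : X) = (z : X) * x⁻¹ ^ Fintype.card (X ⧸ M) := by simp [hw, xa]
    have := mul_mem (inv_mem hwc) hzc
    rw [hwv, inv_pow, mul_inv_rev, inv_inv, mul_assoc, inv_mul_cancel, mul_one] at this
    exact this
  have hcop : (orderOf x).Coprime (Fintype.card (X ⧸ M)) := by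
    obtain ⟨k, hk⟩ := hAp xa
    refine Nat.Coprime.coprime_dvd_left
      (orderOf_dvd_of_pow_eq_one (congrArg Subtype.val hk : x ^ p ^ k = 1)) ?_
    refine Nat.Coprime.pow_left k (hp.out.coprime_iff_not_dvd.mpr fun hd => S.not_dvd_index ?_)
    rw [Fintype.card_eq_nat_card, ← index_eq_card] at hd
    exact hd.trans (index_dvd_of_le hM.le)
  obtain ⟨m, hm⟩ := exists_pow_eq_self_of_coprime hcop.symm
  rw [← hm]
  exact pow_mem hpow m

/-! ### homomorphisms of `M` into abelian groups -/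

theorem transfer_eq_on_normal {M A : Subgroup X} [A.Normal] (hAM : A ≤ M) [Fintype (X ⧸ M)]
    {C : Type*} [CommGroup C] (ψ : M →* C) (a : A) :
    MonoidHom.transfer ψ (a : X) = ∏ r : X ⧸ M, ψ ⟨r.out⁻¹ * a * r.out, hAM (by
      have := (‹A.Normal›).conj_mem a a.2 r.out⁻¹
      simpa using this)⟩ := by
  classical
  have : M.FiniteIndex := inferInstance
  let : Fintype (Quotient (MulAction.orbitRel (zpowers (a : X)) (X ⧸ M))) := Fintype.ofFinite _
  have hfix : ∀ (z : X), z ∈ A → ∀ r : X ⧸ M, z • r = r := by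
    intro z hz r
    obtain ⟨b, rfl⟩ := QuotientGroup.mk_surjective r
    rw [MulAction.Quotient.smul_coe, smul_eq_mul, QuotientGroup.eq]
    refine hAM ?_
    have := (‹A.Normal›).conj_mem z⁻¹ (inv_mem hz) b⁻¹
    simpa [mul_assoc] using this
  rw [MonoidHom.transfer_eq_prod_quotient_orbitRel_zpowers_quot]
  refine Fintype.prod_bijective (fun q => q.out) ⟨?_, ?_⟩ _ _ fun q => ?_
  · intro q q' hqq
    rw [← Quotient.out_eq q, ← Quotient.out_eq q']
    exact congrArg _ hqq
  · intro r
    refine ⟨Quotient.mk'' r, ?_⟩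
    obtain ⟨⟨z, hz⟩, hzr⟩ : (Quotient.mk'' r : Quotient (MulAction.orbitRel (zpowers (a : X))
        (X ⧸ M))).out ∈ MulAction.orbit (zpowers (a : X)) r :=
      Quotient.mk_out (s := MulAction.orbitRel (zpowers (a : X)) (X ⧸ M)) r
    dsimp only
    rw [← hzr]
    exact hfix z (zpowers_le.mpr a.2 hz) r
  · congr 1
    apply Subtype.ext
    have h1 : Function.minimalPeriod ((a : X) • ·) q.out = 1 :=
      Function.minimalPeriod_eq_one_iff_isFixedPt.mpr (hfix a a.2 q.out)
    simp [h1]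

open scoped IsMulCommutative in
theorem map_eq_one_of_good (S : Sylow p X) {M : Subgroup X}
    (hM : UniqueMaxOver (S : Subgroup X) M) {g : X} (hgS : g ∈ (S : Subgroup X))
    (hgQ : g ∉ Cfsg.pCore p X) {C : Type*} [CommGroup C] (ψ : M →* C) {A : Subgroup X}
    (hAn : A.Normal) (hA : A ≤ Cfsg.pCore p X) (hA' : A ≤ commutator X) (hg : GoodOn p A g)
    (a : X) (ha : a ∈ A) (haM : a ∈ M) : ψ ⟨a, haM⟩ = 1 := by
  classical
  induction hn : Nat.card A using Nat.strong_induction_on generalizing A a with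
  | _ n IH =>
  subst hn
  by_cases hA0 : A = ⊥
  · rw [hA0, mem_bot] at ha
    subst ha
    exact map_one ψ
  have hAM : A ≤ M := (hA.trans (Core.pCore_le_sylow S)).trans hM.le
  obtain ⟨A₀, hA₀n, hlt, hch⟩ := exists_chief_below hA0
  have h0 : ∀ b (hb : b ∈ A₀), ψ ⟨b, hAM (hlt.le hb)⟩ = 1 := fun b hb =>
    IH (Nat.card A₀) (Core.card_lt_of_lt hlt) hA₀n (hlt.le.trans hA) (hlt.le.trans hA')
      (hg.mono hlt.le) b hb _ rfl
  set f := QuotientGroup.mk' A₀ with hf
  obtain ⟨hcommN, hexp⟩ := image_facts hch (Core.pCore_isPGroup.to_le hA)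
  have hNn : (A.map f).Normal := hAn.map f (QuotientGroup.mk'_surjective A₀)
  let π : A →* A.map f := f.subgroupMap A
  have hπ : Function.Surjective π := f.subgroupMap_surjective A
  have hconj : ∀ (t : X) (b : A), t⁻¹ * b * t ∈ M := fun t b => hAM (by
    simpa using hAn.conj_mem b b.2 t⁻¹)
  let χ : X → (A →* C) := fun t =>
    { toFun := fun b => ψ ⟨t⁻¹ * b * t, hconj t b⟩
      map_one' := by simp; exact map_one ψ
      map_mul' := fun b c => by
        rw [← map_mul]; congr 1; apply Subtype.ext; simp [mul_assoc] }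
  have hker : ∀ t, π.ker ≤ (χ t).ker := by
    intro t b hb
    have hb0 : (b : X) ∈ A₀ := (QuotientGroup.eq_one_iff _).mp (congrArg Subtype.val hb)
    have := h0 (t⁻¹ * b * t) (by simpa using hA₀n.conj_mem b hb0 t⁻¹)
    exact this
  have hχM : ∀ t m : X, m ∈ M → ∀ b : A, χ (t * m) b = χ t b := by
    intro t m hm b
    change ψ ⟨(t * m)⁻¹ * b * (t * m), _⟩ = ψ ⟨t⁻¹ * b * t, _⟩
    rw [show (⟨(t * m)⁻¹ * b * (t * m), hconj (t * m) b⟩ : M) =
      (⟨m, hm⟩ : M)⁻¹ * ⟨t⁻¹ * b * t, hconj t b⟩ * ⟨m, hm⟩ from Subtype.ext (by simp [mul_assoc])]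
    rw [map_mul, map_mul, map_inv, mul_right_comm, inv_mul_cancel, one_mul]
  let φ : X ⧸ M → (A → C) := fun r => Quotient.liftOn' r (fun t b => χ t b) fun t t' htt => by
    have hm : t⁻¹ * t' ∈ M := QuotientGroup.leftRel_apply.mp htt
    funext b
    rw [← hχM t _ hm b, mul_inv_cancel_left]
  let : Fintype (X ⧸ M) := Fintype.ofFinite _
  have hprod : ∀ s ∈ goodSet p (S : Subgroup X) A, ∀ r,
      ∏ i ∈ Finset.range p, φ (s ^ i • r) = 1 := by
    intro s hs r
    obtain ⟨t, rfl⟩ := QuotientGroup.mk_surjective r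
    funext b
    rw [Finset.prod_apply]
    have hstep : ∀ i : ℕ, φ (s ^ i • ((t : X) : X ⧸ M)) b =
        π.liftOfSurjective hπ ⟨χ t, hker t⟩
          (MulAut.conjNormal (H := A.map f) (f s⁻¹ ^ i) (π b)) := by
      intro i
      have he : MulAut.conjNormal (H := A.map f) (f s⁻¹ ^ i) (π b) =
          π ⟨(s ^ i)⁻¹ * b * s ^ i, by simpa using hAn.conj_mem b b.2 (s ^ i)⁻¹⟩ := by
        apply Subtype.ext
        rw [MulAut.conjNormal_apply]
        change f s⁻¹ ^ i * f (b : X) * (f s⁻¹ ^ i)⁻¹ = f ((s ^ i)⁻¹ * b * s ^ i)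
        simp only [map_mul, map_inv, map_pow, inv_pow, inv_inv]
      rw [he, MonoidHom.liftOfRightInverse_comp_apply]
      change ψ ⟨(s ^ i * t)⁻¹ * b * (s ^ i * t), _⟩ = ψ _
      congr 1
      apply Subtype.ext
      simp [mul_assoc]
    simp only [hstep]
    rw [← map_prod, prod_conj_eq_one hexp hch hs.2.inv (π b), map_one]
    rfl
  have htot := prod_eq_base S hM hgS hgQ hg φ hprod
  have h1 := congrFun htot ⟨a, ha⟩
  rw [Finset.prod_apply] at h1
  have h2 : ∏ r : X ⧸ M, φ r ⟨a, ha⟩ = MonoidHom.transfer ψ a := by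
    rw [transfer_eq_on_normal hAM ψ ⟨a, ha⟩]
    refine Finset.prod_congr rfl fun r _ => ?_
    conv_lhs => rw [← QuotientGroup.out_eq' r]
    rfl
  have h3 : MonoidHom.transfer ψ a = 1 :=
    Abelianization.commutator_subset_ker (MonoidHom.transfer ψ) (hA' ha)
  rw [h2, h3] at h1
  have h4 : φ ((1 : X) : X ⧸ M) ⟨a, ha⟩ = ψ ⟨a, haM⟩ := by
    change ψ ⟨1⁻¹ * a * 1, _⟩ = ψ ⟨a, haM⟩
    congr 1
    apply Subtype.ext
    simp
  rw [← h4]
  exact h1.symm

end Cfsg.Agent.Control
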