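import Cfsg.Agent.Control.Sections
import Cfsg.Agent.Control.Chief

/-!
# Control of transfer in a group with self-centralising `O_p`

If the proper subgroups over `S` and the quotient by `O_p` are controlled, then either transfer is
controlled, or `N(T ⊓ O_p)`, `T` the subgroup generated by the known parts of `S ⊓ X'`, is the unique
maximal subgroup over `S` and every element of `S \ O_p` fails to kill some chief factor in `O_p`.
-/

namespace Cfsg.Agent.Control

open Subgroup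
open scoped commutatorElement

set_option linter.unusedSectionVars false

universe u

variable {p : ℕ} [hp : Fact p.Prime] {X : Type u} [Group X] [Finite X]

variable {S : Sylow p X} {D : Subgroup X}

theorem commutator_pCore_le
    (hsub : ∀ H : Subgroup X, H ≠ ⊤ → (S : Subgroup X) ≤ H → (S : Subgroup X) ⊓ ⁅H, H⁆ ≤ D)
    {H : Subgroup X} (hH : H ≠ ⊤) (hSH : (S : Subgroup X) ≤ H) :
    ⁅Cfsg.pCore p X, H⁆ ≤ Cfsg.pCore p X ⊓ D := by
  refine Subgroup.commutator_le.mpr fun q hq h hh => ?_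
  have hn : (Cfsg.pCore p X).Normal := inferInstance
  have h1 : ⁅q, h⁆ ∈ Cfsg.pCore p X := by
    rw [show ⁅q, h⁆ = q * (h * q⁻¹ * h⁻¹) by rw [commutatorElement_def]; group]
    exact mul_mem hq (hn.conj_mem _ (inv_mem hq) h)
  exact mem_inf.mpr ⟨h1, hsub H hH hSH (mem_inf.mpr ⟨Core.pCore_le_sylow S h1,
    commutator_mem_commutator (hSH (Core.pCore_le_sylow S hq)) hh⟩)⟩

theorem le_normalizer_inf_pCore
    (hsub : ∀ H : Subgroup X, H ≠ ⊤ → (S : Subgroup X) ≤ H → (S : Subgroup X) ⊓ ⁅H, H⁆ ≤ D)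
    {H : Subgroup X} (hH : H ≠ ⊤) (hSH : (S : Subgroup X) ≤ H) :
    H ≤ normalizer ((Cfsg.pCore p X ⊓ D : Subgroup X) : Set X) := by
  intro h hh
  refine mem_normalizer_of_cjSub_eq (eq_of_le_of_card_ge ?_ (card_cjSub h _).ge)
  rintro _ ⟨r, hr, rfl⟩
  have h1 := commutator_pCore_le hsub hH hSH (commutator_mem_commutator (inv_mem hr.1) hh)
  change h * r * h⁻¹ ∈ Cfsg.pCore p X ⊓ D
  have h3 := mul_mem hr h1
  rw [commutatorElement_def] at h3
  convert h3 using 1
  group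

/-- When `pCore ⊓ D` is normal, it contains `pCore ⊓ X'`. -/
theorem inf_commutator_le_of_normal (hlt : Cfsg.pCore p X < (S : Subgroup X))
    (hsub : ∀ H : Subgroup X, H ≠ ⊤ → (S : Subgroup X) ≤ H → (S : Subgroup X) ⊓ ⁅H, H⁆ ≤ D)
    (hproper : ∃ H : Subgroup X, H ≠ ⊤ ∧ (S : Subgroup X) ≤ H)
    (hR : normalizer ((Cfsg.pCore p X ⊓ D : Subgroup X) : Set X) = ⊤) :
    Cfsg.pCore p X ⊓ commutator X ≤ D := by
  set Q := Cfsg.pCore p X with hQ
  set R := Q ⊓ D with hRdef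
  have hRn : R.Normal := normalizer_eq_top_iff.mp hR
  set f := QuotientGroup.mk' R with hf
  have hsurj : Function.Surjective f := QuotientGroup.mk'_surjective R
  have hQf : (Q.map f).Normal := (inferInstance : Q.Normal).map f hsurj
  set K := (centralizer (Q.map f : Set (X ⧸ R))).comap f with hK
  have hKn : K.Normal := Normal.comap inferInstance f
  have hprop : ∀ H : Subgroup X, H ≠ ⊤ → (S : Subgroup X) ≤ H → H ≤ K := by
    intro H hH hSH h hh
    refine mem_centralizer_iff.mpr ?_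
    rintro _ ⟨q, hq, rfl⟩
    have h1 : f ⁅q, h⁆ = 1 := (QuotientGroup.eq_one_iff _).mpr
      (commutator_pCore_le hsub hH hSH (commutator_mem_commutator hq hh))
    rw [map_commutatorElement] at h1
    exact commutatorElement_eq_one_iff_mul_comm.mp h1
  obtain ⟨H₀, hH₀, hSH₀⟩ := hproper
  have hKtop : K = ⊤ := by
    by_contra hne
    have hSK : (S : Subgroup X) ≤ K := hSH₀.trans (hprop H₀ hH₀ hSH₀)
    have hNS : normalizer ((S : Subgroup X) : Set X) ≠ ⊤ := fun he => by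
      have := normalizer_eq_top_iff.mp he
      exact hlt.not_ge (Core.le_pCore S.2)
    refine hne (eq_top_iff.mpr fun g _ => ?_)
    obtain ⟨y, hy, c, hc, rfl⟩ := exists_eq_normalizer_mul ((sylIn_top S).mono hSK le_top) g
    exact mul_mem (hprop _ hNS le_normalizer hy) hc
  have hcent : ∀ x : X ⧸ R, x ∈ centralizer (Q.map f : Set (X ⧸ R)) := by
    intro x
    obtain ⟨g, rfl⟩ := hsurj x
    exact (hKtop ▸ mem_top g : g ∈ K)
  obtain ⟨S', hS'⟩ := (show SylIn p ((S : Subgroup X).map f) ⊤ by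
    have := (sylIn_top S).map f
    rwa [map_top_of_surjective f hsurj] at this).exists_sylow
  intro q hq
  have h1 : f q ∈ ⁅(S' : Subgroup (X ⧸ R)), (S' : Subgroup (X ⧸ R))⁆ := by
    refine mem_commutator_of_sup_eq_top S' (Q := Q.map f)
      (by rw [hS']; exact map_mono (Core.pCore_le_sylow S))
      (eq_top_iff.mpr fun x _ => mem_sup_right (hcent x)) ⟨q, hq.1, rfl⟩ ?_
    rw [_root_.commutator_def, ← map_top_of_surjective f hsurj, ← map_commutator]
    refine mem_map_of_mem f ?_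
    rw [← _root_.commutator_def]
    exact hq.2
  rw [hS', ← map_commutator] at h1
  obtain ⟨t, ht, hte⟩ := h1
  have htD : t ∈ D := hsub H₀ hH₀ hSH₀
    ⟨(S : Subgroup X).commutator_le_self ht, commutator_mono hSH₀ hSH₀ ht⟩
  have htR : t⁻¹ * q ∈ R :=
    (QuotientGroup.eq_one_iff _).mp (show f (t⁻¹ * q) = 1 by
      rw [map_mul, map_inv, hte, inv_mul_cancel])
  simpa using mul_mem htD htR.2

theorem uniqueMaxOver_normalizer
    (hsub : ∀ H : Subgroup X, H ≠ ⊤ → (S : Subgroup X) ≤ H → (S : Subgroup X) ⊓ ⁅H, H⁆ ≤ D)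
    (hproper : ∃ H : Subgroup X, H ≠ ⊤ ∧ (S : Subgroup X) ≤ H)
    (hR : normalizer ((Cfsg.pCore p X ⊓ D : Subgroup X) : Set X) ≠ ⊤) :
    UniqueMaxOver (S : Subgroup X) (normalizer ((Cfsg.pCore p X ⊓ D : Subgroup X) : Set X)) := by
  obtain ⟨H₀, hH₀, hSH₀⟩ := hproper
  exact ⟨hSH₀.trans (le_normalizer_inf_pCore hsub hH₀ hSH₀), hR,
    fun K hSK hK => le_normalizer_inf_pCore hsub hK hSK⟩

/-- A good element outside `O_p` forces `O_p ⊓ X'` into `D`. -/
theorem inf_commutator_le_of_good (hlt : Cfsg.pCore p X < (S : Subgroup X))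
    (hsub : ∀ H : Subgroup X, H ≠ ⊤ → (S : Subgroup X) ≤ H → (S : Subgroup X) ⊓ ⁅H, H⁆ ≤ D)
    (hproper : ∃ H : Subgroup X, H ≠ ⊤ ∧ (S : Subgroup X) ≤ H)
    {g : X} (hgS : g ∈ (S : Subgroup X)) (hgQ : g ∉ Cfsg.pCore p X)
    (hg : GoodOn p (Cfsg.pCore p X) g) : Cfsg.pCore p X ⊓ commutator X ≤ D := by
  by_cases hR : normalizer ((Cfsg.pCore p X ⊓ D : Subgroup X) : Set X) = ⊤
  · exact inf_commutator_le_of_normal hlt hsub hproper hR
  have hM := uniqueMaxOver_normalizer hsub hproper hR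
  set M := normalizer ((Cfsg.pCore p X ⊓ D : Subgroup X) : Set X)
  intro q hq
  have hqS : q ∈ (S : Subgroup X) := Core.pCore_le_sylow S hq.1
  have h1 := map_eq_one_of_good S hM hgS hgQ (Abelianization.of (G := M))
    (A := Cfsg.pCore p X ⊓ commutator X) inferInstance inf_le_left inf_le_right
    (hg.mono inf_le_left) q hq (hM.le hqS)
  rw [← MonoidHom.mem_ker, Abelianization.ker_of] at h1
  refine hsub M hM.ne_top hM.le (mem_inf.mpr ⟨hqS, ?_⟩)
  rw [← map_subtype_commutator]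
  exact ⟨_, h1, rfl⟩

variable {F : Set (∀ (Q : Type u) [Group Q], Subgroup Q)}

/-- The constrained step. -/
theorem trCtrl_of_inf_commutator (hF : ∀ W ∈ F, Cfsg.IsCharPFunctor.{u} p W)
    (hlt : Cfsg.pCore p X < (S : Subgroup X))
    (hsub : ∀ H : Subgroup X, H ≠ ⊤ → (S : Subgroup X) ≤ H →
      (S : Subgroup X) ⊓ ⁅H, H⁆ ≤ tGen (normSet (iF F X) ⊤ (S : Subgroup X)) (S : Subgroup X))
    (IHq : GTr F p (X ⧸ Cfsg.pCore p X))
    (h : Cfsg.pCore p X ⊓ commutator X ≤ tGen (normSet (iF F X) ⊤ (S : Subgroup X)) (S : Subgroup X)) :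
    TrCtrl (normSet (iF F X) ⊤ (S : Subgroup X)) (S : Subgroup X) ⊤ := by
  intro s hs
  obtain ⟨t, ht, hqQ, hq'⟩ := exists_mul_pCore hF S hlt hsub IHq hs
  simpa using mul_mem ht (h ⟨hqQ, hq'⟩)

theorem proper_normalizer_of_not_normal (hF : ∀ W ∈ F, Cfsg.IsCharPFunctor.{u} p W)
    {W : ∀ (Q : Type u) [Group Q], Subgroup Q} (hW : W ∈ F) (S : Sylow p X)
    (hn : ¬ (Cfsg.inducedFunctor (G := X) W (S : Subgroup X)).Normal) :
    Cfsg.pCore p X < (S : Subgroup X) ∧
      ∃ H : Subgroup X, H ≠ ⊤ ∧ (S : Subgroup X) ≤ H := by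
  have hc := isConjugacyFunctor_induced (X := X) (hF W hW)
  refine ⟨?_, _, fun he => hn (normalizer_eq_top_iff.mp he), self_le_normalizer_functor hc S.2⟩
  by_contra hlt
  have hSn : (S : Subgroup X).Normal := by
    rw [eq_pCore_of_le_pCore S hlt]; infer_instance
  refine hn (normalizer_eq_top_iff.mp (top_le_iff.mp ?_))
  exact (normalizer_eq_top_iff.mpr hSn).ge.trans (le_normalizer_functor hc S.2)

theorem trCtrl_of_normal (_hF : ∀ W ∈ F, Cfsg.IsCharPFunctor.{u} p W)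
    {W : ∀ (Q : Type u) [Group Q], Subgroup Q} (hW : W ∈ F) (S : Sylow p X)
    (hn : (Cfsg.inducedFunctor (G := X) W (S : Subgroup X)).Normal) :
    TrCtrl (normSet (iF F X) ⊤ (S : Subgroup X)) (S : Subgroup X) ⊤ := by
  have hmem : ⊤ ⊓ normalizer ((Cfsg.inducedFunctor (G := X) W (S : Subgroup X) : Subgroup X) : Set X)
      ∈ normSet (iF F X) ⊤ (S : Subgroup X) := ⟨_, ⟨W, hW, rfl⟩, rfl⟩
  have h2 := inf_commutator_le_tGen hmem (S : Subgroup X)
  rwa [normalizer_eq_top_iff.mpr hn, top_inf_eq] at h2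

end Cfsg.Agent.Control
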