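import Cfsg.Agent.Control.Family

/-!
# A conjugacy functor together with a central functor

`skeleton`: downward induction over subgroups of a Sylow subgroup reducing control to fully
normalised subgroups containing their centralisers in it.
`transfer_of_local`, `fusion_of_local`: reduction to normalisers of subgroups above the centre.
-/

set_option autoImplicit false

namespace Cfsg.Agent.Control

open Subgroup
open scoped commutatorElement

variable {G : Type*} [Group G] [Finite G] {p : ℕ} [hp : Fact p.Prime] (P : Sylow p G)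

theorem cjSub_centralizer (g : G) (K : Subgroup G) :
    cjSub g (centralizer (K : Set G)) = centralizer (cjSub g K : Set G) := by
  ext x
  rw [mem_cjSub, mem_centralizer_iff, mem_centralizer_iff]
  constructor
  · rintro h _ ⟨k, hk, rfl⟩
    have h1 := h k hk
    show g * k * g⁻¹ * x = x * (g * k * g⁻¹)
    calc g * k * g⁻¹ * x = g * (k * (g⁻¹ * x * g)) * g⁻¹ := by group
      _ = g * (g⁻¹ * x * g * k) * g⁻¹ := by rw [h1]
      _ = _ := by group
  · intro h k hk
    have h1 : g * k * g⁻¹ * x = x * (g * k * g⁻¹) := h _ ⟨k, hk, rfl⟩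
    calc k * (g⁻¹ * x * g) = g⁻¹ * (g * k * g⁻¹ * x) * g := by group
      _ = g⁻¹ * (x * (g * k * g⁻¹)) * g := by rw [h1]
      _ = _ := by group

/-- Conjugates of subgroups between the centre and the Sylow subgroup. -/
def Adm (F : Subgroup G) : Prop :=
  ∃ (g : G) (H : Subgroup G), (P : Subgroup G) ⊓ centralizer ((P : Subgroup G) : Set G) ≤ H ∧
    H ≤ (P : Subgroup G) ∧ F = cjSub g H

/-- A notion of good conjugation, closed under the operations used in the induction. -/
structure GoodRel (Good : Set G → G → Prop) : Prop where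
  mono : ∀ {A B : Set G} {g : G}, Good A g → B ⊆ A → Good B g
  trans : ∀ {A : Set G} {g h : G}, Good A g → Good (cj g A) h → Good A (h * g)
  inv : ∀ {A : Set G} {g : G}, Good A g → A ⊆ ((P : Subgroup G) : Set G) → Good (cj g A) g⁻¹
  congr : ∀ {A : Set G} {g h : G}, Good A g → (∀ a ∈ A, g * a * g⁻¹ = h * a * h⁻¹) → Good A h

/-- All conjugations between subgroups of `P` of order more than `m` are good. -/
def GoodAbove (Good : Set G → G → Prop) (m : ℕ) : Prop :=
  ∀ U : Subgroup G, m < Nat.card U → U ≤ (P : Subgroup G) → ∀ g : G,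
    cjSub g U ≤ (P : Subgroup G) → Good (U : Set G) g

theorem skeleton {Good : Set G → G → Prop} (hG : GoodRel P Good)
    (hP : ∀ n ∈ normalizer ((P : Subgroup G) : Set G), Good ((P : Subgroup G) : Set G) n)
    (hcore : ∀ F : Subgroup G, F < (P : Subgroup G) →
      SylIn p ((P : Subgroup G) ⊓ normalizer (F : Set G)) (normalizer (F : Set G)) →
      Adm P F → GoodAbove P Good (Nat.card F) →
      ∀ n ∈ normalizer (F : Set G), Good (F : Set G) n) :
    ∀ (U : Subgroup G), U ≤ (P : Subgroup G) → ∀ g : G, cjSub g U ≤ (P : Subgroup G) →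
      Good (U : Set G) g := by
  intro U
  induction hn : Nat.card G - Nat.card U using Nat.strong_induction_on generalizing U with
  | _ n IH =>
  subst hn
  intro hU g hg
  have habove : ∀ U' : Subgroup G, Nat.card U < Nat.card U' → U' ≤ (P : Subgroup G) → ∀ g : G,
      cjSub g U' ≤ (P : Subgroup G) → Good (U' : Set G) g := fun U' h h1 g h2 => by
    refine IH _ ?_ U' rfl h1 g h2
    have := Nat.le_of_dvd Nat.card_pos (card_subgroup_dvd_card U')
    omega
  rcases hU.eq_or_lt with rfl | hlt
  · exact hP g (mem_normalizer_of_cjSub_eq (eq_of_le_of_card_ge hg (card_cjSub g _).ge))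
  obtain ⟨a, ha, haN⟩ := movers_fullSet P U hU
  obtain ⟨hFP, hFN⟩ := allFull_fullSet P _ ha
  set F := cjSub a U with hF
  have hgrow : ∀ E : Subgroup G, E ≤ (P : Subgroup G) → Nat.card E = Nat.card U →
      Nat.card U < Nat.card ((P : Subgroup G) ⊓ normalizer (E : Set G) : Subgroup G) ∧
      E ≤ (P : Subgroup G) ⊓ normalizer (E : Set G) := by
    intro E hE hEc
    refine ⟨?_, le_inf hE le_normalizer⟩
    rw [← hEc]
    refine Set.Finite.card_lt_card (Set.toFinite _) (SetLike.coe_ssubset_coe.mpr
      (Fusion.lt_inf_normalizer_of_isPGroup P.2 (lt_of_le_of_ne hE fun he => ?_)))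
    exact hlt.ne (eq_of_le_of_card_ge hU (by rw [← hEc, he]))
  have hFc : Nat.card F = Nat.card U := card_cjSub a U
  have hFlt : F < (P : Subgroup G) := lt_of_le_of_ne hFP fun he =>
    hlt.ne (eq_of_le_of_card_ge hU (by rw [← hFc, he]))
  have hcjF : cj a (U : Set G) = (F : Set G) := (coe_cjSub a U).symm
  have hgood_a : Good (U : Set G) a := hG.mono
    (habove _ (hgrow U hU rfl).1 inf_le_left a haN) (SetLike.coe_subset_coe.mpr (hgrow U hU rfl).2)
  set U₂ := cjSub g U with hU₂
  have hb : cjSub (a * g⁻¹) U₂ = F := by rw [hU₂, cjSub_cjSub, mul_assoc, inv_mul_cancel, mul_one]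
  obtain ⟨m, hm, hmR⟩ := hFN.exists_cjSub_le
    (isPGroup_cjSub (g := a * g⁻¹) (H := (P : Subgroup G) ⊓ normalizer (U₂ : Set G)) P.2.to_inf_left)
    (show cjSub (a * g⁻¹) ((P : Subgroup G) ⊓ normalizer (U₂ : Set G)) ≤ normalizer (F : Set G) by rw [← hb, ← cjSub_normalizer (a * g⁻¹) U₂]; exact map_mono inf_le_right)
  rw [cjSub_cjSub] at hmR
  set b := m * (a * g⁻¹) with hbdef
  have hbF : cjSub b U₂ = F := by rw [hbdef, ← cjSub_cjSub, hb, cjSub_eq_of_mem hm]
  have hgood_b : Good (U₂ : Set G) b := hG.mono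
    (habove _ (hgrow U₂ hg (card_cjSub g U)).1 inf_le_left b (hmR.trans inf_le_left))
    (SetLike.coe_subset_coe.mpr (hgrow U₂ hg (card_cjSub g U)).2)
  have hnN : m ∈ normalizer (F : Set G) := hm
  have hFgood : Good (F : Set G) m := by
    set U₀ := (P : Subgroup G) ⊓ centralizer (F : Set G) with hU₀
    by_cases hle : U₀ ≤ F
    · refine hcore F hFlt hFN ⟨1, F, le_trans (le_inf inf_le_left ?_) hle, hFP, (cjSub_one F).symm⟩
        (fun U' h => habove U' (hFc ▸ h)) m hm
      exact inf_le_right.trans (centralizer_le (SetLike.coe_subset_coe.mpr hFP))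
    set L := normalizer (F : Set G) with hL
    have hCL : centralizer (F : Set G) ≤ L := centralizer_le_normalizer _
    have hLC : L ≤ normalizer (centralizer (F : Set G) : Set G) := fun x hx =>
      mem_normalizer_of_cjSub_eq (by rw [cjSub_centralizer, cjSub_eq_of_mem hx])
    have hSyl : SylIn p U₀ (centralizer (F : Set G)) := by
      have := hFN.inf_normal hCL hLC
      rwa [inf_assoc, inf_eq_right.mpr hCL] at this
    obtain ⟨d, hd, hdU⟩ := hSyl.exists_cjSub_le
      (isPGroup_cjSub (g := m) hSyl.isPGroup)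
      ((map_mono inf_le_right).trans (cjSub_eq_of_mem (hLC hm)).le)
    rw [cjSub_cjSub] at hdU
    set F₁ := F ⊔ U₀ with hF₁
    have hF₁c : Nat.card U < Nat.card F₁ := by
      rw [← hFc]
      exact Set.Finite.card_lt_card (Set.toFinite _) (SetLike.coe_ssubset_coe.mpr
        (left_lt_sup.mpr hle))
    have hy : Good (F₁ : Set G) (d * m) := by
      refine habove F₁ hF₁c (sup_le hFP inf_le_left) _ ?_
      rw [hF₁, cjSub, Subgroup.map_sup]
      refine sup_le ?_ (hdU.trans inf_le_left)
      have : cjSub (d * m) F = F := cjSub_eq_of_mem (mul_mem (hCL hd) hm)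
      exact this.le.trans hFP
    refine hG.congr (hG.mono hy (SetLike.coe_subset_coe.mpr le_sup_left)) fun x hx => ?_
    have hmx : m * x * m⁻¹ ∈ F := (mem_normalizer_iff.mp hm x).mp hx
    calc d * m * x * (d * m)⁻¹ = d * (m * x * m⁻¹) * d⁻¹ := by group
      _ = m * x * m⁻¹ := by rw [← mem_centralizer_iff.mp hd _ hmx, mul_inv_cancel_right]
  have h1 : Good (U : Set G) (m * a) := hG.trans hgood_a (by rw [hcjF]; exact hFgood)
  have h2 := hG.inv hgood_b (SetLike.coe_subset_coe.mpr hg)
  have h3 : cj (m * a) (U : Set G) = cj b (U₂ : Set G) := by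
    rw [cj_mul, hcjF, ← coe_cjSub, ← coe_cjSub, hbF, cjSub_eq_of_mem hm]
  have h4 := hG.trans h1 (h := b⁻¹) (by rw [h3]; exact h2)
  rwa [hbdef, show (m * (a * g⁻¹))⁻¹ * (m * a) = g by group] at h4

/-! ### the two functors -/

variable {W V : Subgroup G → Subgroup G}

/-- The hypotheses on the pair of functors. -/
structure PairData (W V : Subgroup G → Subgroup G) : Prop where
  hW : Cfsg.IsConjugacyFunctor p W
  hV : Cfsg.IsConjugacyFunctor p V
  hWZ : ∀ H : Subgroup G, IsPGroup p H → H ⊓ centralizer (H : Set G) ≤ W H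
  hmono : ∀ H K : Subgroup G, IsPGroup p H → IsPGroup p K → H ≠ ⊥ → K ≠ ⊥ →
    H ⊓ centralizer (H : Set G) ≤ K ⊓ centralizer (K : Set G) → V H ≤ V K
  hP1 : (P : Subgroup G) ≠ ⊥

variable {P}

theorem center_le_center {R : Subgroup G} (hR : R ≤ (P : Subgroup G))
    (hZ : (P : Subgroup G) ⊓ centralizer ((P : Subgroup G) : Set G) ≤ R) :
    (P : Subgroup G) ⊓ centralizer ((P : Subgroup G) : Set G) ≤ R ⊓ centralizer (R : Set G) :=
  le_inf hZ (inf_le_right.trans (centralizer_le (SetLike.coe_subset_coe.mpr hR)))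

theorem center_le_norm {F : Subgroup G} (hF : F ≤ (P : Subgroup G)) :
    (P : Subgroup G) ⊓ centralizer ((P : Subgroup G) : Set G) ≤
      (P : Subgroup G) ⊓ normalizer (F : Set G) :=
  le_inf inf_le_left ((inf_le_right.trans (centralizer_le (SetLike.coe_subset_coe.mpr hF))).trans
    (centralizer_le_normalizer _))

theorem centralizer_V_le (hd : PairData P (p := p) W V) {R : Subgroup G}
    (hR : R ≤ (P : Subgroup G))
    (hZ : (P : Subgroup G) ⊓ centralizer ((P : Subgroup G) : Set G) ≤ R) :
    centralizer ((V R : Subgroup G) : Set G) ≤ centralizer ((V (P : Subgroup G) : Subgroup G) : Set G) := by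
  refine centralizer_le (SetLike.coe_subset_coe.mpr (hd.hmono _ _ P.2 (P.2.to_le hR) hd.hP1
    (fun h => ?_) (center_le_center hR hZ)))
  subst h
  have : Nontrivial (P : Subgroup G) := (nontrivial_iff_ne_bot _).mpr hd.hP1
  have := P.2.center_nontrivial
  obtain ⟨z, hz⟩ := exists_ne (1 : center (P : Subgroup G))
  refine hz (Subtype.ext (Subtype.ext (mem_bot.mp (hZ ⟨z.1.2, mem_centralizer_iff.mpr fun y hy => ?_⟩))))
  exact congrArg Subtype.val (mem_center_iff.mp z.2 ⟨y, hy⟩)

/-- The step from `R = N_P(F)` to the larger `N_P(W R)`. -/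
theorem step_up (hd : PairData P (p := p) W V) {F : Subgroup G}
    (hF : F ≤ (P : Subgroup G))
    (hR : (P : Subgroup G) ⊓ normalizer (F : Set G) < (P : Subgroup G)) :
    ∃ a : G, let R := (P : Subgroup G) ⊓ normalizer (F : Set G)
      R ≤ (P : Subgroup G) ⊓ normalizer ((W R : Subgroup G) : Set G) ∧
      Nat.card R < Nat.card ((P : Subgroup G) ⊓ normalizer ((W R : Subgroup G) : Set G) : Subgroup G) ∧
      cjSub a ((P : Subgroup G) ⊓ normalizer ((W R : Subgroup G) : Set G)) ≤
        (P : Subgroup G) ⊓ normalizer (cjSub a (W R) : Set G) ∧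
      cjSub a (W R) ≤ (P : Subgroup G) ∧ Adm P (cjSub a (W R)) ∧
      SylIn p ((P : Subgroup G) ⊓ normalizer (cjSub a (W R) : Set G))
        (normalizer (cjSub a (W R) : Set G)) := by
  set R := (P : Subgroup G) ⊓ normalizer (F : Set G) with hRdef
  have hWR : W R ≤ (P : Subgroup G) := (hd.hW R P.2.to_inf_left).1.trans inf_le_left
  obtain ⟨a, ha, haN⟩ := movers_fullSet P (W R) hWR
  obtain ⟨h1, h2⟩ := allFull_fullSet P _ ha
  have hlt := lt_norm_functor P (𝓕 := {W}) (fun Y hY => hY ▸ hd.hW) rfl hR
  refine ⟨a, hlt.le, Set.Finite.card_lt_card (Set.toFinite _) (SetLike.coe_ssubset_coe.mpr hlt),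
    le_inf haN (by rw [← cjSub_normalizer]; exact map_mono inf_le_right), h1,
    ⟨a, W R, (center_le_center inf_le_left (center_le_norm hF)).trans (hd.hWZ R P.2.to_inf_left),
      hWR, rfl⟩, h2⟩

/-- Transfer: the local hypothesis in the normalisers of all admissible subgroups gives it in `G`. -/
theorem transfer_of_local (hd : PairData P (p := p) W V)
    (hloc : ∀ F : Subgroup G, F ≤ (P : Subgroup G) → Adm P F →
      ∀ R : Subgroup G, SylIn p R (normalizer (F : Set G)) →
      R ⊓ ⁅normalizer (F : Set G), normalizer (F : Set G)⁆ ≤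
        (R ⊓ ⁅normalizer (F : Set G) ⊓ normalizer ((W R : Subgroup G) : Set G),
          normalizer (F : Set G) ⊓ normalizer ((W R : Subgroup G) : Set G)⁆) ⊔
        (R ⊓ ⁅normalizer (F : Set G) ⊓ centralizer ((V R : Subgroup G) : Set G),
          normalizer (F : Set G) ⊓ centralizer ((V R : Subgroup G) : Set G)⁆)) :
    (P : Subgroup G) ⊓ commutator G ≤
      ((P : Subgroup G) ⊓ ⁅normalizer ((W (P : Subgroup G) : Subgroup G) : Set G),
        normalizer ((W (P : Subgroup G) : Subgroup G) : Set G)⁆) ⊔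
      ((P : Subgroup G) ⊓ ⁅centralizer ((V (P : Subgroup G) : Subgroup G) : Set G),
        centralizer ((V (P : Subgroup G) : Subgroup G) : Set G)⁆) := by
  set D := ((P : Subgroup G) ⊓ ⁅normalizer ((W (P : Subgroup G) : Subgroup G) : Set G),
        normalizer ((W (P : Subgroup G) : Subgroup G) : Set G)⁆) ⊔
      ((P : Subgroup G) ⊓ ⁅centralizer ((V (P : Subgroup G) : Subgroup G) : Set G),
        centralizer ((V (P : Subgroup G) : Subgroup G) : Set G)⁆) with hD
  let Good : Set G → G → Prop := fun A g => ∀ u ∈ A, u⁻¹ * (g * u * g⁻¹) ∈ D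
  have hG : GoodRel P Good :=
    { mono := fun h hB u hu => h u (hB hu)
      trans := fun {A g h} h1 h2 u hu => by
        have := mul_mem (h1 u hu) (h2 _ ⟨u, hu, rfl⟩)
        rwa [show u⁻¹ * (g * u * g⁻¹) * ((g * u * g⁻¹)⁻¹ * (h * (g * u * g⁻¹) * h⁻¹)) =
          u⁻¹ * (h * g * u * (h * g)⁻¹) by group] at this
      inv := fun {A g} h _ => by
        rintro _ ⟨u, hu, rfl⟩
        have := inv_mem (h u hu)
        rwa [show (u⁻¹ * (g * u * g⁻¹))⁻¹ =
          (g * u * g⁻¹)⁻¹ * (g⁻¹ * (g * u * g⁻¹) * g⁻¹⁻¹) by group] at this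
      congr := fun {A g h} h1 heq u hu => heq u hu ▸ h1 u hu }
  have loc : ∀ (k m : ℕ) (F : Subgroup G), F ≤ (P : Subgroup G) →
      Nat.card G - Nat.card ((P : Subgroup G) ⊓ normalizer (F : Set G) : Subgroup G) = k →
      SylIn p ((P : Subgroup G) ⊓ normalizer (F : Set G)) (normalizer (F : Set G)) → Adm P F →
      GoodAbove P Good m → m < Nat.card ((P : Subgroup G) ⊓ normalizer (F : Set G) : Subgroup G) →
      ((P : Subgroup G) ⊓ normalizer (F : Set G)) ⊓
        ⁅normalizer (F : Set G), normalizer (F : Set G)⁆ ≤ D := by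
    intro k
    induction k using Nat.strong_induction_on with
    | _ k IH =>
    intro m F hF hk hsyl hadm habove hm
    set R := (P : Subgroup G) ⊓ normalizer (F : Set G) with hR
    refine (hloc F hF hadm R hsyl).trans (sup_le ?_ ?_)
    swap
    · exact (inf_le_inf (inf_le_left : R ≤ P) (commutator_mono
        (inf_le_right.trans (centralizer_V_le hd inf_le_left (center_le_norm hF)))
        (inf_le_right.trans (centralizer_V_le hd inf_le_left (center_le_norm hF))))).trans le_sup_right
    rcases (inf_le_left : R ≤ (P : Subgroup G)).eq_or_lt with hRP | hRP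
    · rw [show R = (P : Subgroup G) from hRP]
      exact (inf_le_inf_left _ (commutator_mono inf_le_right inf_le_right)).trans le_sup_left
    obtain ⟨a, hRR, hlt, ha, haP, haA, haS⟩ := step_up hd hF hRP
    intro r hr
    obtain ⟨hrR, hrC⟩ := mem_inf.mp hr
    have hra : a * r * a⁻¹ ∈ cjSub a ((P : Subgroup G) ⊓ normalizer ((W R : Subgroup G) : Set G)) :=
      ⟨r, hRR hrR, rfl⟩
    have h1 : a * r * a⁻¹ ∈ D := by
      have hcard : Nat.card R < Nat.card ((P : Subgroup G) ⊓ normalizer (cjSub a (W R) : Set G) : Subgroup G) :=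
        hlt.trans_le ((card_cjSub a _).ge.trans (card_le_of_le ha))
      refine IH _ ?_ m _ haP rfl haS haA habove (hm.trans hcard) ⟨ha hra, ?_⟩
      · have := Nat.le_of_dvd Nat.card_pos (card_subgroup_dvd_card
          ((P : Subgroup G) ⊓ normalizer (cjSub a (W R) : Set G) : Subgroup G))
        exact lt_of_lt_of_eq (Nat.sub_lt_sub_left (hcard.trans_le this) hcard) hk
      · rw [← cjSub_normalizer, cjSub, ← map_commutator]
        exact ⟨r, commutator_mono inf_le_right inf_le_right hrC, rfl⟩
    have h2 : r⁻¹ * (a * r * a⁻¹) ∈ D := habove _ (hm.trans hlt) inf_le_left a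
      (ha.trans inf_le_left) r (hRR hrR)
    have := mul_mem h1 (inv_mem h2)
    rwa [show a * r * a⁻¹ * (r⁻¹ * (a * r * a⁻¹))⁻¹ = r by group] at this
  have key := skeleton P hG (fun n hn u hu => ?_) (fun F hF hsyl hadm habove n hn u hu => ?_)
  · refine inf_commutator_le_of_focal P D fun u hu g hgu => ?_
    refine key (zpowers u) (zpowers_le.mpr hu) g ?_ u (mem_zpowers u)
    rw [cjSub, MonoidHom.map_zpowers, zpowers_le]
    exact hgu
  · exact (le_sup_left : _ ≤ D) (commutatorPart_mem hu
      (self_le_normalizer_functor hd.hW P.2 hu) (le_normalizer_functor hd.hW P.2 hn)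
      ((mem_normalizer_iff.mp hn u).mp hu))
  · refine loc _ (Nat.card F) F hF.le rfl hsyl hadm habove
      (Set.Finite.card_lt_card (Set.toFinite _) (SetLike.coe_ssubset_coe.mpr
        (Fusion.lt_inf_normalizer_of_isPGroup P.2 hF))) ?_
    exact commutatorPart_mem (le_inf hF.le le_normalizer hu) (le_normalizer hu) hn
      (le_inf hF.le le_normalizer ((mem_normalizer_iff.mp hn u).mp hu))

/-- Fusion: the local hypothesis in the normalisers of all admissible subgroups gives it in `G`. -/
theorem fusion_of_local (hd : PairData P (p := p) W V)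
    (hloc : ∀ F : Subgroup G, F ≤ (P : Subgroup G) → Adm P F →
      ∀ R : Subgroup G, SylIn p R (normalizer (F : Set G)) →
      FusCtrl {normalizer (F : Set G) ⊓ normalizer ((W R : Subgroup G) : Set G),
        normalizer (F : Set G) ⊓ centralizer ((V R : Subgroup G) : Set G)} R (normalizer (F : Set G))) :
    FusCtrl {normalizer ((W (P : Subgroup G) : Subgroup G) : Set G),
      centralizer ((V (P : Subgroup G) : Subgroup G) : Set G)} (P : Subgroup G) ⊤ := by
  set 𝒩 : Set (Subgroup G) := {normalizer ((W (P : Subgroup G) : Subgroup G) : Set G),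
      centralizer ((V (P : Subgroup G) : Subgroup G) : Set G)} with h𝒩
  let Good : Set G → G → Prop := fun A g => Ctrl 𝒩 (P : Subgroup G) A g
  have hG : GoodRel P Good :=
    { mono := fun h hB => h.mono hB
      trans := fun h1 h2 => h1.trans h2
      inv := fun h hA => h.inv hA
      congr := fun h1 heq => h1.of_eqOn heq }
  have loc : ∀ (k m : ℕ) (F : Subgroup G), F ≤ (P : Subgroup G) →
      Nat.card G - Nat.card ((P : Subgroup G) ⊓ normalizer (F : Set G) : Subgroup G) = k →
      SylIn p ((P : Subgroup G) ⊓ normalizer (F : Set G)) (normalizer (F : Set G)) → Adm P F →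
      GoodAbove P Good m → m < Nat.card ((P : Subgroup G) ⊓ normalizer (F : Set G) : Subgroup G) →
      ∀ (A : Set G) (x : G), x ∈ normalizer (F : Set G) →
        A ⊆ ((P : Subgroup G) ⊓ normalizer (F : Set G) : Subgroup G) →
        cj x A ⊆ ((P : Subgroup G) ⊓ normalizer (F : Set G) : Subgroup G) → Good A x := by
    intro k
    induction k using Nat.strong_induction_on with
    | _ k IH =>
    intro m F hF hk hsyl hadm habove hm A x hx hA hxA
    set R := (P : Subgroup G) ⊓ normalizer (F : Set G) with hR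
    refine (hloc F hF hadm R hsyl A x hx hA hxA).bind hA ?_
    rintro N (rfl | rfl) y hy B hB hyB
    swap
    · exact Ctrl.of_mem (Or.inr rfl) (centralizer_V_le hd inf_le_left (center_le_norm hF) hy.2)
        (hyB.trans (SetLike.coe_subset_coe.mpr inf_le_left))
    rcases (inf_le_left : R ≤ (P : Subgroup G)).eq_or_lt with hRP | hRP
    · exact Ctrl.of_mem (Or.inl rfl) (hRP ▸ hy.2)
        (hyB.trans (SetLike.coe_subset_coe.mpr inf_le_left))
    obtain ⟨a, hRR, hlt, ha, haP, haA, haS⟩ := step_up hd hF hRP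
    have hmove : ∀ C : Set G, C ⊆ R → Good C a := fun C hC => hG.mono
      (habove _ (hm.trans hlt) inf_le_left a (ha.trans inf_le_left))
      (hC.trans (SetLike.coe_subset_coe.mpr hRR))
    have himg : ∀ C : Set G, C ⊆ R →
        cj a C ⊆ ((P : Subgroup G) ⊓ normalizer (cjSub a (W R) : Set G) : Subgroup G) := fun C hC => by
      refine (cj_mono (hC.trans (SetLike.coe_subset_coe.mpr hRR))).trans ?_
      rw [← coe_cjSub]
      exact SetLike.coe_subset_coe.mpr ha
    have hcard : Nat.card R < Nat.card ((P : Subgroup G) ⊓ normalizer (cjSub a (W R) : Set G) : Subgroup G) :=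
      hlt.trans_le ((card_cjSub a _).ge.trans (card_le_of_le ha))
    have hmid : Good (cj a B) (a * y * a⁻¹) := by
      refine IH _ ?_ m _ haP rfl haS haA habove (hm.trans hcard) _ _ ?_ (himg B hB) ?_
      · have := Nat.le_of_dvd Nat.card_pos (card_subgroup_dvd_card
          ((P : Subgroup G) ⊓ normalizer (cjSub a (W R) : Set G) : Subgroup G))
        exact lt_of_lt_of_eq (Nat.sub_lt_sub_left (hcard.trans_le this) hcard) hk
      · rw [← cjSub_normalizer]; exact ⟨y, hy.2, rfl⟩
      · rw [← cj_mul, show a * y * a⁻¹ * a = a * y by group, cj_mul]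
        exact himg _ hyB
    have h1 := hG.trans (hmove B hB) hmid
    rw [show a * y * a⁻¹ * a = a * y by group] at h1
    have h2 := hG.inv (hmove _ hyB) (hyB.trans (SetLike.coe_subset_coe.mpr inf_le_left))
    have h3 := hG.trans h1 (h := a⁻¹) (by rw [cj_mul]; exact h2)
    rwa [show a⁻¹ * (a * y) = y by group] at h3
  intro A h _ hA hhA
  refine Ctrl.mono (skeleton P hG ?_ ?_ (closure A) ((closure_le _).mpr hA) h
    (closure_subset_of_cj hhA)) subset_closure
  · exact fun n hn => Ctrl.of_mem (Or.inl rfl) (le_normalizer_functor hd.hW P.2 hn)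
      (by rw [← coe_cjSub, cjSub_eq_of_mem hn])
  · intro F hF hsyl hadm habove n hn
    refine loc _ (Nat.card F) F hF.le rfl hsyl hadm habove
      (Set.Finite.card_lt_card (Set.toFinite _) (SetLike.coe_ssubset_coe.mpr
        (Fusion.lt_inf_normalizer_of_isPGroup P.2 hF))) _ n hn
      (SetLike.coe_subset_coe.mpr (le_inf hF.le le_normalizer)) ?_
    rw [← coe_cjSub, cjSub_eq_of_mem hn]
    exact SetLike.coe_subset_coe.mpr (le_inf hF.le le_normalizer)

end Cfsg.Agent.Control

namespace Cfsg.Agent.Control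

open Subgroup

variable {G : Type*} [Group G] [Finite G] {p : ℕ} [Fact p.Prime] {W V : Subgroup G → Subgroup G}

/-- A Sylow subgroup of a conjugate normaliser is a conjugate of any given one. -/
theorem exists_transport (hW : Cfsg.IsConjugacyFunctor p W) (hV : Cfsg.IsConjugacyFunctor p V)
    {g : G} {H Q R : Subgroup G} (hQ : SylIn p Q (normalizer (H : Set G)))
    (hR : SylIn p R (normalizer (cjSub g H : Set G))) :
    ∃ e : G, cjSub e (normalizer (H : Set G)) = normalizer (cjSub g H : Set G) ∧ cjSub e Q = R ∧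
      cjSub e (normalizer (H : Set G) ⊓ normalizer ((W Q : Subgroup G) : Set G)) =
        normalizer (cjSub g H : Set G) ⊓ normalizer ((W R : Subgroup G) : Set G) ∧
      cjSub e (normalizer (H : Set G) ⊓ centralizer ((V Q : Subgroup G) : Set G)) =
        normalizer (cjSub g H : Set G) ⊓ centralizer ((V R : Subgroup G) : Set G) := by
  have hQ' := hQ.cjSub g
  rw [cjSub_normalizer] at hQ'
  obtain ⟨d, hd, hdR⟩ := hR.exists_conj hQ'
  rw [cjSub_cjSub] at hdR
  have hN : cjSub (d * g) (normalizer (H : Set G)) = normalizer (cjSub g H : Set G) := by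
    rw [← cjSub_cjSub, cjSub_normalizer g H, cjSub_eq_of_mem (le_normalizer hd)]
  have hinj : Function.Injective (MulAut.conj (d * g)).toMonoidHom := (MulAut.conj (d * g)).injective
  refine ⟨d * g, hN, hdR, ?_, ?_⟩
  · rw [cjSub, map_inf _ _ _ hinj]
    change cjSub _ _ ⊓ cjSub _ _ = _
    rw [hN, cjSub_normalizer, ← functor_cjSub hW hQ.isPGroup, hdR]
  · rw [cjSub, map_inf _ _ _ hinj]
    change cjSub _ _ ⊓ cjSub _ _ = _
    rw [hN, cjSub_centralizer, ← functor_cjSub hV hQ.isPGroup, hdR]

end Cfsg.Agent.Control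

namespace Cfsg.Agent.Control

open Subgroup

variable {G : Type*} [Group G] {T : Subgroup G} {𝒩 : Set (Subgroup G)}

/-- A left chain gives a right list. -/
theorem list_of_reach {X : Set G} {r : G} (h : Reach 𝒩 T X r) (hX : X ⊆ T) :
    ∃ l : List G, (∀ b ∈ l, ∃ N ∈ 𝒩, b ∈ N) ∧ l.prod = r⁻¹ ∧
      ∀ k, cj ((l.take k).prod)⁻¹ X ⊆ T := by
  induction h with
  | one => exact ⟨[], by simp, by simp, fun k => by simpa [cj_one] using hX⟩
  | @step c x N hc hN hx hxA ih =>
    obtain ⟨l, hl, hlp, hlk⟩ := ih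
    refine ⟨l ++ [x⁻¹], fun b hb => ?_, by simp [hlp], fun k => ?_⟩
    · rcases List.mem_append.mp hb with hb | hb
      · exact hl b hb
      · exact ⟨N, hN, by rw [List.mem_singleton.mp hb]; exact inv_mem hx⟩
    · rcases le_or_gt k l.length with hk | hk
      · rw [List.take_append_of_le_length hk]; exact hlk k
      · rw [List.take_of_length_le (by simp; omega)]
        simpa [hlp] using hxA

/-- A right list gives a left chain. -/
theorem reach_of_list {X : Set G} (l : List G) (hl : ∀ b ∈ l, ∃ N ∈ 𝒩, b ∈ N)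
    (hk : ∀ k ≤ l.length, cj ((l.take k).prod)⁻¹ X ⊆ T) : Reach 𝒩 T X (l.prod)⁻¹ := by
  induction l using List.reverseRec with
  | nil => simpa using Reach.one
  | append_singleton l b ih =>
    obtain ⟨N, hN, hb⟩ := hl b (by simp)
    have h1 := ih (fun c hc => hl c (by simp [hc])) (fun k hk' => by
      have := hk k (by simp; omega)
      rwa [List.take_append_of_le_length hk'] at this)
    have h2 := hk (l ++ [b]).length le_rfl
    rw [List.take_length] at h2
    rw [List.prod_append, List.prod_singleton, mul_inv_rev] at h2 ⊢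
    exact Reach.step h1 hN (inv_mem hb) h2

theorem ctrl_map_aut [Finite G] {A : Set G} {x : G} (h : Ctrl 𝒩 T A x) (e : G) :
    Ctrl ((fun N : Subgroup G => cjSub e N) '' 𝒩) (cjSub e T) (cj e A) (e * x * e⁻¹) := by
  exact h.map (MulAut.conj e).toMonoidHom

end Cfsg.Agent.Control
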