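import Cfsg.Agent.Control.Basic

/-!
# Conjugation families, well-placed subgroups, local-to-global theorems
-/

namespace Cfsg.Agent.Control

open Subgroup
open scoped commutatorElement

set_option linter.unusedSectionVars false

variable {G : Type*} [Group G] {p : ℕ}

/-- Chains of conjugations on the right through normalizers of members of `𝒢`. -/
inductive FamChain (𝒢 : Set (Subgroup G)) : Set G → G → Prop
  | nil (A : Set G) : FamChain 𝒢 A 1
  | cons {A : Set G} {g : G} (x : G) (D : Subgroup G) (hD : D ∈ 𝒢) (hA : A ⊆ D)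
      (hx : x ∈ normalizer (D : Set G)) (h : FamChain 𝒢 (Fusion.conjSet x A) g) :
      FamChain 𝒢 A (x * g)

variable {𝒢 : Set (Subgroup G)}

theorem FamChain.mono {A B : Set G} {g : G} (h : FamChain 𝒢 A g) (hBA : B ⊆ A) :
    FamChain 𝒢 B g := by
  induction h generalizing B with
  | nil A => exact .nil B
  | cons x D hD hA hx _ ih =>
    exact .cons x D hD (hBA.trans hA) hx (ih (Fusion.conjSet_mono hBA))

theorem FamChain.trans {A : Set G} {g h : G} (h1 : FamChain 𝒢 A g)
    (h2 : FamChain 𝒢 (Fusion.conjSet g A) h) : FamChain 𝒢 A (g * h) := by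
  induction h1 with
  | nil A => simpa [Fusion.conjSet_one] using h2
  | cons x D hD hA hx _ ih =>
    rw [mul_assoc]
    exact .cons x D hD hA hx (ih (by rwa [← Fusion.conjSet_mul]))

theorem FamChain.inv {A : Set G} {g : G} (h : FamChain 𝒢 A g) :
    FamChain 𝒢 (Fusion.conjSet g A) g⁻¹ := by
  induction h with
  | nil A => simpa using FamChain.nil (𝒢 := 𝒢) _
  | @cons A g x D hD hA hx _ ih =>
    rw [mul_inv_rev]
    rw [← Fusion.conjSet_mul] at ih
    refine ih.trans ?_
    have e : Fusion.conjSet g⁻¹ (Fusion.conjSet (x * g) A) = Fusion.conjSet x A := by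
      rw [← Fusion.conjSet_mul]; simp
    rw [e, ← mul_one x⁻¹]
    refine .cons x⁻¹ D hD ?_ (inv_mem hx) (.nil _)
    rw [← Fusion.conjSet_eq_of_mem_normalizer hx]
    exact Fusion.conjSet_mono hA

theorem ncard_conjSet (x : G) (A : Set G) : (Fusion.conjSet x A).ncard = A.ncard :=
  Set.ncard_image_of_injective _ fun a b h => by simpa using h

/-- The members used by a chain have at least as many elements as the set moved. -/
theorem FamChain.big [Finite G] {A : Set G} {g : G} (h : FamChain 𝒢 A g) {k : ℕ}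
    (hk : k ≤ A.ncard) : FamChain {D ∈ 𝒢 | k ≤ Nat.card D} A g := by
  induction h with
  | nil A => exact .nil A
  | @cons A g x D hD hA hx _ ih =>
    refine .cons x D ⟨hD, ?_⟩ hA hx (ih (by rwa [ncard_conjSet]))
    rw [← SetLike.coe_sort_coe, Nat.card_coe_set_eq]
    exact hk.trans (Set.ncard_le_ncard hA (Set.toFinite _))

theorem ctrl_of_chain {𝒩 : Set (Subgroup G)} {T : Subgroup G} {A : Set G} {g : G}
    (h : FamChain 𝒢 A g)
    (hstep : ∀ D ∈ 𝒢, ∀ x ∈ normalizer (D : Set G), ∀ B : Set G, B ⊆ D → Ctrl 𝒩 T B x) :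
    Ctrl 𝒩 T A g⁻¹ := by
  induction h with
  | nil A => simpa using Ctrl.one
  | cons x D hD hA hx _ ih =>
    rw [mul_inv_rev]
    refine (hstep D hD x⁻¹ (inv_mem hx) _ hA).trans ?_
    rwa [← conjSet_eq_cj]

theorem mem_of_chain {A : Set G} {g : G} {M : Subgroup G} (h : FamChain 𝒢 A g)
    (hstep : ∀ D ∈ 𝒢, ∀ x ∈ normalizer (D : Set G), ∀ u ∈ D, u⁻¹ * (x * u * x⁻¹) ∈ M) :
    ∀ u ∈ A, u⁻¹ * (g⁻¹ * u * g) ∈ M := by
  induction h with
  | nil A => intro u _; simp
  | @cons A g x D hD hA hx _ ih =>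
    intro u hu
    have h1 := hstep D hD x⁻¹ (inv_mem hx) u (hA hu)
    have h2 := ih (x⁻¹ * u * x) ⟨u, hu, rfl⟩
    have := mul_mem h1 h2
    convert this using 1
    group

/-- `𝒢` contains a conjugate of each subgroup `V` of `S`, by an element moving `N_S(V)` into `S`. -/
def Movers (S : Subgroup G) (𝒢 : Set (Subgroup G)) : Prop :=
  ∀ V : Subgroup G, V ≤ S → ∃ a : G, cjSub a V ∈ 𝒢 ∧ cjSub a (S ⊓ normalizer (V : Set G)) ≤ S

/-- Members of `𝒢` lie in `S` and have there a Sylow subgroup of their normalizers. -/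
def AllFull (p : ℕ) (S : Subgroup G) (𝒢 : Set (Subgroup G)) : Prop :=
  ∀ D ∈ 𝒢, D ≤ S ∧ SylIn p (S ⊓ normalizer (D : Set G)) (normalizer (D : Set G))

variable [Finite G] [hp : Fact p.Prime] (S : Sylow p G)

theorem sylIn_full {D : Subgroup G}
    (h : ¬ p ∣ ((S : Subgroup G) ⊓ normalizer (D : Set G)).relIndex (normalizer (D : Set G))) :
    SylIn p ((S : Subgroup G) ⊓ normalizer (D : Set G)) (normalizer (D : Set G)) :=
  ⟨inf_le_right, S.2.to_inf_left, h⟩

theorem movers_of_forall {𝒢 : Set (Subgroup G)} (hfull : AllFull p (S : Subgroup G) 𝒢)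
    (h : ∀ V : Subgroup G, V ≤ (S : Subgroup G) → ∃ a : G, cjSub a V ∈ 𝒢) :
    Movers (S : Subgroup G) 𝒢 := by
  intro V hV
  obtain ⟨a, ha⟩ := h V hV
  obtain ⟨m, hm, hle⟩ := (hfull _ ha).2.exists_cjSub_le (isPGroup_cjSub S.2.to_inf_left)
    (show cjSub a ((S : Subgroup G) ⊓ normalizer (V : Set G)) ≤ normalizer (cjSub a V : Set G) by
      rw [← cjSub_normalizer]; exact map_mono inf_le_right)
  refine ⟨m * a, ?_, ?_⟩
  · rw [← cjSub_cjSub, cjSub_eq_of_mem hm]; exact ha
  · rw [← cjSub_cjSub]; exact hle.trans inf_le_left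

theorem famChain_of_conjSub_le {𝒢 : Set (Subgroup G)} (hfull : AllFull p (S : Subgroup G) 𝒢)
    (hmov : Movers (S : Subgroup G) 𝒢) (T : Subgroup G) (g : G) (hT : T ≤ (S : Subgroup G))
    (hg : Fusion.conjSub g T ≤ (S : Subgroup G)) : FamChain 𝒢 (T : Set G) g := by
  induction hn : Nat.card G - Nat.card T using Nat.strong_induction_on generalizing T g with
  | _ n IH =>
  subst hn
  rcases hT.eq_or_lt with rfl | hlt
  · obtain ⟨a, ha, -⟩ := hmov _ le_rfl
    have hS : (S : Subgroup G) ∈ 𝒢 := by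
      rwa [eq_of_le_of_card_ge (hfull _ ha).1 (card_cjSub a _).ge] at ha
    rw [← mul_one g]
    refine .cons g _ hS (subset_refl _) ?_ (.nil _)
    exact Fusion.mem_normalizer_of_conjSub_eq
      (eq_of_le_of_card_ge hg (Fusion.card_conjSub g _).ge)
  obtain ⟨a, ha, -⟩ := hmov T hT
  set F := cjSub a T with hF
  obtain ⟨hFS, hFN⟩ := hfull F ha
  have move : ∀ (E : Subgroup G) (k : G), E ≤ (S : Subgroup G) → Fusion.conjSub k E = F →
      ∃ k', Fusion.conjSub k' E = F ∧ FamChain 𝒢 (E : Set G) k' := by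
    intro E k hES hkE
    have hEcard : Nat.card E = Nat.card T := by
      rw [← Fusion.card_conjSub k E, hkE, hF, card_cjSub]
    have hES' : E < (S : Subgroup G) := lt_of_le_of_ne hES fun he => by
      have := eq_of_le_of_card_ge hT (by rw [← hEcard, he])
      exact hlt.ne this
    set R := (S : Subgroup G) ⊓ normalizer (E : Set G) with hR
    have hRk : Fusion.conjSub k R ≤ normalizer (F : Set G) := by
      rw [← hkE, ← Fusion.conjSub_normalizer]
      exact Fusion.conjSub_mono inf_le_right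
    obtain ⟨m, hm, hm'⟩ := Fusion.exists_conjSub_le_of_not_dvd_relIndex hFN.le hFN.isPGroup
      hFN.not_dvd hRk (Fusion.isPGroup_conjSub S.2.to_inf_left)
    refine ⟨k * m, by rw [← Fusion.conjSub_conjSub, hkE, Fusion.conjSub_eq_of_mem_normalizer hm],
      ?_⟩
    have hER : E < R := Fusion.lt_inf_normalizer_of_isPGroup S.2 hES'
    refine (IH _ ?_ R (k * m) inf_le_left ?_ rfl).mono (SetLike.coe_subset_coe.mpr hER.le)
    · have := Nat.le_of_dvd Nat.card_pos (card_subgroup_dvd_card R)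
      have : Nat.card T < Nat.card R := by
        rw [← hEcard]
        exact Set.Finite.card_lt_card (Set.toFinite _) (SetLike.coe_ssubset_coe.mpr hER)
      omega
    · rw [← Fusion.conjSub_conjSub]
      exact hm'.trans inf_le_left
  obtain ⟨h', hh', hc1⟩ := move T a⁻¹ hT (by rw [conjSub_eq_cjSub, inv_inv])
  obtain ⟨h'', hh'', hc2⟩ := move (Fusion.conjSub g T) (g⁻¹ * a⁻¹) hg
    (by rw [Fusion.conjSub_conjSub, ← mul_assoc, mul_inv_cancel, one_mul, conjSub_eq_cjSub,
      inv_inv])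
  have hnN : h'⁻¹ * g * h'' ∈ normalizer (F : Set G) := by
    refine Fusion.mem_normalizer_of_conjSub_eq ?_
    conv_lhs => rw [← hh']
    rw [Fusion.conjSub_conjSub, show h' * (h'⁻¹ * g * h'') = g * h'' by group,
      ← Fusion.conjSub_conjSub, hh'']
  rw [show g = h' * ((h'⁻¹ * g * h'') * h''⁻¹) by group]
  refine hc1.trans ?_
  rw [← Fusion.coe_conjSub, hh']
  refine .cons _ F ha (subset_refl _) hnN ?_
  rw [Fusion.conjSet_eq_of_mem_normalizer hnN, ← hh'', Fusion.coe_conjSub h'']
  exact hc2.inv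

theorem famChain_of_subset {𝒢 : Set (Subgroup G)} (hfull : AllFull p (S : Subgroup G) 𝒢)
    (hmov : Movers (S : Subgroup G) 𝒢) {A : Set G} {g : G}
    (hA : A ⊆ ((S : Subgroup G) : Set G))
    (hg : Fusion.conjSet g A ⊆ ((S : Subgroup G) : Set G)) : FamChain 𝒢 A g := by
  refine (famChain_of_conjSub_le S hfull hmov (closure A) g ((closure_le _).mpr hA) ?_).mono
    subset_closure
  rw [Fusion.conjSub_le_iff, closure_le]
  intro a ha
  rw [SetLike.mem_coe, Fusion.mem_conjSub, inv_inv]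
  exact hg ⟨a, ha, rfl⟩

omit [Finite G] hp in
theorem FamChain.toList {A : Set G} {g : G} (h : FamChain 𝒢 A g) :
    ∃ (n : ℕ) (T : Fin n → Subgroup G) (x : Fin n → G), (List.ofFn x).prod = g ∧
      (∀ i, T i ∈ 𝒢) ∧ (∀ i, x i ∈ normalizer ((T i : Subgroup G) : Set G)) ∧
      (∀ h : 0 < n, A ⊆ T ⟨0, h⟩) ∧
      ∀ (i : Fin n) (h : i.val + 1 < n),
        (fun a => (((List.ofFn x).take (i.val + 1)).prod)⁻¹ * a *
          ((List.ofFn x).take (i.val + 1)).prod) '' A ⊆ T ⟨i.val + 1, h⟩ := by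
  induction h with
  | nil A => exact ⟨0, fun i => i.elim0, fun i => i.elim0, by simp, fun i => i.elim0,
      fun i => i.elim0, fun h => absurd h (lt_irrefl 0), fun i => i.elim0⟩
  | @cons A g x D hD hA hx _ ih =>
    obtain ⟨n, T, y, hprod, hT, hy, h0, hi⟩ := ih
    refine ⟨n + 1, Fin.cons D T, Fin.cons x y, by simp [List.ofFn_succ, hprod],
      Fin.cases hD (fun i => by simpa using hT i), Fin.cases hx (fun i => by simpa using hy i),
      fun _ => hA, ?_⟩
    intro i hlt
    have hl : List.ofFn (Fin.cons x y : Fin (n + 1) → G) = x :: List.ofFn y := by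
      simp [List.ofFn_succ]
    have hn : i.val < n := by omega
    have hidx : (⟨i.val + 1, hlt⟩ : Fin (n + 1)) = Fin.succ ⟨i.val, hn⟩ := rfl
    rw [hl, List.take_succ_cons, List.prod_cons, hidx, Fin.cons_succ]
    change Fusion.conjSet _ A ⊆ _
    rw [Fusion.conjSet_mul]
    rcases Nat.eq_zero_or_pos i.val with h | h
    · have : (⟨i.val, hn⟩ : Fin n) = ⟨0, h ▸ hn⟩ := Fin.ext h
      rw [this]
      simp only [h, List.take_zero, List.prod_nil, Fusion.conjSet_one]
      exact h0 (h ▸ hn)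
    · obtain ⟨j, hj⟩ := Nat.exists_eq_succ_of_ne_zero h.ne'
      have hj' : j + 1 < n := by omega
      have := hi ⟨j, by omega⟩ hj'
      simpa [hj, Fusion.conjSet] using this

theorem isConjugationFamily_of_full {𝒢 : Set (Subgroup G)}
    (hfull : AllFull p (S : Subgroup G) 𝒢) (hmov : Movers (S : Subgroup G) 𝒢) :
    Cfsg.IsConjugationFamily 𝒢 (S : Subgroup G) :=
  ⟨fun D hD => (hfull D hD).1, fun _ _ _ hA hg => (famChain_of_subset S hfull hmov hA hg).toList⟩

/-! ### well-placed subgroups -/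

omit [Finite G] hp in
theorem functorTower_shift (W : Subgroup G → Subgroup G) (P T : Subgroup G) (i : ℕ) :
    Cfsg.functorTower W P (W (P ⊓ normalizer (T : Set G))) i = Cfsg.functorTower W P T (i + 1) := by
  induction i with
  | zero => rfl
  | succ i ih =>
    change W (P ⊓ normalizer (Cfsg.functorTower W P _ i : Set G)) = _
    rw [ih]; rfl

theorem tower_le {W : Subgroup G → Subgroup G} (hW : Cfsg.IsConjugacyFunctor p W) {T : Subgroup G}
    (hT : T ≤ (S : Subgroup G)) : ∀ i, Cfsg.functorTower W (S : Subgroup G) T i ≤ (S : Subgroup G)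
  | 0 => hT
  | i + 1 => (hW _ (S.2.to_inf_left (K := normalizer _))).1.trans inf_le_left

theorem tower_norm_mono {W : Subgroup G → Subgroup G} (hW : Cfsg.IsConjugacyFunctor p W)
    (T : Subgroup G) {i j : ℕ} (hij : i ≤ j) :
    (S : Subgroup G) ⊓ normalizer (Cfsg.functorTower W (S : Subgroup G) T i : Set G) ≤
      (S : Subgroup G) ⊓ normalizer (Cfsg.functorTower W (S : Subgroup G) T j : Set G) := by
  induction hij with
  | refl => exact le_rfl
  | @step m _ ih =>
    refine ih.trans (le_inf inf_le_left ?_)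
    exact self_le_normalizer_functor hW S.2.to_inf_left

theorem exists_good_upTo {W : Subgroup G → Subgroup G} (hW : Cfsg.IsConjugacyFunctor p W)
    {T : Subgroup G} (hT : T ≤ (S : Subgroup G)) (n : ℕ) :
    ∃ g : G, cjSub g T ≤ (S : Subgroup G) ∧ ∀ i < n,
      SylIn p
        ((S : Subgroup G) ⊓ normalizer (Cfsg.functorTower W (S : Subgroup G) (cjSub g T) i : Set G))
        (normalizer (Cfsg.functorTower W (S : Subgroup G) (cjSub g T) i : Set G)) := by
  induction n with
  | zero => exact ⟨1, by rwa [cjSub_one], fun i hi => absurd hi (Nat.not_lt_zero i)⟩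
  | succ n ih =>
    obtain ⟨g, hgT, hgood⟩ := ih
    set tw : Subgroup G → ℕ → Subgroup G := Cfsg.functorTower W (S : Subgroup G) with htw
    set U := tw (cjSub g T) n with hU
    obtain ⟨P, hP, hRP⟩ := SylIn.exists_ge (p := p) (H := normalizer (U : Set G))
      (S.2.to_inf_left) (inf_le_right : (S : Subgroup G) ⊓ _ ≤ _)
    obtain ⟨k, -, hk⟩ := (sylIn_top S).exists_cjSub_le hP.isPGroup le_top
    have hRi : ∀ i ≤ n, cjSub k ((S : Subgroup G) ⊓ normalizer (tw (cjSub g T) i : Set G))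
        ≤ (S : Subgroup G) := fun i hi =>
      (map_mono ((tower_norm_mono S hW _ hi).trans hRP)).trans hk
    have hT' : cjSub (k * g) T ≤ (S : Subgroup G) := by
      rw [← cjSub_cjSub]
      exact (map_mono (le_inf hgT (show cjSub g T ≤ normalizer (tw (cjSub g T) 0 : Set G) from
        le_normalizer))).trans (hRi 0 (Nat.zero_le n))
    have hlev : ∀ i ≤ n, tw (cjSub (k * g) T) i = cjSub k (tw (cjSub g T) i) ∧
        (i < n → (S : Subgroup G) ⊓ normalizer (tw (cjSub (k * g) T) i : Set G) =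
          cjSub k ((S : Subgroup G) ⊓ normalizer (tw (cjSub g T) i : Set G))) := by
      intro i
      induction i with
      | zero =>
        intro _
        refine ⟨(cjSub_cjSub k g T).symm, fun h0 => ?_⟩
        have e : tw (cjSub (k * g) T) 0 = cjSub k (tw (cjSub g T) 0) := (cjSub_cjSub k g T).symm
        refine ((hgood 0 h0).cjSub k).eq_of_le S.2.to_inf_left ?_ ?_
        · rw [e, cjSub_normalizer]; exact inf_le_right
        · refine le_inf (hRi 0 (Nat.zero_le n)) ?_
          rw [e, ← cjSub_normalizer]; exact map_mono inf_le_right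
      | succ i ih' =>
        intro hi
        have e : tw (cjSub (k * g) T) (i + 1) = cjSub k (tw (cjSub g T) (i + 1)) := by
          change W ((S : Subgroup G) ⊓ normalizer (tw (cjSub (k * g) T) i : Set G)) = _
          rw [(ih' (by omega)).2 (by omega), functor_cjSub hW S.2.to_inf_left]
          rfl
        refine ⟨e, fun h0 => ?_⟩
        refine ((hgood _ h0).cjSub k).eq_of_le S.2.to_inf_left ?_ ?_
        · rw [e, cjSub_normalizer]; exact inf_le_right
        · refine le_inf (hRi _ hi) ?_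
          rw [e, ← cjSub_normalizer]; exact map_mono inf_le_right
    refine ⟨k * g, hT', fun i hi => sylIn_full S ?_⟩
    rcases Nat.lt_succ_iff.mp hi |>.lt_or_eq with hlt | rfl
    · obtain ⟨e1, e2⟩ := hlev i hlt.le
      have := ((hgood i hlt).cjSub k).not_dvd
      rw [← e2 hlt, cjSub_normalizer, ← e1] at this
      exact this
    · have e1 := (hlev i le_rfl).1
      have hPk : cjSub k P ≤ (S : Subgroup G) ⊓ normalizer (tw (cjSub (k * g) T) i : Set G) :=
        le_inf hk (by rw [e1, ← cjSub_normalizer]; exact map_mono hP.le)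
      have hS2 : SylIn p (cjSub k P) (normalizer (tw (cjSub (k * g) T) i : Set G)) := by
        rw [e1, ← cjSub_normalizer]; exact hP.cjSub k
      rw [hS2.eq_of_le S.2.to_inf_left inf_le_right hPk]
      exact hS2.not_dvd

theorem exists_wellPlaced {W : Subgroup G → Subgroup G} (hW : Cfsg.IsConjugacyFunctor p W)
    {T : Subgroup G} (hT : T ≤ (S : Subgroup G)) :
    ∃ g : G, Cfsg.IsWellPlaced p W (S : Subgroup G) (cjSub g T) := by
  choose g hgT hg using exists_good_upTo S hW hT
  obtain ⟨a, ha⟩ := Finite.exists_infinite_fiber g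
  rw [Set.infinite_coe_iff] at ha
  refine ⟨a, ?_, fun i => ?_⟩
  · obtain ⟨n, hn, -⟩ := ha.exists_gt 0
    exact (show g n = a from hn) ▸ hgT n
  · obtain ⟨n, hn, hin⟩ := ha.exists_gt i
    exact ((show g n = a from hn) ▸ hg n i hin).not_dvd

theorem allFull_wellPlaced (W : Subgroup G → Subgroup G) :
    AllFull p (S : Subgroup G) {T | Cfsg.IsWellPlaced p W (S : Subgroup G) T} :=
  fun _ hD => ⟨hD.1, sylIn_full S (hD.2 0)⟩

theorem movers_wellPlaced {W : Subgroup G → Subgroup G} (hW : Cfsg.IsConjugacyFunctor p W) :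
    Movers (S : Subgroup G) {T | Cfsg.IsWellPlaced p W (S : Subgroup G) T} :=
  movers_of_forall S (allFull_wellPlaced S W) fun _ hV => exists_wellPlaced S hW hV

/-- The subgroups of `S` with a Sylow subgroup of their normalizer in `S`. -/
def fullSet (p : ℕ) (S : Subgroup G) : Set (Subgroup G) :=
  {D | D ≤ S ∧ ¬ p ∣ (S ⊓ normalizer (D : Set G)).relIndex (normalizer (D : Set G))}

theorem allFull_fullSet : AllFull p (S : Subgroup G) (fullSet p (S : Subgroup G)) :=
  fun _ hD => ⟨hD.1, sylIn_full S hD.2⟩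

theorem movers_fullSet : Movers (S : Subgroup G) (fullSet p (S : Subgroup G)) :=
  movers_of_forall S (allFull_fullSet S) fun V hV => by
    obtain ⟨h, h1, h2⟩ := Fusion.exists_fully_normalized S hV
    exact ⟨h⁻¹, h1, h2⟩

/-! ### local-to-global -/

omit [Finite G] hp in
theorem Ctrl.bind {𝒩 𝒩' : Set (Subgroup G)} {T T' : Subgroup G} {A : Set G} {g : G}
    (hg : Ctrl 𝒩 T A g) (hA : A ⊆ T)
    (hstep : ∀ N ∈ 𝒩, ∀ x ∈ N, ∀ B : Set G, B ⊆ T → cj x B ⊆ T → Ctrl 𝒩' T' B x) :
    Ctrl 𝒩' T' A g := by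
  obtain ⟨c, hc, hce⟩ := hg
  refine Ctrl.of_eqOn ?_ hce
  clear hce
  induction hc with
  | one => exact Ctrl.one
  | @step c x N hc hN hx hxA ih =>
    exact ih.trans (hstep N hN x hx _ (hc.subset hA) (by rwa [← cj_mul]))

variable {𝓕 : Set (Subgroup G → Subgroup G)}

theorem lt_norm_functor (h𝓕 : ∀ W ∈ 𝓕, Cfsg.IsConjugacyFunctor p W) {W : Subgroup G → Subgroup G}
    (hW : W ∈ 𝓕) {R : Subgroup G} (hR : R < (S : Subgroup G)) :
    R < (S : Subgroup G) ⊓ normalizer ((W R : Subgroup G) : Set G) :=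
  (Fusion.lt_inf_normalizer_of_isPGroup S.2 hR).trans_le
    (inf_le_inf_left _ (le_normalizer_functor (h𝓕 W hW) (S.2.to_le hR.le)))

theorem fusCtrl_of_local (h𝓕 : ∀ W ∈ 𝓕, Cfsg.IsConjugacyFunctor p W) {𝒢 : Set (Subgroup G)}
    (hfull : AllFull p (S : Subgroup G) 𝒢) (hmov : Movers (S : Subgroup G) 𝒢)
    (hloc : ∀ D ∈ 𝒢, D ≠ ⊥ → Cfsg.FamilyControlsStrongFusionIn p 𝓕 (normalizer (D : Set G))) :
    FusCtrl (normSet 𝓕 ⊤ (S : Subgroup G)) (S : Subgroup G) ⊤ := by
  have key : ∀ (k : ℕ) (D : Subgroup G), D ∈ 𝒢 → D ≠ ⊥ →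
      Nat.card G - Nat.card ((S : Subgroup G) ⊓ normalizer (D : Set G) : Subgroup G) = k →
      ∀ (A : Set G) (x : G), x ∈ normalizer (D : Set G) →
        A ⊆ ((S : Subgroup G) ⊓ normalizer (D : Set G) : Subgroup G) →
        cj x A ⊆ ((S : Subgroup G) ⊓ normalizer (D : Set G) : Subgroup G) →
        Ctrl (normSet 𝓕 ⊤ (S : Subgroup G)) (S : Subgroup G) A x := by
    intro k
    induction k using Nat.strong_induction_on with
    | _ k IH =>
    intro D hD hDne hk A x hx hA hxA
    set R := (S : Subgroup G) ⊓ normalizer (D : Set G) with hR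
    have hRN : SylIn p R (normalizer (D : Set G)) := (hfull D hD).2
    have hloc' := (famFus_iff_forall h𝓕 hRN).mp (hloc D hD hDne)
    refine (hloc' A x hx hA hxA).bind hA ?_
    rintro _ ⟨W, hW, rfl⟩ y hy B hB hyB
    rcases (inf_le_left : R ≤ (S : Subgroup G)).eq_or_lt with hRS | hRS
    · refine Ctrl.of_mem (N := ⊤ ⊓ normalizer ((W (S : Subgroup G) : Subgroup G) : Set G))
        ⟨W, hW, rfl⟩ ⟨mem_top _, hRS ▸ hy.2⟩ (hyB.trans (SetLike.coe_subset_coe.mpr hRS.le))
    have hRp : IsPGroup p R := S.2.to_inf_left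
    have hRne : R ≠ ⊥ := fun e => hDne <| le_bot_iff.mp
      (((le_inf (hfull D hD).1 le_normalizer) : D ≤ R).trans e.le)
    have hlt2 : R < (S : Subgroup G) ⊓ normalizer ((W R : Subgroup G) : Set G) :=
      lt_norm_functor S h𝓕 hW hRS
    set R2 := (S : Subgroup G) ⊓ normalizer ((W R : Subgroup G) : Set G) with hR2
    obtain ⟨a, ha, haR2⟩ := hmov (W R) ((h𝓕 W hW R hRp).1.trans inf_le_left)
    set V := cjSub a (W R) with hV
    have hVR : cjSub a R2 ≤ (S : Subgroup G) ⊓ normalizer (V : Set G) :=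
      le_inf haR2 (by rw [hV, ← cjSub_normalizer]; exact map_mono inf_le_right)
    have hcardR : Nat.card R < Nat.card R2 :=
      Set.Finite.card_lt_card (Set.toFinite _) (SetLike.coe_ssubset_coe.mpr hlt2)
    have hlt' : ∀ U : Subgroup G, Nat.card R2 ≤ Nat.card U → Nat.card G - Nat.card U < k := by
      intro U hU
      have := Nat.le_of_dvd Nat.card_pos (card_subgroup_dvd_card U)
      omega
    have hmovea : ∀ B : Set G, B ⊆ R2 →
        Ctrl (normSet 𝓕 ⊤ (S : Subgroup G)) (S : Subgroup G) B a := by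
      intro B hB
      have hch : FamChain 𝒢 (R2 : Set G) a⁻¹ := by
        refine famChain_of_subset S hfull hmov (SetLike.coe_subset_coe.mpr inf_le_left) ?_
        rw [conjSet_eq_cj, inv_inv, ← coe_cjSub]
        exact haR2
      have hch' := hch.big (k := Nat.card R2) (by rw [← Nat.card_coe_set_eq]; rfl)
      refine (inv_inv a ▸ ctrl_of_chain hch' ?_ : Ctrl _ _ (R2 : Set G) a).mono hB
      rintro U ⟨hU, hUc⟩ z hz C hC
      have hUS : U ≤ (S : Subgroup G) ⊓ normalizer (U : Set G) :=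
        le_inf (hfull U hU).1 le_normalizer
      refine IH _ (hlt' _ (hUc.trans (card_le_of_le hUS))) U hU ?_ rfl C z hz
        (hC.trans (SetLike.coe_subset_coe.mpr hUS)) ?_
      · intro e
        subst e
        have := Nat.card_pos (α := R)
        simp at hUc
        omega
      · refine (cj_mono hC).trans ?_
        rw [← coe_cjSub, cjSub_eq_of_mem hz]
        exact SetLike.coe_subset_coe.mpr hUS
    have hBR2 : B ⊆ (R2 : Set G) := hB.trans (SetLike.coe_subset_coe.mpr hlt2.le)
    have hyBR2 : cj y B ⊆ (R2 : Set G) := hyB.trans (SetLike.coe_subset_coe.mpr hlt2.le)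
    have h1 := hmovea B hBR2
    have h2 : Ctrl (normSet 𝓕 ⊤ (S : Subgroup G)) (S : Subgroup G) (cj a B) (a * y * a⁻¹) := by
      have hay : a * y * a⁻¹ ∈ normalizer (V : Set G) := by
        rw [hV, ← cjSub_normalizer, mem_cjSub]
        simpa [mul_assoc] using hy.2
      refine IH _ (hlt' _ ((card_cjSub a R2).ge.trans (card_le_of_le hVR))) V ha
        (cjSub_ne_bot ((h𝓕 W hW R hRp).2.1 hRne)) rfl _ _ hay ?_ ?_
      · exact (cj_mono hBR2).trans ((coe_cjSub a R2).symm.le.trans (SetLike.coe_subset_coe.mpr hVR))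
      · rw [← cj_mul, show a * y * a⁻¹ * a = a * y by group, cj_mul]
        exact (cj_mono hyBR2).trans
          ((coe_cjSub a R2).symm.le.trans (SetLike.coe_subset_coe.mpr hVR))
    have h3 := (hmovea _ hyBR2).inv (hyBR2.trans (SetLike.coe_subset_coe.mpr inf_le_left))
    have h12 := h1.trans h2
    rw [← cj_mul, show a * y = a * y * a⁻¹ * a by group] at h3
    have := h12.trans h3
    rwa [show a⁻¹ * (a * y * a⁻¹ * a) = y by group] at this
  intro A h _ hA hhA
  have hch := famChain_of_subset S hfull hmov (g := h⁻¹) hA (by rwa [conjSet_eq_cj, inv_inv])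
  refine inv_inv h ▸ ctrl_of_chain hch fun D hD x hx B hB => ?_
  by_cases hDne : D = ⊥
  · subst hDne; exact Ctrl.of_subset_bot hB
  have hDS : D ≤ (S : Subgroup G) ⊓ normalizer (D : Set G) := le_inf (hfull D hD).1 le_normalizer
  refine key _ D hD hDne rfl B x hx (hB.trans (SetLike.coe_subset_coe.mpr hDS)) ?_
  refine (cj_mono hB).trans ?_
  rw [← coe_cjSub, cjSub_eq_of_mem hx]
  exact SetLike.coe_subset_coe.mpr hDS

theorem trCtrl_of_local (h𝓕 : ∀ W ∈ 𝓕, Cfsg.IsConjugacyFunctor p W) {𝒢 : Set (Subgroup G)}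
    (hfull : AllFull p (S : Subgroup G) 𝒢) (hmov : Movers (S : Subgroup G) 𝒢)
    (hloc : ∀ D ∈ 𝒢, D ≠ ⊥ → Cfsg.FamilyControlsTransferIn p 𝓕 (normalizer (D : Set G))) :
    TrCtrl (normSet 𝓕 ⊤ (S : Subgroup G)) (S : Subgroup G) ⊤ := by
  set M := tGen (normSet 𝓕 ⊤ (S : Subgroup G)) (S : Subgroup G) with hM
  have hone : ∀ D ∈ 𝒢, ∀ x ∈ normalizer (D : Set G), ∀ u ∈ D,
      (D = ⊥ ∨ ((S : Subgroup G) ⊓ normalizer (D : Set G)) ⊓
        ⁅normalizer (D : Set G), normalizer (D : Set G)⁆ ≤ M) →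
      u⁻¹ * (x * u * x⁻¹) ∈ M := by
    intro D hD x hx u hu hor
    rcases hor with rfl | hle
    · simp [mem_bot.mp hu]
    have hu' : x * u * x⁻¹ ∈ D := (mem_normalizer_iff.mp hx u).mp hu
    exact hle (commutatorPart_mem ⟨(hfull D hD).1 hu, le_normalizer hu⟩ (le_normalizer hu) hx
      ⟨(hfull D hD).1 hu', le_normalizer hu'⟩)
  have key : ∀ (k : ℕ) (D : Subgroup G), D ∈ 𝒢 → D ≠ ⊥ →
      Nat.card G - Nat.card ((S : Subgroup G) ⊓ normalizer (D : Set G) : Subgroup G) = k →
      ((S : Subgroup G) ⊓ normalizer (D : Set G)) ⊓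
        ⁅normalizer (D : Set G), normalizer (D : Set G)⁆ ≤ M := by
    intro k
    induction k using Nat.strong_induction_on with
    | _ k IH =>
    intro D hD hDne hk
    set R := (S : Subgroup G) ⊓ normalizer (D : Set G) with hR
    have hloc' := (famTr_iff_forall h𝓕 (hfull D hD).2).mp (hloc D hD hDne)
    refine hloc'.trans (iSup₂_le ?_)
    rintro _ ⟨W, hW, rfl⟩
    rcases (inf_le_left : R ≤ (S : Subgroup G)).eq_or_lt with hRS | hRS
    · rw [hRS]
      exact (inf_le_inf_left _ (commutator_mono (inf_le_inf_right _ le_top)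
        (inf_le_inf_right _ le_top))).trans (inf_commutator_le_tGen (𝒩 := normSet 𝓕 ⊤ (S : Subgroup G))
          (N := ⊤ ⊓ normalizer ((W (S : Subgroup G) : Subgroup G) : Set G)) ⟨W, hW, rfl⟩ _)
    have hRp : IsPGroup p R := S.2.to_inf_left
    have hRne : R ≠ ⊥ := fun e => hDne <| le_bot_iff.mp
      (((le_inf (hfull D hD).1 le_normalizer) : D ≤ R).trans e.le)
    have hlt2 : R < (S : Subgroup G) ⊓ normalizer ((W R : Subgroup G) : Set G) :=
      lt_norm_functor S h𝓕 hW hRS
    set R2 := (S : Subgroup G) ⊓ normalizer ((W R : Subgroup G) : Set G) with hR2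
    obtain ⟨a, ha, haR2⟩ := hmov (W R) ((h𝓕 W hW R hRp).1.trans inf_le_left)
    set V := cjSub a (W R) with hV
    have hVR : cjSub a R2 ≤ (S : Subgroup G) ⊓ normalizer (V : Set G) :=
      le_inf haR2 (by rw [hV, ← cjSub_normalizer]; exact map_mono inf_le_right)
    have hcardR : Nat.card R < Nat.card R2 :=
      Set.Finite.card_lt_card (Set.toFinite _) (SetLike.coe_ssubset_coe.mpr hlt2)
    have hlt' : ∀ U : Subgroup G, Nat.card R2 ≤ Nat.card U → Nat.card G - Nat.card U < k := by
      intro U hU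
      have := Nat.le_of_dvd Nat.card_pos (card_subgroup_dvd_card U)
      omega
    intro r hr
    have h1 : a * r * a⁻¹ ∈ M := by
      refine IH _ (hlt' _ ((card_cjSub a R2).ge.trans (card_le_of_le hVR))) V ha
        (cjSub_ne_bot ((h𝓕 W hW R hRp).2.1 hRne)) rfl ⟨hVR ⟨r, hlt2.le hr.1, rfl⟩, ?_⟩
      rw [hV, ← cjSub_normalizer, ← map_commutator]
      exact ⟨r, commutator_mono inf_le_right inf_le_right hr.2, rfl⟩
    have hch : FamChain 𝒢 (R2 : Set G) a⁻¹ := by
      refine famChain_of_subset S hfull hmov (SetLike.coe_subset_coe.mpr inf_le_left) ?_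
      rw [conjSet_eq_cj, inv_inv, ← coe_cjSub]
      exact haR2
    have hch' := hch.big (k := Nat.card R2) (by rw [← Nat.card_coe_set_eq]; rfl)
    have h2 := mem_of_chain (M := M) hch' (fun U hU z hz u hu => ?_) r (hlt2.le hr.1)
    · have := mul_mem h1 (inv_mem h2)
      convert this using 1
      group
    · refine hone U hU.1 z hz u hu (Or.inr (IH _ (hlt' _ (hU.2.trans (card_le_of_le
        (le_inf (hfull U hU.1).1 le_normalizer)))) U hU.1 ?_ rfl))
      intro e
      have h3 := hU.2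
      rw [e, card_bot] at h3
      have := Nat.card_pos (α := R)
      omega
  refine inf_commutator_le_of_focal S M fun u hu g hgu => ?_
  have hch := famChain_of_subset S hfull hmov (A := {u}) (g := g⁻¹)
    (Set.singleton_subset_iff.mpr hu)
    (by rw [conjSet_eq_cj, inv_inv, cj, Set.image_singleton]; exact Set.singleton_subset_iff.mpr hgu)
  have := mem_of_chain (M := M) hch (fun D hD x hx v hv => hone D hD x hx v hv
    (or_iff_not_imp_left.mpr fun hne => key _ D hD hne rfl)) u rfl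
  simpa using this

end Cfsg.Agent.Control
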