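import Cfsg.Agent.Control.Sections
import Cfsg.Agent.Thompson.Basic

/-!
# Two functors factorising with the centraliser of the centre

`rel_of_conj`: conjugates in `S` of elements of `Ω₁Z(S)` are conjugates under both normalisers.
-/

set_option autoImplicit false

namespace Cfsg.Agent.Control

open Subgroup
open Cfsg.Agent.Thompson

universe u

variable {p : ℕ} [hp : Fact p.Prime] (W₁ W₂ : ∀ (Q : Type u) [Group Q], Subgroup Q)

/-- `Ω₁` of the centre. -/
abbrev omZ (p : ℕ) {X : Type u} [Group X] (T : Subgroup X) : Subgroup X :=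
  Cfsg.omegaOne p (T ⊓ centralizer (T : Set X))

/-- The three factorisations. -/
def Fac3 (p : ℕ) (W₁ W₂ : ∀ (Q : Type u) [Group Q], Subgroup Q) (X : Type u) [Group X] : Prop :=
  ∀ T : Sylow p X,
    (∀ x : X, ∃ a ∈ centralizer (omZ p (T : Subgroup X) : Set X),
      ∃ b ∈ normalizer ((Cfsg.inducedFunctor W₁ (T : Subgroup X) : Subgroup X) : Set X), x = a * b) ∧
    (∀ x : X, ∃ a ∈ centralizer (omZ p (T : Subgroup X) : Set X),
      ∃ b ∈ normalizer ((Cfsg.inducedFunctor W₂ (T : Subgroup X) : Subgroup X) : Set X), x = a * b) ∧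
    (∀ x : X, ∃ a ∈ normalizer ((Cfsg.inducedFunctor W₁ (T : Subgroup X) : Subgroup X) : Set X),
      ∃ b ∈ normalizer ((Cfsg.inducedFunctor W₂ (T : Subgroup X) : Subgroup X) : Set X), x = a * b)

/-- `Ω₁Z` commutes with maps injective on the subgroup. -/
theorem omZ_map {X Y : Type u} [Group X] [Group Y] (f : X →* Y) {T : Subgroup X}
    (hinj : Set.InjOn f (T : Set X)) : omZ p (T.map f) = (omZ p T).map f := by
  have hc : T.map f ⊓ centralizer (T.map f : Set Y) = (T ⊓ centralizer (T : Set X)).map f := by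
    refine le_antisymm ?_ ?_
    · rintro y ⟨⟨x, hx, rfl⟩, hy⟩
      refine ⟨x, ⟨hx, mem_centralizer_iff.mpr fun t ht => hinj (mul_mem ht hx) (mul_mem hx ht) ?_⟩, rfl⟩
      rw [map_mul, map_mul]
      exact mem_centralizer_iff.mp hy _ (mem_map_of_mem f ht)
    · rintro _ ⟨x, ⟨hx, hxc⟩, rfl⟩
      refine ⟨mem_map_of_mem f hx, mem_centralizer_iff.mpr ?_⟩
      rintro _ ⟨t, ht, rfl⟩
      rw [← map_mul, ← map_mul, mem_centralizer_iff.mp hxc t ht]
  rw [omZ, omZ, hc, Cfsg.omegaOne, Cfsg.omegaOne, MonoidHom.map_closure]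
  congr 1
  ext y
  constructor
  · rintro ⟨⟨x, hx, rfl⟩, hy⟩
    refine ⟨x, ⟨hx, hinj (pow_mem hx.1 p) (one_mem T) ?_⟩, rfl⟩
    rw [map_pow, hy, map_one]
  · rintro ⟨x, ⟨hx, hxp⟩, rfl⟩
    exact ⟨mem_map_of_mem f hx, by rw [← map_pow, hxp, map_one]⟩

theorem fac3_congr (hW₁ : Cfsg.IsCharPFunctor.{u} p W₁) (hW₂ : Cfsg.IsCharPFunctor.{u} p W₂)
    {X Y : Type u} [Group X] [Group Y] [Finite X] (e : X ≃* Y) (h : Fac3 p W₁ W₂ X) :
    Fac3 p W₁ W₂ Y := by
  intro T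
  have : Finite Y := Finite.of_equiv X e.toEquiv
  have hsurj : Function.Surjective e.toMonoidHom := e.surjective
  obtain ⟨T₀, rfl⟩ := Sylow.mapSurjective_surjective hsurj p T
  obtain ⟨h1, h2, h3⟩ := h T₀
  have hinj : Set.InjOn e.toMonoidHom ((T₀ : Subgroup X) : Set X) := e.injective.injOn
  have hN : ∀ {W : ∀ (Q : Type u) [Group Q], Subgroup Q}, Cfsg.IsCharPFunctor.{u} p W → ∀ {b : X},
      b ∈ normalizer ((Cfsg.inducedFunctor W (T₀ : Subgroup X) : Subgroup X) : Set X) →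
      e b ∈ normalizer ((Cfsg.inducedFunctor W
        ((T₀ : Subgroup X).map e.toMonoidHom) : Subgroup Y) : Set Y) := fun {W} hW {b} hb => by
    rw [inducedFunctor_map hW _ T₀.2 hinj]
    exact le_normalizer_map e.toMonoidHom ⟨b, hb, rfl⟩
  have hC : ∀ {a : X}, a ∈ centralizer (omZ p (T₀ : Subgroup X) : Set X) →
      e a ∈ centralizer (omZ p ((T₀ : Subgroup X).map e.toMonoidHom) : Set Y) := fun {a} ha => by
    rw [omZ_map _ hinj, mem_centralizer_iff]
    rintro _ ⟨t, ht, rfl⟩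
    exact (map_mul e t a).symm.trans ((congrArg e (mem_centralizer_iff.mp ha t ht)).trans (map_mul e a t))
  simp only [Sylow.coe_mapSurjective]
  refine ⟨fun x => ?_, fun x => ?_, fun x => ?_⟩
  · obtain ⟨a, ha, b, hb, hab⟩ := h1 (e.symm x)
    exact ⟨e a, hC ha, e b, hN hW₁ hb, by rw [← map_mul, ← hab, e.apply_symm_apply]⟩
  · obtain ⟨a, ha, b, hb, hab⟩ := h2 (e.symm x)
    exact ⟨e a, hC ha, e b, hN hW₂ hb, by rw [← map_mul, ← hab, e.apply_symm_apply]⟩
  · obtain ⟨a, ha, b, hb, hab⟩ := h3 (e.symm x)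
    exact ⟨e a, hN hW₁ ha, e b, hN hW₂ hb, by rw [← map_mul, ← hab, e.apply_symm_apply]⟩

/-- The factorisations in all self-centralising sections. -/
def SecFac3 (p : ℕ) (W₁ W₂ : ∀ (Q : Type u) [Group Q], Subgroup Q) (X : Type u) [Group X] : Prop :=
  ∀ (Y : Type u) [Group Y] [Finite Y], IsSec Y X →
    centralizer (Cfsg.pCore p Y : Set Y) ≤ Cfsg.pCore p Y → Fac3 p W₁ W₂ Y

theorem secFac3_of_quotients (hW₁ : Cfsg.IsCharPFunctor.{u} p W₁)
    (hW₂ : Cfsg.IsCharPFunctor.{u} p W₂) {X : Type u} [Group X] [Finite X]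
    (h : ∀ (K R : Subgroup X) [(R.subgroupOf K).Normal],
      centralizer (Cfsg.pCore p (↥K ⧸ R.subgroupOf K) : Set (↥K ⧸ R.subgroupOf K)) ≤
        Cfsg.pCore p (↥K ⧸ R.subgroupOf K) → Fac3 p W₁ W₂ (↥K ⧸ R.subgroupOf K)) :
    SecFac3 p W₁ W₂ X := by
  intro Y _ hY hsec hc
  refine of_sections (P := fun W _ => Finite W →
    centralizer (Cfsg.pCore p W : Set W) ≤ Cfsg.pCore p W → Fac3 p W₁ W₂ W) ?_ ?_ hsec hY hc
  · intro W W' _ _ e hh hfin hc'
    have : Finite W := Finite.of_equiv W' e.symm.toEquiv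
    exact fac3_congr W₁ W₂ hW₁ hW₂ e (hh inferInstance (selfCentral_congr e hc'))
  · exact fun K R _ _ hc' => h K R hc'

variable {W₁ W₂}

theorem gFus_pair_of_fac3 (hW₁ : Cfsg.IsCharPFunctor.{u} p W₁) (hW₂ : Cfsg.IsCharPFunctor.{u} p W₂)
    {X : Type u} [Group X] [Finite X] (h : SecFac3 p W₁ W₂ X) :
    GFus ({W₁, W₂} : Set (∀ (Q : Type u) [Group Q], Subgroup Q)) p X := by
  have hF : ∀ W ∈ ({W₁, W₂} : Set (∀ (Q : Type u) [Group Q], Subgroup Q)),
      Cfsg.IsCharPFunctor.{u} p W := by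
    rintro W (rfl | rfl)
    · exact hW₁
    · exact hW₂
  refine gFus_of_sections hF fun Y _ _ hY hc => ?_
  obtain ⟨T⟩ := (inferInstance : Nonempty (Sylow p Y))
  refine famFus_iff.mpr ⟨_, sylIn_top T, fun A g _ hA hgA => ?_⟩
  obtain ⟨a, ha, b, hb, rfl⟩ := (h Y hY hc T).2.2 g
  set N₁ := normalizer ((Cfsg.inducedFunctor W₁ (T : Subgroup Y) : Subgroup Y) : Set Y)
  set N₂ := normalizer ((Cfsg.inducedFunctor W₂ (T : Subgroup Y) : Subgroup Y) : Set Y)
  have hT₁ : (T : Subgroup Y) ≤ N₁ := self_le_normalizer_functor (isConjugacyFunctor_induced hW₁) T.2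
  have hT₂ : (T : Subgroup Y) ≤ N₂ := self_le_normalizer_functor (isConjugacyFunctor_induced hW₂) T.2
  have hB : cjSub b (closure A) ≤ N₁ ⊓ N₂ := by
    rw [map_le_iff_le_comap, closure_le]
    intro x hx
    have h1 : a * b * x * (a * b)⁻¹ ∈ N₁ := hT₁ (hgA ⟨x, hx, rfl⟩)
    have h2 := mul_mem (mul_mem (inv_mem ha) h1) ha
    rw [show a⁻¹ * (a * b * x * (a * b)⁻¹) * a = b * x * b⁻¹ by group] at h2
    exact mem_inf.mpr ⟨h2, mul_mem (mul_mem hb (hT₂ (hA hx))) (inv_mem hb)⟩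
  obtain ⟨d, hd, hdB⟩ := ((sylIn_top T).mono (le_inf hT₁ hT₂) le_top).exists_cjSub_le
    (isPGroup_cjSub (T.2.to_le ((closure_le _).mpr hA))) hB
  have hdbA : cj (d * b) A ⊆ (T : Subgroup Y) := by
    rintro _ ⟨x, hx, rfl⟩
    change d * b * x * (d * b)⁻¹ ∈ _
    rw [show d * b * x * (d * b)⁻¹ = d * (b * x * b⁻¹) * d⁻¹ by group]
    exact hdB ⟨_, ⟨x, subset_closure hx, rfl⟩, rfl⟩
  have s1 : Ctrl (normSet (iF {W₁, W₂} Y) ⊤ (T : Subgroup Y)) (T : Subgroup Y) A (d * b) :=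
    Ctrl.of_mem ⟨_, ⟨W₂, Or.inr rfl, rfl⟩, rfl⟩ ⟨mem_top _, mul_mem hd.2 hb⟩ hdbA
  have s2 := s1.trans (h := a * d⁻¹) (Ctrl.of_mem ⟨_, ⟨W₁, Or.inl rfl, rfl⟩, rfl⟩
    (mem_inf.mpr ⟨mem_top _, mul_mem ha (inv_mem hd.1)⟩) (by
      rw [← cj_mul, show a * d⁻¹ * (d * b) = a * b by group]; exact hgA))
  rwa [show a * d⁻¹ * (d * b) = a * b by group] at s2

/-- The conjugates in `S` of elements of `Ω₁Z(S)` are conjugates under both normalisers. -/
theorem rel_of_conj (hW₁ : Cfsg.IsCharPFunctor.{u} p W₁) (hW₂ : Cfsg.IsCharPFunctor.{u} p W₂)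
    {X : Type u} [Group X] [Finite X] (hfac : SecFac3 p W₁ W₂ X) (S : Sylow p X)
    (hZ : omZ p (S : Subgroup X) ≤
      Cfsg.inducedFunctor W₁ (S : Subgroup X) ⊓ Cfsg.inducedFunctor W₂ (S : Subgroup X))
    {z : X} (hz : z ∈ omZ p (S : Subgroup X)) {g : X} (hg : g * z * g⁻¹ ∈ (S : Subgroup X)) :
    (∃ n ∈ normalizer ((Cfsg.inducedFunctor W₁ (S : Subgroup X) : Subgroup X) : Set X),
      n * z * n⁻¹ = g * z * g⁻¹) ∧
    (∃ n ∈ normalizer ((Cfsg.inducedFunctor W₂ (S : Subgroup X) : Subgroup X) : Set X),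
      n * z * n⁻¹ = g * z * g⁻¹) := by
  induction hn : Nat.card X using Nat.strong_induction_on generalizing X with
  | _ n IH =>
  subst hn
  have hzS : z ∈ (S : Subgroup X) ⊓ centralizer ((S : Subgroup X) : Set X) := omegaOne_le p _ hz
  -- the statement in proper subgroups over `S`
  have hsub : ∀ H : Subgroup X, H ≠ ⊤ → (S : Subgroup X) ≤ H → ∀ h ∈ H,
      h * z * h⁻¹ ∈ (S : Subgroup X) →
      (∃ n ∈ H ⊓ normalizer ((Cfsg.inducedFunctor W₁ (S : Subgroup X) : Subgroup X) : Set X),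
        n * z * n⁻¹ = h * z * h⁻¹) ∧
      (∃ n ∈ H ⊓ normalizer ((Cfsg.inducedFunctor W₂ (S : Subgroup X) : Subgroup X) : Set X),
        n * z * n⁻¹ = h * z * h⁻¹) := by
    intro H hH hSH h hh hhz
    set T : Sylow p H := S.subtype hSH
    have hTm : ((T : Subgroup H)).map H.subtype = (S : Subgroup X) := by
      rw [Sylow.coe_subtype, subgroupOf_map_subtype, inf_eq_left.mpr hSH]
    have hinj : Set.InjOn H.subtype ((T : Subgroup H) : Set H) := H.subtype_injective.injOn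
    have hZT : omZ p (T : Subgroup H) ≤
        Cfsg.inducedFunctor W₁ (T : Subgroup H) ⊓ Cfsg.inducedFunctor W₂ (T : Subgroup H) := by
      rw [← map_le_map_iff_of_injective H.subtype_injective, map_inf _ _ _ H.subtype_injective,
        ← omZ_map _ hinj, ← inducedFunctor_map hW₁ _ T.2 hinj, ← inducedFunctor_map hW₂ _ T.2 hinj,
        hTm]
      exact hZ
    have hzT : (⟨z, hSH hzS.1⟩ : H) ∈ omZ p (T : Subgroup H) := by
      have : z ∈ (omZ p (T : Subgroup H)).map H.subtype := by rw [← omZ_map _ hinj, hTm]; exact hz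
      obtain ⟨y, hy, hyz⟩ := this
      rwa [show (⟨z, hSH hzS.1⟩ : H) = y from Subtype.ext hyz.symm]
    obtain ⟨⟨n₁, hn₁, e₁⟩, n₂, hn₂, e₂⟩ := IH (Nat.card H) (Core.card_lt_of_ne_top hH) (X := H)
      (fun Y _ _ hY => hfac Y (hY.trans (isSec_subgroup H))) T hZT hzT
      (g := ⟨h, hh⟩) (by rw [Sylow.coe_subtype]; exact hhz) rfl
    have hN : ∀ {W : ∀ (Q : Type u) [Group Q], Subgroup Q}, Cfsg.IsCharPFunctor.{u} p W →
        ∀ {n : H}, n ∈ normalizer ((Cfsg.inducedFunctor W (T : Subgroup H) : Subgroup H) : Set H) →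
        (n : X) ∈ H ⊓ normalizer ((Cfsg.inducedFunctor W (S : Subgroup X) : Subgroup X) : Set X) := by
      intro W hW n hn
      refine ⟨n.2, ?_⟩
      rw [← hTm, inducedFunctor_map hW _ T.2 hinj]
      exact le_normalizer_map H.subtype ⟨n, hn, rfl⟩
    exact ⟨⟨_, hN hW₁ hn₁, congrArg Subtype.val e₁⟩, ⟨_, hN hW₂ hn₂, congrArg Subtype.val e₂⟩⟩
  -- both normalisers proper
  have hboth : normalizer ((Cfsg.inducedFunctor W₁ (S : Subgroup X) : Subgroup X) : Set X) ≠ ⊤ →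
      normalizer ((Cfsg.inducedFunctor W₂ (S : Subgroup X) : Subgroup X) : Set X) ≠ ⊤ →
      ∀ c, Reach (normSet (iF {W₁, W₂} X) ⊤ (S : Subgroup X)) (S : Subgroup X) {z} c →
      (∃ n ∈ normalizer ((Cfsg.inducedFunctor W₁ (S : Subgroup X) : Subgroup X) : Set X),
        n * z * n⁻¹ = c * z * c⁻¹) ∧
      (∃ n ∈ normalizer ((Cfsg.inducedFunctor W₂ (S : Subgroup X) : Subgroup X) : Set X),
        n * z * n⁻¹ = c * z * c⁻¹) := by
    intro h1 h2 c hc
    have hS₁ := self_le_normalizer_functor (isConjugacyFunctor_induced (X := X) hW₁) S.2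
    have hS₂ := self_le_normalizer_functor (isConjugacyFunctor_induced (X := X) hW₂) S.2
    induction hc with
    | one => exact ⟨⟨1, one_mem _, rfl⟩, ⟨1, one_mem _, rfl⟩⟩
    | @step c x N hc hN hx hA ih =>
      have hmem : x * c * z * (x * c)⁻¹ ∈ (S : Subgroup X) := hA ⟨z, rfl, rfl⟩
      obtain ⟨_, ⟨W, hW, rfl⟩, rfl⟩ := hN
      obtain ⟨⟨n₁, hn₁, e₁⟩, n₂, hn₂, e₂⟩ := ih
      rcases hW with rfl | rfl
      · have e : x * n₁ * z * (x * n₁)⁻¹ = x * c * z * (x * c)⁻¹ := by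
          calc x * n₁ * z * (x * n₁)⁻¹ = x * (n₁ * z * n₁⁻¹) * x⁻¹ := by group
            _ = _ := by rw [e₁]; group
        obtain ⟨-, m, hm, em⟩ := hsub _ h1 hS₁ _ (mul_mem hx.2 hn₁) (e ▸ hmem)
        exact ⟨⟨_, mul_mem hx.2 hn₁, e⟩, ⟨m, hm.2, em.trans e⟩⟩
      · have e : x * n₂ * z * (x * n₂)⁻¹ = x * c * z * (x * c)⁻¹ := by
          calc x * n₂ * z * (x * n₂)⁻¹ = x * (n₂ * z * n₂⁻¹) * x⁻¹ := by group
            _ = _ := by rw [e₂]; group
        obtain ⟨⟨m, hm, em⟩, -⟩ := hsub _ h2 hS₂ _ (mul_mem hx.2 hn₂) (e ▸ hmem)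
        exact ⟨⟨m, hm.2, em.trans e⟩, ⟨_, mul_mem hx.2 hn₂, e⟩⟩
  -- one functor gives a normal subgroup
  have hone : ∀ {Wa Wb : ∀ (Q : Type u) [Group Q], Subgroup Q}, Cfsg.IsCharPFunctor.{u} p Wa →
      Cfsg.IsCharPFunctor.{u} p Wb →
      omZ p (S : Subgroup X) ≤ Cfsg.inducedFunctor Wa (S : Subgroup X) →
      omZ p (S : Subgroup X) ≤ Cfsg.inducedFunctor Wb (S : Subgroup X) →
      normalizer ((Cfsg.inducedFunctor Wb (S : Subgroup X) : Subgroup X) : Set X) = ⊤ →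
      (∀ (Y : Type u) [Group Y] [Finite Y], IsSec Y X →
        centralizer (Cfsg.pCore p Y : Set Y) ≤ Cfsg.pCore p Y → ∀ T : Sylow p Y, ∀ x : Y,
        ∃ a ∈ centralizer (omZ p (T : Subgroup Y) : Set Y),
          ∃ b ∈ normalizer ((Cfsg.inducedFunctor Wa (T : Subgroup Y) : Subgroup Y) : Set Y), x = a * b) →
      (∀ H : Subgroup X, H ≠ ⊤ → (S : Subgroup X) ≤ H → ∀ h ∈ H, h * z * h⁻¹ ∈ (S : Subgroup X) →
        ∃ n ∈ H ⊓ normalizer ((Cfsg.inducedFunctor Wa (S : Subgroup X) : Subgroup X) : Set X),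
          n * z * n⁻¹ = h * z * h⁻¹) →
      (∀ f : X →* X ⧸ Cfsg.pPrimeCore p X, f = QuotientGroup.mk' _ → Cfsg.pPrimeCore p X ≠ ⊥ →
        ∃ n ∈ normalizer ((Cfsg.inducedFunctor Wa ((S : Subgroup X).map f) :
          Subgroup (X ⧸ Cfsg.pPrimeCore p X)) : Set (X ⧸ Cfsg.pPrimeCore p X)),
          n * f z * n⁻¹ = f g * f z * (f g)⁻¹) →
      ∃ n ∈ normalizer ((Cfsg.inducedFunctor Wa (S : Subgroup X) : Subgroup X) : Set X),
        n * z * n⁻¹ = g * z * g⁻¹ := by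
    intro Wa Wb hWa hWb hZa hZb htop hfa hsuba hquot
    by_cases hP' : Cfsg.pPrimeCore p X = ⊥
    swap
    · set f := QuotientGroup.mk' (Cfsg.pPrimeCore p X) with hf
      have hinj : Set.InjOn f ((S : Subgroup X) : Set X) :=
        injOn_sylow_of_coprime _ S.2 f mk'_pPrimeCore_coprime
      obtain ⟨n, hn, hne⟩ := hquot f rfl hP'
      have hset := normSet_pPrime_le (F := {Wa}) (fun W hW => hW ▸ hWa)
        (QuotientGroup.mk'_surjective (Cfsg.pPrimeCore p X)) mk'_pPrimeCore_coprime S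
      have hnm : n ∈ (normalizer ((Cfsg.inducedFunctor Wa (S : Subgroup X) : Subgroup X) : Set X)).map f := by
        simp only [iF, Set.image_singleton, normSet_singleton, top_inf_eq,
          Set.singleton_eq_singleton_iff] at hset
        rw [← hset]; exact hn
      obtain ⟨m, hm, rfl⟩ := hnm
      refine ⟨m, hm, hinj ?_ hg ?_⟩
      · exact (isConjugacyFunctor_induced hWa _ S.2).1 ((mem_normalizer_iff.mp hm z).mp (hZa hz))
      · simpa using hne
    have hWQ : Cfsg.inducedFunctor Wb (S : Subgroup X) ≤ Cfsg.pCore p X := by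
      have := normalizer_eq_top_iff.mp htop
      exact Core.le_pCore (S.2.to_le (isConjugacyFunctor_induced hWb _ S.2).1)
    by_cases hC : centralizer (Cfsg.pCore p X : Set X) ≤ Cfsg.pCore p X
    · obtain ⟨a, ha, b, hb, hab⟩ := hfa X IsSec.refl hC S g⁻¹
      refine ⟨b⁻¹, inv_mem hb, ?_⟩
      have hga : g = b⁻¹ * a⁻¹ := by rw [← inv_inv g, hab, mul_inv_rev]
      have h1 : a⁻¹ * z * a⁻¹⁻¹ = z := by
        rw [← mem_centralizer_iff.mp (inv_mem ha) z hz, mul_inv_cancel_right]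
      rw [hga]
      calc b⁻¹ * z * b⁻¹⁻¹ = b⁻¹ * (a⁻¹ * z * a⁻¹⁻¹) * b⁻¹⁻¹ := by rw [h1]
        _ = _ := by group
    · obtain ⟨N, C, hN, hSN, -, -, hCe, hsplit⟩ := exists_frattini_split hP' hC S
      obtain ⟨h₁, hh₁, h₂, hh₂, -, hgh⟩ := hsplit g {z} (Set.singleton_subset_iff.mpr hzS.1)
        (by rintro _ ⟨_, rfl, rfl⟩; exact hg)
      have hfix : h₁ * z * h₁⁻¹ = z := by
        have hle : (S : Subgroup X) ⊔ C ≤ centralizer ({z} : Set X) := by
          rw [hCe]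
          refine sup_le (fun s hs => mem_centralizer_singleton_iff.mpr
            (mem_centralizer_iff.mp hzS.2 s hs))
            (sup_le (centralizer_le (Set.singleton_subset_iff.mpr (hWQ (hZb hz))))
              fun s hs => mem_centralizer_singleton_iff.mpr
                (mem_centralizer_iff.mp hzS.2 s (Core.pCore_le_sylow S hs)))
        rw [← mem_centralizer_iff.mp (hle hh₁) z rfl, mul_inv_cancel_right]
      have e : h₂ * z * h₂⁻¹ = g * z * g⁻¹ := by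
        rw [hgh]
        calc h₂ * z * h₂⁻¹ = h₂ * (h₁ * z * h₁⁻¹) * h₂⁻¹ := by rw [hfix]
          _ = _ := by group
      obtain ⟨n, hn, en⟩ := hsuba N hN hSN h₂ hh₂ (e ▸ hg)
      exact ⟨n, hn.2, en.trans e⟩
  have hZ₁ := hZ.trans inf_le_left
  have hZ₂ := hZ.trans inf_le_right
  have hquot : ∀ f : X →* X ⧸ Cfsg.pPrimeCore p X, f = QuotientGroup.mk' _ →
      Cfsg.pPrimeCore p X ≠ ⊥ →
      (∃ n ∈ normalizer ((Cfsg.inducedFunctor W₁ ((S : Subgroup X).map f) :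
          Subgroup (X ⧸ Cfsg.pPrimeCore p X)) : Set (X ⧸ Cfsg.pPrimeCore p X)),
          n * f z * n⁻¹ = f g * f z * (f g)⁻¹) ∧
      (∃ n ∈ normalizer ((Cfsg.inducedFunctor W₂ ((S : Subgroup X).map f) :
          Subgroup (X ⧸ Cfsg.pPrimeCore p X)) : Set (X ⧸ Cfsg.pPrimeCore p X)),
          n * f z * n⁻¹ = f g * f z * (f g)⁻¹) := by
    rintro f rfl hP'
    have hsurj := QuotientGroup.mk'_surjective (Cfsg.pPrimeCore p X)
    have hinj : Set.InjOn (QuotientGroup.mk' (Cfsg.pPrimeCore p X)) ((S : Subgroup X) : Set X) :=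
      injOn_sylow_of_coprime _ S.2 _ mk'_pPrimeCore_coprime
    have := IH (Nat.card (X ⧸ Cfsg.pPrimeCore p X)) (Core.card_quotient_lt hP')
      (X := X ⧸ Cfsg.pPrimeCore p X) (fun Y _ _ hY => hfac Y (hY.trans (isSec_of_surjective hsurj)))
      (S.mapSurjective hsurj)
      (by
        rw [Sylow.coe_mapSurjective, omZ_map _ hinj, inducedFunctor_map hW₁ _ S.2 hinj,
          inducedFunctor_map hW₂ _ S.2 hinj]
        exact (map_mono hZ).trans (map_inf_le _ _ _))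
      (z := QuotientGroup.mk' _ z) (by
        rw [Sylow.coe_mapSurjective, omZ_map _ hinj]; exact mem_map_of_mem _ hz)
      (g := QuotientGroup.mk' _ g) (by
        rw [Sylow.coe_mapSurjective, ← map_inv, ← map_mul, ← map_mul]; exact mem_map_of_mem _ hg) rfl
    simpa using this
  by_cases h2 : normalizer ((Cfsg.inducedFunctor W₂ (S : Subgroup X) : Subgroup X) : Set X) = ⊤
  · refine ⟨hone hW₁ hW₂ hZ₁ hZ₂ h2 (fun Y _ _ hY hc T => (hfac Y hY hc T).1)
      (fun H hH hSH h hh hhz => (hsub H hH hSH h hh hhz).1) (fun f hf hP' => (hquot f hf hP').1),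
      g, by rw [h2]; exact mem_top g, rfl⟩
  by_cases h1 : normalizer ((Cfsg.inducedFunctor W₁ (S : Subgroup X) : Subgroup X) : Set X) = ⊤
  · exact ⟨⟨g, by rw [h1]; exact mem_top g, rfl⟩,
      hone hW₂ hW₁ hZ₂ hZ₁ h1 (fun Y _ _ hY hc T => (hfac Y hY hc T).2.1)
        (fun H hH hSH h hh hhz => (hsub H hH hSH h hh hhz).2) (fun f hf hP' => (hquot f hf hP').2)⟩
  have hF : ∀ W ∈ ({W₁, W₂} : Set (∀ (Q : Type u) [Group Q], Subgroup Q)),
      Cfsg.IsCharPFunctor.{u} p W := by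
    rintro W (rfl | rfl)
    · exact hW₁
    · exact hW₂
  obtain ⟨c, hc, hce⟩ := (famFus_iff_forall (isConjugacyFunctor_iF hF) (sylIn_top S)).mp
    (gFus_pair_of_fac3 hW₁ hW₂ hfac) {z} g (mem_top g) (Set.singleton_subset_iff.mpr hzS.1)
    (by rintro _ ⟨_, rfl, rfl⟩; exact hg)
  rw [← hce z rfl]
  exact hboth h1 h2 c hc

end Cfsg.Agent.Control
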