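import Cfsg.Prelude.Def_Amalgam
import Cfsg.Agent.Control.Family
import Cfsg.Agent.Control.Chief

/-!
# Weak closure and conjugacy functors
-/

namespace Cfsg.Agent.Control

open Subgroup
open scoped commutatorElement

set_option linter.unusedSectionVars false

universe u

variable {G : Type u} [Group G] [Finite G] {p : ℕ} [hp : Fact p.Prime]

theorem exists_first_moving {𝒢 : Set (Subgroup G)} {A St : Subgroup G}
    (hSt : St ≤ normalizer (A : Set G)) {B : Set G} {g : G} (h : FamChain 𝒢 B g) (hB : B = A)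
    (hg : g ∉ St) :
    ∃ D ∈ 𝒢, A ≤ D ∧ ∃ n ∈ normalizer (D : Set G), n ∉ St := by
  induction h with
  | nil B => exact absurd (one_mem St) hg
  | @cons B g x D hD hBD hx _ ih =>
    subst hB
    by_cases hxS : x ∈ St
    · refine ih (Fusion.conjSet_eq_of_mem_normalizer (hSt hxS)) fun hgS => hg (mul_mem hxS hgS)
    · exact ⟨D, hD, hBD, x, hx, hxS⟩

/-- A central subgroup of `S` moved inside `S` is moved in the normalizer of a well-placed subgroup
`U` with `N(W(N_S U))` inside the stabiliser. -/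
theorem exists_wellPlaced_moving (S : Sylow p G) {W : Subgroup G → Subgroup G}
    (hW : Cfsg.IsConjugacyFunctor p W)
    (hWZ : ∀ P : Subgroup G, IsPGroup p P → P ⊓ centralizer (P : Set G) ≤ W P) {A St : Subgroup G}
    (hAS : A ≤ (S : Subgroup G)) (hAC : A ≤ centralizer ((S : Subgroup G) : Set G))
    (hSt : St ≤ normalizer (A : Set G))
    (hN : normalizer ((W (S : Subgroup G) : Subgroup G) : Set G) ≤ St) {g : G} (hg : g ∉ St)
    (hgA : cjSub g A ≤ (S : Subgroup G)) :
    ∃ U, Cfsg.IsWellPlaced p W (S : Subgroup G) U ∧ A ≤ U ∧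
      normalizer ((W ((S : Subgroup G) ⊓ normalizer (U : Set G)) : Subgroup G) : Set G) ≤ St ∧
      ∃ n ∈ normalizer (U : Set G), n ∉ St := by
  set 𝒢 := {T | Cfsg.IsWellPlaced p W (S : Subgroup G) T}
  have hch := famChain_of_subset S (allFull_wellPlaced S W) (movers_wellPlaced S hW) (g := g⁻¹)
    (SetLike.coe_subset_coe.mpr hAS) (by
      rw [conjSet_eq_cj, inv_inv, ← coe_cjSub]; exact SetLike.coe_subset_coe.mpr hgA)
  have hne : ({U | U ∈ 𝒢 ∧ A ≤ U ∧ ∃ n ∈ normalizer (U : Set G), n ∉ St} : Set (Subgroup G)).Nonempty := by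
    obtain ⟨D, h1, h2, h3⟩ := exists_first_moving hSt hch rfl (fun h => hg (by simpa using inv_mem h))
    exact ⟨D, h1, h2, h3⟩
  obtain ⟨U, ⟨hU, hAU, hmv⟩, hmax⟩ := Set.exists_max_image _
    (fun U : Subgroup G => Nat.card ((S : Subgroup G) ⊓ normalizer (U : Set G) : Subgroup G))
    (Set.toFinite _) hne
  refine ⟨U, hU, hAU, ?_, hmv⟩
  by_contra hcon
  obtain ⟨x, hx, hxS⟩ := SetLike.not_le_iff_exists.mp hcon
  set R := (S : Subgroup G) ⊓ normalizer (U : Set G) with hR
  rcases (inf_le_left : R ≤ (S : Subgroup G)).eq_or_lt with hRS | hRS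
  · exact hxS (hN (hRS ▸ hx))
  have hAR : A ≤ R := le_inf hAS (hAU.trans le_normalizer)
  have hAV : A ≤ W R := (le_inf hAR (hAC.trans (centralizer_le (SetLike.coe_subset_coe.mpr
    (inf_le_left : R ≤ (S : Subgroup G)))))).trans (hWZ R (S.2.to_le inf_le_left))
  have hVwp : W R ∈ 𝒢 := ⟨(hW R (S.2.to_le inf_le_left)).1.trans inf_le_left, fun i => by
    rw [hR, functorTower_shift W (S : Subgroup G) U i]; exact hU.2 (i + 1)⟩
  have hlt := lt_norm_functor S (𝓕 := {W}) (fun V hV => hV ▸ hW) rfl hRS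
  have := hmax (W R) ⟨hVwp, hAV, x, hx, hxS⟩
  exact absurd (Set.Finite.card_lt_card (Set.toFinite _) (SetLike.coe_ssubset_coe.mpr hlt)) this.not_gt

/-- The functor `W` seen inside the subgroup `H`. -/
def restrictFunctor (W : Subgroup G → Subgroup G) (H : Subgroup G) : Subgroup H → Subgroup H :=
  fun P => (W (P.map H.subtype)).subgroupOf H

theorem map_restrictFunctor {W : Subgroup G → Subgroup G} (hW : Cfsg.IsConjugacyFunctor p W)
    {H : Subgroup G} {P : Subgroup H} (hP : IsPGroup p P) :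
    (restrictFunctor W H P).map H.subtype = W (P.map H.subtype) := by
  rw [restrictFunctor, subgroupOf, map_comap_eq, range_subtype, inf_eq_right.mpr]
  exact (hW _ (hP.map _)).1.trans (map_subtype_le _)

theorem isConjugacyFunctor_restrict {W : Subgroup G → Subgroup G}
    (hW : Cfsg.IsConjugacyFunctor p W) (H : Subgroup G) :
    Cfsg.IsConjugacyFunctor p (restrictFunctor W H) := by
  intro P hP
  refine ⟨?_, fun hne he => ?_, fun g => map_injective H.subtype_injective ?_⟩
  · rw [← map_le_map_iff_of_injective H.subtype_injective, map_restrictFunctor hW hP]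
    exact (hW _ (hP.map _)).1
  · refine (hW _ (hP.map H.subtype)).2.1
      (fun h => hne ((map_eq_bot_iff_of_injective _ H.subtype_injective).mp h)) ?_
    rw [← map_restrictFunctor hW hP, he, Subgroup.map_bot]
  · rw [map_restrictFunctor hW (hP.map _), map_map, map_map]
    have e : H.subtype.comp (MulAut.conj g).toMonoidHom =
        (MulAut.conj (g : G)).toMonoidHom.comp H.subtype := by
      ext x; simp
    rw [e, ← map_map, (hW _ (hP.map H.subtype)).2.2 (g : G), ← map_map,
      map_restrictFunctor hW hP]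

/-- Weak closure of the elements fixed by `N(W T)`, in every subgroup. -/
theorem weakClosureIn {W : Subgroup G → Subgroup G} (hW : Cfsg.IsConjugacyFunctor p W)
    (hWZ : ∀ P : Subgroup G, IsPGroup p P → P ⊓ centralizer (P : Set G) ≤ W P)
    (hloc : ∀ H T : Subgroup G, T ≤ H → IsPGroup p T → ¬ p ∣ T.relIndex H →
      ¬ H ≤ normalizer ((W T : Subgroup G) : Set G) →
      ∃ g : G, g ∈ T ∧ g ∉ Cfsg.pCoreOf p H ∧ ∀ U V : Subgroup H, Cfsg.IsChiefFactor U V →
        U.map H.subtype ≤ Cfsg.pCoreOf p H ⊓ centralizer ((Cfsg.pCoreOf p H : Subgroup G) : Set G) →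
        Cfsg.iterCommutator (U.map H.subtype) (zpowers g) (p - 1) ≤ V.map H.subtype)
    {H T : Subgroup G} (hT : SylIn p T H) {x : G}
    (hx : x ∈ T ⊓ centralizer ((H ⊓ normalizer ((W T : Subgroup G) : Set G) : Subgroup G) : Set G))
    {h : G} (hh : h ∈ H) (hhx : h * x * h⁻¹ ∈ T) : h * x * h⁻¹ = x := by
  induction hn : Nat.card H using Nat.strong_induction_on generalizing H T x h with
  | _ n IH =>
  subst hn
  by_contra hne
  have hsub : ∀ K : Subgroup H, (K : Subgroup H) ≠ ⊤ → Nat.card (K.map H.subtype) < Nat.card H := by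
    intro K hK
    rw [card_map_of_injective H.subtype_injective]
    exact Core.card_lt_of_ne_top hK
  set W' := restrictFunctor W H with hW'def
  have hW' : Cfsg.IsConjugacyFunctor p W' := isConjugacyFunctor_restrict hW H
  have hWZ' : ∀ P : Subgroup H, IsPGroup p P → P ⊓ centralizer (P : Set H) ≤ W' P := by
    intro P hP
    rw [← map_le_map_iff_of_injective H.subtype_injective, map_restrictFunctor hW hP]
    refine le_trans ?_ (hWZ _ (hP.map _))
    rintro _ ⟨y, hy, rfl⟩
    refine mem_inf.mpr ⟨⟨y, hy.1, rfl⟩, mem_centralizer_iff.mpr ?_⟩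
    rintro _ ⟨z, hz, rfl⟩
    exact congrArg H.subtype (mem_centralizer_iff.mp hy.2 z hz)
  obtain ⟨S, hS⟩ : ∃ S : Sylow p H, (S : Subgroup H) = T.subgroupOf H :=
    ⟨(hT.isPGroup.comap_subtype (K := H)).toSylow hT.not_dvd, rfl⟩
  have hSmap : (S : Subgroup H).map H.subtype = T := by
    rw [hS, subgroupOf, map_comap_eq, range_subtype, inf_eq_right.mpr hT.le]
  have hxH : x ∈ H := hT.le hx.1
  set x' : H := ⟨x, hxH⟩
  set h' : H := ⟨h, hh⟩
  set St := centralizer ({x'} : Set H) with hStdef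
  have hmemSt : ∀ k : H, k ∈ St ↔ (k : G) * x = x * (k : G) := by
    intro k
    rw [hStdef, mem_centralizer_singleton_iff]
    constructor
    · exact fun e => congrArg Subtype.val e
    · exact fun e => Subtype.ext e
  have hStN : St ≤ normalizer (zpowers x' : Set H) := fun k hk => by
    refine mem_normalizer_of_cjSub_eq ?_
    have hk' : k * x' * k⁻¹ = x' := by
      rw [mul_inv_eq_iff_eq_mul]; exact Subtype.ext ((hmemSt k).mp hk)
    rw [cjSub, MonoidHom.map_zpowers]
    exact congrArg zpowers hk'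
  have hNW : normalizer ((W' (S : Subgroup H) : Subgroup H) : Set H) ≤ St := by
    intro k hk
    rw [hmemSt]
    refine mem_centralizer_iff.mp hx.2 k (mem_inf.mpr ⟨k.2, ?_⟩)
    refine mem_normalizer_of_cjSub_eq ?_
    have h1 : cjSub k (W' (S : Subgroup H)) = W' (S : Subgroup H) := cjSub_eq_of_mem hk
    rw [← hSmap, ← map_restrictFunctor hW S.2]
    conv_rhs => rw [← hW'def, ← h1]
    rw [cjSub, cjSub, map_map, map_map]
    rfl
  have hxS : x' ∈ (S : Subgroup H) := by rw [hS]; exact hx.1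
  have hxC : zpowers x' ≤ centralizer ((S : Subgroup H) : Set H) := by
    rw [zpowers_le]
    refine mem_centralizer_iff.mpr fun s hs => Subtype.ext ?_
    exact (hmemSt s).mp (hNW (self_le_normalizer_functor hW' S.2 hs))
  obtain ⟨U, hU, hxU, hNU, n, hn, hnSt⟩ := exists_wellPlaced_moving S hW' hWZ'
    (zpowers_le.mpr hxS) hxC hStN hNW (g := h') (fun hc => hne (by
      rw [mul_inv_eq_iff_eq_mul]; exact (hmemSt h').mp hc))
    (by
      rw [cjSub, MonoidHom.map_zpowers, zpowers_le]
      change h' * x' * h'⁻¹ ∈ _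
      rw [hS]
      exact hhx)
  by_cases hUn : normalizer (U : Set H) = ⊤
  · -- `x` lies in the centre of `O_p`
    have hUQ : U ≤ Cfsg.pCore p H := by
      have := normalizer_eq_top_iff.mp hUn
      exact Core.le_pCore (S.2.to_le hU.1)
    have hHN : ¬ H ≤ normalizer ((W T : Subgroup G) : Set G) := fun hle => hne (by
      rw [mul_inv_eq_iff_eq_mul]
      exact mem_centralizer_iff.mp hx.2 h (mem_inf.mpr ⟨hh, hle hh⟩))
    obtain ⟨g, hgT, hgQ, hgood⟩ := hloc H T hT.le hT.isPGroup hT.not_dvd hHN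
    set A := Cfsg.pCore p H ⊓ centralizer (Cfsg.pCore p H : Set H)
    have hgood' : GoodOn p A ⟨g, hT.le hgT⟩ := by
      intro U₁ V₁ hUV hU₁
      rw [← map_le_map_iff_of_injective H.subtype_injective, map_iterCommutator,
        MonoidHom.map_zpowers]
      refine hgood U₁ V₁ hUV (le_inf (map_mono (hU₁.trans inf_le_left)) ?_)
      rintro _ ⟨y, hy, rfl⟩
      refine mem_centralizer_iff.mpr ?_
      rintro _ ⟨z, hz, rfl⟩
      exact congrArg H.subtype (mem_centralizer_iff.mp (hU₁ hy).2 z hz)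
    have hxA : x' ∈ A := mem_inf.mpr ⟨hUQ (hxU (mem_zpowers x')),
      (centralizer_le (SetLike.coe_subset_coe.mpr (Core.pCore_le_sylow S))) (hxC (mem_zpowers x'))⟩
    have hmax : UniqueMaxOver (S : Subgroup H) St := by
      refine ⟨(self_le_normalizer_functor hW' S.2).trans hNW, fun he => hne ?_, fun K hSK hK => ?_⟩
      · rw [mul_inv_eq_iff_eq_mul]; exact (hmemSt h').mp (he ▸ mem_top h')
      intro k hk
      rw [hmemSt, ← mul_inv_eq_iff_eq_mul]
      have hTK : SylIn p T (K.map H.subtype) := hT.mono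
        (hSmap ▸ map_mono hSK) (map_subtype_le _)
      refine IH _ (hsub K hK) hTK ⟨hx.1, centralizer_le (SetLike.coe_subset_coe.mpr
        (inf_le_inf_right _ (map_subtype_le K))) hx.2⟩ ⟨k, hk, rfl⟩ ?_ rfl
      have : k * x' * k⁻¹ ∈ (S : Subgroup H) := Core.pCore_le_sylow S
        ((inferInstance : (Cfsg.pCore p H).Normal).conj_mem _ hxA.1 k)
      rw [hS] at this
      exact this
    have hcent := mem_center_of_good S hmax (g := ⟨g, hT.le hgT⟩) (by rw [hS]; exact hgT)
      (fun hc => hgQ ⟨_, hc, rfl⟩) (A := A) inferInstance inf_le_left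
      ⟨⟨fun a b => Subtype.ext (mem_centralizer_iff.mp b.2.2 a a.2.1)⟩⟩ hgood' hxA
      (fun m hm => Subtype.ext ((hmemSt m).mp hm))
    apply hne
    rw [mul_inv_eq_iff_eq_mul]
    exact congrArg Subtype.val (mem_center_iff.mp hcent h')
  · refine hnSt ?_
    rw [hmemSt, ← mul_inv_eq_iff_eq_mul]
    set R := (S : Subgroup H) ⊓ normalizer (U : Set H) with hRdef
    have hR : SylIn p (R.map H.subtype) ((normalizer (U : Set H)).map H.subtype) :=
      (sylIn_full S (hU.2 0)).map_injective H.subtype_injective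
    have hxR : x' ∈ R := ⟨hxS, le_normalizer (hxU (mem_zpowers x'))⟩
    refine IH _ (hsub _ hUn) hR ⟨⟨x', hxR, rfl⟩, mem_centralizer_iff.mpr ?_⟩ ⟨n, hn, rfl⟩ ?_ rfl
    · rintro _ ⟨⟨k, hk, rfl⟩, hkN⟩
      refine (hmemSt k).mp (hNU ?_)
      refine mem_normalizer_of_cjSub_eq (map_injective H.subtype_injective ?_)
      have h1 : cjSub (k : G) (W (R.map H.subtype)) = W (R.map H.subtype) := cjSub_eq_of_mem hkN
      rw [map_restrictFunctor hW (S.2.to_inf_left)]
      refine Eq.trans ?_ h1
      rw [← map_restrictFunctor hW (S.2.to_inf_left : IsPGroup p R), cjSub, cjSub, map_map,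
        map_map]
      rfl
    · have hnx : n * x' * n⁻¹ ∈ U :=
        (mem_normalizer_iff.mp hn x').mp (hxU (mem_zpowers x'))
      exact ⟨n * x' * n⁻¹, mem_inf.mpr ⟨hU.1 hnx, le_normalizer hnx⟩, rfl⟩

end Cfsg.Agent.Control
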